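import Cfsg.Agent.ChevalleyStructure.TwF4.Rel

/-!
Ranks of `g - 1` for elements `g` of the Chevalley group of type `F₄` in characteristic 2 on the
52-dimensional adjoint module, on its submodule `I` (short root vectors and `h₁, h₂`) and on the
quotient `V / I`: class invariants, computed in the kernel by Gaussian elimination on bit masks.
-/

set_option autoImplicit false
set_option linter.unusedSectionVars false

namespace Cfsg.Agent.FourTwo.RankInv

open Cfsg.Lie Cfsg.Agent.ChevalleyStructure.TwF4.Bits Cfsg.Agent.ChevalleyStructure.TwF4.Tables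
  Cfsg.Agent.ChevalleyStructure.TwF4.Rel

/-! ### rank of a list of bit vectors -/

/-- fast bit test -/
def tb (x p : ℕ) : Bool := Nat.beq (Nat.land (Nat.shiftRight x p) 1) 1

theorem tb_eq (x p : ℕ) : tb x p = x.testBit p := by
  unfold tb
  rw [Nat.testBit, Bool.eq_iff_iff, Nat.beq_eq]
  have h : Nat.land (Nat.shiftRight x p) 1 = 1 &&& (x >>> p) := by
    rw [Nat.and_comm]; rfl
  rw [h, Nat.one_and_eq_mod_two, bne_iff_ne]
  omega

/-- clear the leading bit of `r` in `x` -/
def red (r x : ℕ) : ℕ := bif tb x (Nat.log2 r) then Nat.xor x r else x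

/-- Gaussian elimination: the rank of a list of bit vectors -/
def rkF : ℕ → List ℕ → ℕ
  | 0, _ => 0
  | _ + 1, [] => 0
  | n + 1, r :: l => bif Nat.beq r 0 then rkF n l else Nat.succ (rkF n (l.map (red r)))

variable {K : Type*} [Field K]

/-- the vector of a bit mask -/
def vec (K : Type*) [Field K] (m : ℕ) : chevF4.Idx → K := fun j => if m.testBit (pos j) then 1 else 0

theorem vec_zero : vec K 0 = 0 := by
  funext j
  simp [vec]

theorem vec_xor [CharP K 2] (a b : ℕ) : vec K (a ^^^ b) = vec K a + vec K b := by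
  funext j
  rw [Pi.add_apply]
  unfold vec
  rw [Nat.testBit_xor]
  cases a.testBit (pos j) <;> cases b.testBit (pos j) <;> simp [CharTwo.add_self_eq_zero]

theorem red_eq (r x : ℕ) : red r x = if x.testBit (Nat.log2 r) then x ^^^ r else x := by
  unfold red
  rw [tb_eq]
  cases x.testBit (Nat.log2 r) <;> rfl

theorem testBit_red (r x : ℕ) (hr : r ≠ 0) : (red r x).testBit (Nat.log2 r) = false := by
  rw [red_eq]
  split
  · rename_i h
    rw [Nat.testBit_xor, h, Nat.testBit_log2 hr]
    rfl
  · rename_i h
    simpa using h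

theorem red_lt (r x : ℕ) (hr : r < 2 ^ 52) (hx : x < 2 ^ 52) : red r x < 2 ^ 52 := by
  rw [red_eq]
  split
  · exact Nat.xor_lt_two_pow hx hr
  · exact hx

/-- the span of a list of bit vectors -/
def sp (K : Type*) [Field K] (l : List ℕ) : Submodule K (chevF4.Idx → K) :=
  Submodule.span K {v | ∃ x ∈ l, v = vec K x}

theorem sp_nil : sp K [] = ⊥ := by
  unfold sp
  simp

theorem mem_sp {l : List ℕ} {x : ℕ} (h : x ∈ l) : vec K x ∈ sp K l :=
  Submodule.subset_span ⟨x, h, rfl⟩

theorem sp_cons (r : ℕ) (l : List ℕ) : sp K (r :: l) = Submodule.span K {vec K r} ⊔ sp K l := by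
  apply le_antisymm
  · unfold sp
    rw [Submodule.span_le]
    rintro v ⟨x, hx, rfl⟩
    rcases List.mem_cons.1 hx with rfl | hx
    · exact Submodule.mem_sup_left (Submodule.mem_span_singleton_self _)
    · exact Submodule.mem_sup_right (mem_sp hx)
  · rw [sup_le_iff]
    constructor
    · rw [Submodule.span_singleton_le_iff_mem]
      exact mem_sp List.mem_cons_self
    · unfold sp
      apply Submodule.span_mono
      rintro v ⟨x, hx, rfl⟩
      exact ⟨x, List.mem_cons_of_mem _ hx, rfl⟩

theorem sp_red [CharP K 2] (r : ℕ) (l : List ℕ) :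
    Submodule.span K {vec K r} ⊔ sp K l = Submodule.span K {vec K r} ⊔ sp K (l.map (red r)) := by
  have hself : vec K r ∈ Submodule.span K {vec K r} := Submodule.mem_span_singleton_self _
  apply le_antisymm
  · rw [sup_le_iff]
    refine ⟨le_sup_left, ?_⟩
    unfold sp
    rw [Submodule.span_le]
    rintro v ⟨x, hx, rfl⟩
    have h1 : vec K (red r x) ∈ sp K (l.map (red r)) := mem_sp (List.mem_map_of_mem hx)
    have h2 : vec K x = vec K (red r x) ∨ vec K x = vec K (red r x) + vec K r := by
      rw [red_eq]
      split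
      · right
        rw [vec_xor, add_assoc, ← vec_xor r r, Nat.xor_self, vec_zero, add_zero]
      · left; rfl
    rcases h2 with h2 | h2
    · rw [SetLike.mem_coe, h2]
      exact Submodule.mem_sup_right h1
    · rw [SetLike.mem_coe, h2]
      exact Submodule.add_mem _ (Submodule.mem_sup_right h1) (Submodule.mem_sup_left hself)
  · rw [sup_le_iff]
    refine ⟨le_sup_left, ?_⟩
    unfold sp
    rw [Submodule.span_le]
    rintro v ⟨y, hy, rfl⟩
    obtain ⟨x, hx, rfl⟩ := List.mem_map.1 hy
    rw [SetLike.mem_coe, red_eq]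
    split
    · rw [vec_xor]
      exact Submodule.add_mem _ (Submodule.mem_sup_right (mem_sp hx)) (Submodule.mem_sup_left hself)
    · exact Submodule.mem_sup_right (mem_sp hx)

theorem vec_ne (r : ℕ) (hr : r ≠ 0) (hb : r < 2 ^ 52) : ∃ j : chevF4.Idx, pos j = Nat.log2 r ∧ vec K r j = 1 := by
  have h1 : Nat.log2 r < 52 := (Nat.log2_lt hr).2 hb
  obtain ⟨j, hj⟩ := posOK.surj _ h1
  refine ⟨j, hj, ?_⟩
  unfold vec
  rw [hj, Nat.testBit_log2 hr]
  simp

theorem rkF_spec [CharP K 2] (n : ℕ) : ∀ l : List ℕ, l.length ≤ n → (∀ x ∈ l, x < 2 ^ 52) →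
    Module.finrank K (sp K l) = rkF n l := by
  induction n with
  | zero =>
    intro l hl _
    have : l = [] := List.length_eq_zero_iff.1 (Nat.le_zero.1 hl)
    subst this
    rw [sp_nil, finrank_bot]
    rfl
  | succ n ih =>
    intro l hl hb
    cases l with
    | nil => rw [sp_nil, finrank_bot]; rfl
    | cons r l =>
      have hl' : l.length ≤ n := by simpa using hl
      have hb' : ∀ x ∈ l, x < 2 ^ 52 := fun x hx => hb x (List.mem_cons_of_mem _ hx)
      have hr : r < 2 ^ 52 := hb r List.mem_cons_self
      by_cases h0 : r = 0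
      · subst h0
        have h1 : rkF (n + 1) (0 :: l) = rkF n l := rfl
        rw [h1, sp_cons, vec_zero, Submodule.span_zero_singleton, bot_sup_eq]
        exact ih l hl' hb'
      · have h1 : rkF (n + 1) (r :: l) = rkF n (l.map (red r)) + 1 := by
          change (bif Nat.beq r 0 then rkF n l else Nat.succ (rkF n (l.map (red r)))) = _
          have : Nat.beq r 0 = false := by
            cases r with
            | zero => exact absurd rfl h0
            | succ k => rfl
          rw [this]
          rfl
        have h2 : Module.finrank K (sp K (l.map (red r))) = rkF n (l.map (red r)) := by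
          apply ih
          · rw [List.length_map]; exact hl'
          · intro x hx
            obtain ⟨y, hy, rfl⟩ := List.mem_map.1 hx
            exact red_lt r y hr (hb' y hy)
        rw [sp_cons, sp_red, h1, ← h2]
        obtain ⟨j, hj, hj1⟩ := vec_ne (K := K) r h0 hr
        have hnot : vec K r ∉ sp K (l.map (red r)) := by
          intro hmem
          have hz : ∀ v ∈ sp K (l.map (red r)), v j = 0 := by
            intro v hv
            unfold sp at hv
            induction hv using Submodule.span_induction with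
            | mem v hv =>
              obtain ⟨y, hy, rfl⟩ := hv
              obtain ⟨x, _, rfl⟩ := List.mem_map.1 hy
              unfold vec
              rw [hj, testBit_red r x h0]
              simp
            | zero => rfl
            | add a b _ _ ha hb => rw [Pi.add_apply, ha, hb, add_zero]
            | smul c a _ ha => rw [Pi.smul_apply, ha, smul_zero]
          have := hz _ hmem
          rw [hj1] at this
          exact one_ne_zero this
        have hne : vec K r ≠ 0 := by
          intro h
          rw [h] at hj1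
          exact zero_ne_one hj1
        have hdis : Disjoint (Submodule.span K {vec K r}) (sp K (l.map (red r))) :=
          ((Submodule.disjoint_span_singleton' hne).2 hnot).symm
        have h3 := Submodule.finrank_sup_add_finrank_inf_eq (Submodule.span K {vec K r})
          (sp K (l.map (red r)))
        rw [hdis.eq_bot, finrank_bot, add_zero, finrank_span_singleton hne] at h3
        rw [h3, add_comm]

/-! ### packed matrices of words -/

/-- multiply the packed matrix `M` on the left by `x_r(1)` -/
def stepM (r M : ℕ) : ℕ := Nat.xor M (lmul (Els r ++ Fls r) M)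

/-- packed matrix of a product of root elements `x_r(1)` -/
def wordM : List ℕ → ℕ
  | [] => idN
  | r :: l => stepM r (wordM l)

theorem okS_append (l l' : Sparse) (h : okS l = true) (h' : okS l' = true) : okS (l ++ l') = true := by
  unfold okS at *
  rw [List.all_append, h, h']
  rfl

theorem sem_stepM [CharP K 2] (r M : ℕ) (hr : r < 48) :
    sem pos K (stepM r M) = chevF4.x K r 1 * sem pos K M := by
  unfold stepM
  have h : Nat.xor M (lmul (Els r ++ Fls r) M) = M ^^^ lmul (Els r ++ Fls r) M := rfl
  rw [h, sem_xor, sem_lmul posOK _ (okS_append _ _ (okS_Els r) (okS_Fls r)), x_eq r hr,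
    semS_append, one_smul, one_pow, one_smul, add_assoc, Matrix.add_mul 1, Matrix.one_mul]

/-- the matrix of a word -/
def wordX (K : Type*) [Field K] (w : List ℕ) : Matrix chevF4.Idx chevF4.Idx K :=
  (w.map fun r => chevF4.x K r 1).prod

theorem sem_wordM [CharP K 2] (w : List ℕ) (hw : ∀ r ∈ w, r < 48) :
    sem pos K (wordM w) = wordX K w := by
  induction w with
  | nil => exact sem_idN
  | cons r w ih =>
    have h1 : sem pos K (wordM (r :: w)) = chevF4.x K r 1 * sem pos K (wordM w) :=
      sem_stepM r _ (hw r List.mem_cons_self)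
    rw [h1, ih fun r hr => hw r (List.mem_cons_of_mem _ hr)]
    simp [wordX]

/-- row `n` of a packed matrix -/
def rowN (M n : ℕ) : ℕ := Nat.mod (Nat.shiftRight M (Nat.mul 52 n)) (Nat.pow 2 52)

theorem rowN_lt (M n : ℕ) : rowN M n < 2 ^ 52 := Nat.mod_lt _ (by norm_num)

theorem testBit_rowN (M n p : ℕ) (hp : p < 52) : (rowN M n).testBit p = M.testBit (52 * n + p) := by
  have h : rowN M n = (M >>> (52 * n)) % 2 ^ 52 := rfl
  rw [h, Nat.testBit_mod_two_pow, Nat.testBit_shiftRight]
  simp [hp]

/-! ### the two blocks -/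

/-- mask of the coordinates `h₃, h₄` and of the long root vectors -/
def maskJ : ℕ := 0xee01c7e38077c

/-- mask of the coordinates `h₁, h₂` and of the short root vectors -/
def maskI : ℕ := Nat.xor (2 ^ 52 - 1) maskJ

/-- coordinates selected by a mask -/
def dg (K : Type*) [Field K] (m : ℕ) : Matrix chevF4.Idx chevF4.Idx K :=
  Matrix.diagonal fun i => if m.testBit (pos i) then 1 else 0

theorem dg_mul_mul_apply (m : ℕ) (A : Matrix chevF4.Idx chevF4.Idx K) (i j : chevF4.Idx) :
    (dg K m * A * dg K m) i j = if m.testBit (pos i) = true ∧ m.testBit (pos j) = true then A i j else 0 := by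
  unfold dg
  rw [Matrix.mul_diagonal, Matrix.diagonal_mul]
  by_cases h1 : m.testBit (pos i) = true <;> by_cases h2 : m.testBit (pos j) = true <;> simp [h1, h2]

theorem dg_add : dg K maskJ + dg K maskI = 1 := by
  have h : ((List.range 52).all fun n => (maskI.testBit n == !(maskJ.testBit n))) = true := by
    decide +kernel
  unfold dg
  rw [Matrix.diagonal_add, ← Matrix.diagonal_one]
  congr 1
  funext i
  rw [List.all_eq_true] at h
  have h1 := h (pos i) (List.mem_range.2 (posOK.lt i))
  rw [beq_iff_eq] at h1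
  rw [h1]
  cases maskJ.testBit (pos i) <;> simp

theorem dg_sq (m : ℕ) : dg K m * dg K m = dg K m := by
  unfold dg
  rw [Matrix.diagonal_mul_diagonal]
  congr 1
  funext i
  cases m.testBit (pos i) <;> simp

/-- the block of `g - 1` -/
def blk (m : ℕ) (g : Matrix chevF4.Idx chevF4.Idx K) : Matrix chevF4.Idx chevF4.Idx K :=
  dg K m * (g - 1) * dg K m

/-- rows of the masked matrix `M - 1` -/
def rowsM (m M : ℕ) (L : List ℕ) : List ℕ := L.map fun n => Nat.land (rowN (Nat.xor M idN) n) m

theorem blk_sem [CharP K 2] (m M : ℕ) (i : chevF4.Idx) (hm : m.testBit (pos i) = true) :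
    blk m (sem pos K M) i = vec K (Nat.land (rowN (Nat.xor M idN) (pos i)) m) := by
  funext j
  have h1 : sem pos K M - 1 = sem pos K (M ^^^ idN) := by
    rw [sem_xor, sem_idN]
    ext a b
    rw [Matrix.sub_apply, Matrix.add_apply, CharTwo.sub_eq_add]
  unfold blk vec
  rw [dg_mul_mul_apply, h1, sem_apply]
  have h2 : (Nat.land (rowN (Nat.xor M idN) (pos i)) m).testBit (pos j) =
      ((M ^^^ idN).testBit (52 * pos i + pos j) && m.testBit (pos j)) := by
    have : Nat.land (rowN (Nat.xor M idN) (pos i)) m = rowN (M ^^^ idN) (pos i) &&& m := rfl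
    rw [this, Nat.testBit_and, testBit_rowN _ _ _ (posOK.lt j)]
  rw [h2]
  cases (M ^^^ idN).testBit (52 * pos i + pos j) <;> cases h3 : m.testBit (pos j) <;> simp [hm]

theorem blk_sem_zero (m : ℕ) (A : Matrix chevF4.Idx chevF4.Idx K) (i : chevF4.Idx)
    (hm : ¬ m.testBit (pos i) = true) : blk m A i = 0 := by
  funext j
  unfold blk
  rw [dg_mul_mul_apply, if_neg (fun h => hm h.1)]
  rfl

/-- all rows of the mask: the exact rank of the block -/
def rkM (m M : ℕ) : ℕ := rkF 52 ((List.range 52).map fun n =>
  bif tb m n then Nat.land (rowN (Nat.xor M idN) n) m else 0)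

theorem land_lt (M n m : ℕ) : Nat.land (rowN M n) m < 2 ^ 52 :=
  lt_of_le_of_lt Nat.and_le_left (rowN_lt M n)

theorem rank_blk [CharP K 2] (m M : ℕ) : (blk m (sem pos K M)).rank = rkM m M := by
  rw [Matrix.rank_eq_finrank_span_row]
  have h : Submodule.span K (Set.range (blk m (sem pos K M)).row) =
      sp K ((List.range 52).map fun n =>
        bif tb m n then Nat.land (rowN (Nat.xor M idN) n) m else 0) := by
    apply le_antisymm
    · rw [Submodule.span_le]
      rintro v ⟨i, rfl⟩
      rw [SetLike.mem_coe]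
      by_cases hm : m.testBit (pos i) = true
      · have h1 : (blk m (sem pos K M)).row i = vec K (bif tb m (pos i) then
            Nat.land (rowN (Nat.xor M idN) (pos i)) m else 0) := by
          rw [tb_eq, hm]
          exact blk_sem m M i hm
        rw [h1]
        exact mem_sp (List.mem_map_of_mem (f := fun n => bif tb m n then
          Nat.land (rowN (Nat.xor M idN) n) m else 0) (List.mem_range.2 (posOK.lt i)))
      · have h1 : (blk m (sem pos K M)).row i = 0 := blk_sem_zero m _ i hm
        rw [h1]
        exact Submodule.zero_mem _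
    · unfold sp
      rw [Submodule.span_le]
      rintro v ⟨x, hx, rfl⟩
      obtain ⟨n, hn, rfl⟩ := List.mem_map.1 hx
      obtain ⟨i, rfl⟩ := posOK.surj n (List.mem_range.1 hn)
      rw [SetLike.mem_coe]
      by_cases hm : m.testBit (pos i) = true
      · have h1 : vec K (bif tb m (pos i) then Nat.land (rowN (Nat.xor M idN) (pos i)) m else 0) =
            (blk m (sem pos K M)).row i := by
          rw [tb_eq, hm]
          exact (blk_sem m M i hm).symm
        rw [h1]
        exact Submodule.subset_span ⟨i, rfl⟩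
      · have h1 : m.testBit (pos i) = false := by simpa using hm
        rw [tb_eq, h1]
        have : vec K (bif false then Nat.land (rowN (Nat.xor M idN) (pos i)) m else 0) = 0 := vec_zero
        rw [this]
        exact Submodule.zero_mem _
  rw [h]
  unfold rkM
  apply rkF_spec
  · simp
  · intro x hx
    obtain ⟨n, _, rfl⟩ := List.mem_map.1 hx
    cases tb m n
    · exact Nat.two_pow_pos 52
    · exact land_lt _ _ _

/-- a lower bound from a selection of rows -/
theorem rank_blk_ge [CharP K 2] (m M : ℕ) (L : List ℕ) (hL : ∀ n ∈ L, n < 52 ∧ m.testBit n = true) :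
    rkF L.length (rowsM m M L) ≤ (blk m (sem pos K M)).rank := by
  rw [Matrix.rank_eq_finrank_span_row]
  have h : sp K (rowsM m M L) ≤ Submodule.span K (Set.range (blk m (sem pos K M)).row) := by
    unfold sp
    rw [Submodule.span_le]
    rintro v ⟨x, hx, rfl⟩
    obtain ⟨n, hn, rfl⟩ := List.mem_map.1 hx
    obtain ⟨h1, h2⟩ := hL n hn
    obtain ⟨i, rfl⟩ := posOK.surj n h1
    rw [SetLike.mem_coe, ← blk_sem m M i h2]
    exact Submodule.subset_span ⟨i, rfl⟩
  have h3 : Module.finrank K (sp K (rowsM m M L)) = rkF L.length (rowsM m M L) := by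
    apply rkF_spec
    · simp [rowsM]
    · intro x hx
      obtain ⟨n, _, rfl⟩ := List.mem_map.1 hx
      exact land_lt _ _ _
  rw [← h3]
  exact Submodule.finrank_mono h

/-! ### invariance -/

theorem chk_block : ((List.range 48).all fun r => (Els r ++ Fls r).all fun e =>
    !(maskJ.testBit e.1 && !maskJ.testBit e.2)) = true := by decide +kernel

theorem semS_block (l : Sparse) (h : (l.all fun e => !(maskJ.testBit e.1 && !maskJ.testBit e.2)) = true) :
    dg K maskJ * semS pos K l = dg K maskJ * semS pos K l * dg K maskJ := by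
  ext i j
  unfold dg
  rw [Matrix.mul_diagonal, Matrix.diagonal_mul]
  by_cases h1 : maskJ.testBit (pos i) = true
  · by_cases h2 : maskJ.testBit (pos j) = true
    · simp [h2]
    · have h3 : semS pos K l i j = 0 := by
        rw [semS_apply]
        apply List.sum_eq_zero
        intro x hx
        obtain ⟨e, he, rfl⟩ := List.mem_map.1 hx
        rw [if_neg]
        rintro ⟨h4, h5⟩
        rw [List.all_eq_true] at h
        have := h e he
        rw [h4, h5, h1] at this
        simp [h2] at this
      rw [h3]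
      simp
  · simp [h1]

/-- elements acting on the quotient by the short ideal -/
def pres (K : Type*) [Field K] : Subgroup (GL chevF4.Idx K) where
  carrier := {g | dg K maskJ * (g : Matrix chevF4.Idx chevF4.Idx K) * dg K maskI = 0 ∧
    dg K maskJ * ((g⁻¹ : GL chevF4.Idx K) : Matrix chevF4.Idx chevF4.Idx K) * dg K maskI = 0}
  one_mem' := by
    have h : dg K maskJ * dg K maskI = 0 := by
      have h1 : dg K maskJ * (dg K maskJ + dg K maskI) = dg K maskJ := by
        rw [dg_add, Matrix.mul_one]
      rw [Matrix.mul_add, dg_sq] at h1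
      simpa using h1
    constructor
    · simpa using h
    · simpa using h
  mul_mem' := by
    have key : ∀ a b : Matrix chevF4.Idx chevF4.Idx K, dg K maskJ * a * dg K maskI = 0 →
        dg K maskJ * b * dg K maskI = 0 → dg K maskJ * (a * b) * dg K maskI = 0 := by
      intro a b ha hb
      calc dg K maskJ * (a * b) * dg K maskI
          = dg K maskJ * a * (dg K maskJ + dg K maskI) * b * dg K maskI := by
            rw [dg_add, Matrix.mul_one]; simp only [Matrix.mul_assoc]
        _ = dg K maskJ * a * (dg K maskJ * b * dg K maskI) + (dg K maskJ * a * dg K maskI) * (b * dg K maskI) := by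
            rw [Matrix.mul_add, Matrix.add_mul, Matrix.add_mul]; simp only [Matrix.mul_assoc]
        _ = 0 := by rw [ha, hb]; simp
    rintro a b ⟨ha, ha'⟩ ⟨hb, hb'⟩
    constructor
    · rw [Units.val_mul]
      exact key _ _ ha hb
    · rw [mul_inv_rev, Units.val_mul]
      exact key _ _ hb' ha'
  inv_mem' := by
    rintro a ⟨ha, ha'⟩
    exact ⟨ha', by rw [inv_inv]; exact ha⟩

theorem dgJ_mul_dgI : dg K maskJ * dg K maskI = 0 := by
  have := (pres K).one_mem.1
  simpa using this

theorem dgI_mul_dgJ : dg K maskI * dg K maskJ = 0 := by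
  have h := dgJ_mul_dgI (K := K)
  unfold dg at *
  rw [Matrix.diagonal_mul_diagonal] at *
  rw [← h]
  congr 1
  funext i
  exact mul_comm _ _

theorem x_block [CharP K 2] (r : ℕ) (t : K) : dg K maskJ * chevF4.x K r t * dg K maskI = 0 := by
  by_cases hr : r < 48
  · have h := chk_block
    rw [List.all_eq_true] at h
    have h1 := h r (List.mem_range.2 hr)
    rw [List.all_append, Bool.and_eq_true] at h1
    have h2 := semS_block (K := K) _ h1.1
    have h3 := semS_block (K := K) _ h1.2
    have h4 : dg K maskJ * semS pos K (Els r) * dg K maskI = 0 := by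
      rw [h2, Matrix.mul_assoc, dgJ_mul_dgI, Matrix.mul_zero]
    have h5 : dg K maskJ * semS pos K (Fls r) * dg K maskI = 0 := by
      rw [h3, Matrix.mul_assoc, dgJ_mul_dgI, Matrix.mul_zero]
    rw [x_eq r hr, Matrix.mul_add, Matrix.mul_add, Matrix.mul_smul, Matrix.mul_smul, Matrix.add_mul,
      Matrix.add_mul, Matrix.smul_mul, Matrix.smul_mul, h4, h5, Matrix.mul_one, dgJ_mul_dgI]
    simp
  · rw [x_ge r hr, Matrix.mul_one]
    exact dgJ_mul_dgI

theorem group_le_pres [CharP K 2] : chevF4.group K ≤ pres K := by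
  unfold ChevalleyDatum.group
  rw [Subgroup.closure_le]
  rintro g ⟨r, t, hg⟩
  have h1 : g = X r.val t := by
    rw [eq_X_iff, hg]
    unfold ChevalleyDatum.x
    rw [dif_pos r.2]
  have h2 : g⁻¹ = g := by
    rw [h1]
    rfl
  constructor
  · rw [h1, coe_X]; exact x_block _ _
  · rw [h2, h1, coe_X]; exact x_block _ _

theorem dgJ_mul {g : GL chevF4.Idx K} (hg : g ∈ pres K) :
    dg K maskJ * (g : Matrix chevF4.Idx chevF4.Idx K) = dg K maskJ * g * dg K maskJ := by
  have h : dg K maskJ * (g : Matrix chevF4.Idx chevF4.Idx K) * (dg K maskJ + dg K maskI) =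
      dg K maskJ * g := by rw [dg_add, Matrix.mul_one]
  rw [Matrix.mul_add, hg.1, add_zero] at h
  exact h.symm

theorem mul_dgI {g : GL chevF4.Idx K} (hg : g ∈ pres K) :
    (g : Matrix chevF4.Idx chevF4.Idx K) * dg K maskI = dg K maskI * g * dg K maskI := by
  have h : (dg K maskJ + dg K maskI) * (g : Matrix chevF4.Idx chevF4.Idx K) * dg K maskI =
      g * dg K maskI := by rw [dg_add, Matrix.one_mul]
  rw [Matrix.add_mul, Matrix.add_mul, hg.1, zero_add] at h
  exact h.symm

/-- rank of `g - 1` on the quotient by the short ideal -/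
noncomputable def rJ (g : GL chevF4.Idx K) : ℕ := (blk maskJ (g : Matrix chevF4.Idx chevF4.Idx K)).rank

/-- rank of `g - 1` on the short ideal -/
noncomputable def rI (g : GL chevF4.Idx K) : ℕ := (blk maskI (g : Matrix chevF4.Idx chevF4.Idx K)).rank

theorem rJ_conj_le {g x : GL chevF4.Idx K} (hg : g ∈ pres K) (hx : x ∈ pres K) :
    rJ (g * x * g⁻¹) ≤ rJ x := by
  unfold rJ blk
  have h : dg K maskJ * (((g * x * g⁻¹ : GL chevF4.Idx K) : Matrix chevF4.Idx chevF4.Idx K) - 1) * dg K maskJ =
      (dg K maskJ * g) * (dg K maskJ * ((x : Matrix chevF4.Idx chevF4.Idx K) - 1) * dg K maskJ) *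
        (((g⁻¹ : GL chevF4.Idx K) : Matrix chevF4.Idx chevF4.Idx K) * dg K maskJ) := by
    have h1 : ((g * x * g⁻¹ : GL chevF4.Idx K) : Matrix chevF4.Idx chevF4.Idx K) - 1 =
        g * ((x : Matrix chevF4.Idx chevF4.Idx K) - 1) *
          ((g⁻¹ : GL chevF4.Idx K) : Matrix chevF4.Idx chevF4.Idx K) := by
      rw [Matrix.mul_sub, Matrix.sub_mul, Matrix.mul_one, ← Units.val_mul, ← Units.val_mul,
        ← Units.val_mul, mul_inv_cancel, Units.val_one]
    have h2 : dg K maskJ * ((x : Matrix chevF4.Idx chevF4.Idx K) - 1) =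
        dg K maskJ * ((x : Matrix chevF4.Idx chevF4.Idx K) - 1) * dg K maskJ := by
      rw [Matrix.mul_sub, Matrix.sub_mul, ← dgJ_mul hx, Matrix.mul_one, dg_sq]
    calc dg K maskJ * (((g * x * g⁻¹ : GL chevF4.Idx K) : Matrix chevF4.Idx chevF4.Idx K) - 1) * dg K maskJ
        = (dg K maskJ * g) * ((x : Matrix chevF4.Idx chevF4.Idx K) - 1) *
            (((g⁻¹ : GL chevF4.Idx K) : Matrix chevF4.Idx chevF4.Idx K) * dg K maskJ) := by
          rw [h1]; simp only [Matrix.mul_assoc]
      _ = (dg K maskJ * g) * (dg K maskJ * ((x : Matrix chevF4.Idx chevF4.Idx K) - 1)) *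
            (((g⁻¹ : GL chevF4.Idx K) : Matrix chevF4.Idx chevF4.Idx K) * dg K maskJ) := by
          conv_lhs => rw [dgJ_mul hg]
          simp only [Matrix.mul_assoc]
      _ = _ := by rw [← h2]
  rw [h]
  exact (Matrix.rank_mul_le_left _ _).trans (Matrix.rank_mul_le_right _ _)

theorem rI_conj_le {g x : GL chevF4.Idx K} (hg : g ∈ pres K) (hx : x ∈ pres K) :
    rI (g * x * g⁻¹) ≤ rI x := by
  unfold rI blk
  have hgi : (g⁻¹ : GL chevF4.Idx K) ∈ pres K := (pres K).inv_mem hg
  have h : dg K maskI * (((g * x * g⁻¹ : GL chevF4.Idx K) : Matrix chevF4.Idx chevF4.Idx K) - 1) * dg K maskI =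
      (dg K maskI * g) * (dg K maskI * ((x : Matrix chevF4.Idx chevF4.Idx K) - 1) * dg K maskI) *
        (((g⁻¹ : GL chevF4.Idx K) : Matrix chevF4.Idx chevF4.Idx K) * dg K maskI) := by
    have h1 : ((g * x * g⁻¹ : GL chevF4.Idx K) : Matrix chevF4.Idx chevF4.Idx K) - 1 =
        g * ((x : Matrix chevF4.Idx chevF4.Idx K) - 1) *
          ((g⁻¹ : GL chevF4.Idx K) : Matrix chevF4.Idx chevF4.Idx K) := by
      rw [Matrix.mul_sub, Matrix.sub_mul, Matrix.mul_one, ← Units.val_mul, ← Units.val_mul,
        ← Units.val_mul, mul_inv_cancel, Units.val_one]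
    have h2 : ((x : Matrix chevF4.Idx chevF4.Idx K) - 1) * dg K maskI =
        dg K maskI * ((x : Matrix chevF4.Idx chevF4.Idx K) - 1) * dg K maskI := by
      rw [Matrix.mul_sub, Matrix.sub_mul, Matrix.sub_mul, mul_dgI hx, Matrix.mul_one, dg_sq,
        Matrix.one_mul]
    calc dg K maskI * (((g * x * g⁻¹ : GL chevF4.Idx K) : Matrix chevF4.Idx chevF4.Idx K) - 1) * dg K maskI
        = (dg K maskI * g) * ((x : Matrix chevF4.Idx chevF4.Idx K) - 1) *
            (((g⁻¹ : GL chevF4.Idx K) : Matrix chevF4.Idx chevF4.Idx K) * dg K maskI) := by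
          rw [h1]; simp only [Matrix.mul_assoc]
      _ = (dg K maskI * g) * (((x : Matrix chevF4.Idx chevF4.Idx K) - 1) * dg K maskI) *
            (((g⁻¹ : GL chevF4.Idx K) : Matrix chevF4.Idx chevF4.Idx K) * dg K maskI) := by
          conv_lhs => rw [mul_dgI hgi]
          simp only [Matrix.mul_assoc]
      _ = _ := by rw [← h2]
  rw [h]
  exact (Matrix.rank_mul_le_left _ _).trans (Matrix.rank_mul_le_right _ _)

theorem rJ_conj {g x : GL chevF4.Idx K} (hg : g ∈ pres K) (hx : x ∈ pres K) :
    rJ (g * x * g⁻¹) = rJ x := by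
  apply le_antisymm (rJ_conj_le hg hx)
  have h := rJ_conj_le (K := K) (g := g⁻¹) (x := g * x * g⁻¹) ((pres K).inv_mem hg)
    ((pres K).mul_mem ((pres K).mul_mem hg hx) ((pres K).inv_mem hg))
  have e : g⁻¹ * (g * x * g⁻¹) * g⁻¹⁻¹ = x := by group
  rwa [e] at h

theorem rI_conj {g x : GL chevF4.Idx K} (hg : g ∈ pres K) (hx : x ∈ pres K) :
    rI (g * x * g⁻¹) = rI x := by
  apply le_antisymm (rI_conj_le hg hx)
  have h := rI_conj_le (K := K) (g := g⁻¹) (x := g * x * g⁻¹) ((pres K).inv_mem hg)
    ((pres K).mul_mem ((pres K).mul_mem hg hx) ((pres K).inv_mem hg))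
  have e : g⁻¹ * (g * x * g⁻¹) * g⁻¹⁻¹ = x := by group
  rwa [e] at h

/-- products of root elements -/
def wX (K : Type*) [Field K] [CharP K 2] (w : List ℕ) : GL chevF4.Idx K := (w.map fun r => X r 1).prod

theorem coe_wX [CharP K 2] (w : List ℕ) :
    ((wX K w : GL chevF4.Idx K) : Matrix chevF4.Idx chevF4.Idx K) = wordX K w := by
  induction w with
  | nil => simp [wX, wordX]
  | cons r w ih =>
    have h1 : wX K (r :: w) = X r 1 * wX K w := by simp [wX]
    have h2 : wordX K (r :: w) = chevF4.x K r 1 * wordX K w := by simp [wordX]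
    rw [h1, h2, Units.val_mul, ih, coe_X]

theorem rJ_wX [CharP K 2] (w : List ℕ) (hw : ∀ r ∈ w, r < 48) : rJ (wX K w) = rkM maskJ (wordM w) := by
  unfold rJ
  rw [coe_wX, ← sem_wordM w hw, rank_blk]

theorem rI_wX [CharP K 2] (w : List ℕ) (hw : ∀ r ∈ w, r < 48) : rI (wX K w) = rkM maskI (wordM w) := by
  unfold rI
  rw [coe_wX, ← sem_wordM w hw, rank_blk]

end Cfsg.Agent.FourTwo.RankInv
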