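import Cfsg.Agent.FourTwo.Classes
import Cfsg.Agent.FourTwo.RankInv

/-!
# The four classes of involutions of `F₄(2)` are distinct

`sep`: words with different rank invariants are not conjugate.  `x 44`, `x 47`, `x 44 * x 47`, `x 44 * x 32` are
pairwise not conjugate.
-/

set_option autoImplicit false

namespace Cfsg.Agent.FourTwo.ClassSep

open Cfsg.Lie Cfsg.Agent.ChevalleyStructure.TwF4.Rel Cfsg.Agent.ChevalleyStructure.TwF4.Tables
open Cfsg.Agent.FourTwo.Base Cfsg.Agent.FourTwo.RankInv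

theorem coe_wd_wX (w : List ℕ) : ((wd w : LL) : GL chevF4.Idx (ZMod 2)) = wX (ZMod 2) w := by
  induction w with
  | nil => simp [wX]
  | cons r w ih =>
    have h1 : wX (ZMod 2) (r :: w) = X r 1 * wX (ZMod 2) w := by simp [wX]
    rw [wd_cons, h1, ← ih]
    rfl

/-- the rank invariants of an element -/
noncomputable def rk2 (g : LL) : ℕ × ℕ :=
  (rJ ((g : LL) : GL chevF4.Idx (ZMod 2)), rI ((g : LL) : GL chevF4.Idx (ZMod 2)))

theorem rk2_conj (y g : LL) : rk2 (y * g * y⁻¹) = rk2 g := by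
  unfold rk2
  have h1 : ((y * g * y⁻¹ : LL) : GL chevF4.Idx (ZMod 2)) =
      (y : GL chevF4.Idx (ZMod 2)) * g * (y : GL chevF4.Idx (ZMod 2))⁻¹ := rfl
  rw [h1, rJ_conj (group_le_pres y.2) (group_le_pres g.2), rI_conj (group_le_pres y.2) (group_le_pres g.2)]

/-- the invariants computed from a word -/
def iv (w : List ℕ) : ℕ × ℕ := (rkM maskJ (wordM w), rkM maskI (wordM w))

theorem rk2_wd (w : List ℕ) (hw : (w.all fun r => decide (r < 48)) = true) : rk2 (wd w) = iv w := by
  rw [List.all_eq_true] at hw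
  have hw' : ∀ r ∈ w, r < 48 := fun r hr => of_decide_eq_true (hw r hr)
  unfold rk2 iv
  rw [coe_wd_wX, rJ_wX w hw', rI_wX w hw']

/-- words with different invariants are not conjugate -/
theorem sep {w w' : List ℕ} (hw : (w.all fun r => decide (r < 48)) = true)
    (hw' : (w'.all fun r => decide (r < 48)) = true) (h : iv w ≠ iv w') (y : LL) : y * wd w * y⁻¹ ≠ wd w' := by
  intro h1
  apply h
  rw [← rk2_wd w hw, ← rk2_wd w' hw', ← h1, rk2_conj]

theorem iv_44 : iv [44] = (6, 10) := by decide +kernel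
theorem iv_47 : iv [47] = (10, 6) := by decide +kernel
theorem iv_4447 : iv [44, 47] = (10, 10) := by decide +kernel
theorem iv_4432 : iv [44, 32] = (12, 12) := by decide +kernel

theorem rk2_44 : rk2 (x 44) = (6, 10) := by
  rw [← iv_44, ← rk2_wd _ (by decide), wd_one]

theorem rk2_47 : rk2 (x 47) = (10, 6) := by
  rw [← iv_47, ← rk2_wd _ (by decide), wd_one]

theorem rk2_4447 : rk2 (x 44 * x 47) = (10, 10) := by
  rw [← iv_4447, ← rk2_wd _ (by decide), wd_cons, wd_one]

theorem rk2_4432 : rk2 (x 44 * x 32) = (12, 12) := by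
  rw [← iv_4432, ← rk2_wd _ (by decide), wd_cons, wd_one]

/-- The invariants determine the class of an involution. -/
theorem conj_of_rk2 {g : LL} (h2 : g * g = 1) (h1 : g ≠ 1) :
    (rk2 g = (6, 10) → ∃ y : LL, y * g * y⁻¹ = x 44) ∧ (rk2 g = (10, 6) → ∃ y : LL, y * g * y⁻¹ = x 47) ∧
    (rk2 g = (10, 10) → ∃ y : LL, y * g * y⁻¹ = x 44 * x 47) ∧
    (rk2 g = (12, 12) → ∃ y : LL, y * g * y⁻¹ = x 44 * x 32) := by
  obtain ⟨y, hy⟩ := Classes.exists_class h2 h1
  have h3 := rk2_conj y g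
  rcases hy with hy | hy | hy | hy
  · rw [hy, rk2_44] at h3
    refine ⟨fun _ => ⟨y, hy⟩, fun h => ?_, fun h => ?_, fun h => ?_⟩ <;> rw [h] at h3 <;>
      exact absurd h3 (by decide)
  · rw [hy, rk2_47] at h3
    refine ⟨fun h => ?_, fun _ => ⟨y, hy⟩, fun h => ?_, fun h => ?_⟩ <;> rw [h] at h3 <;>
      exact absurd h3 (by decide)
  · rw [hy, rk2_4447] at h3
    refine ⟨fun h => ?_, fun h => ?_, fun _ => ⟨y, hy⟩, fun h => ?_⟩ <;> rw [h] at h3 <;>
      exact absurd h3 (by decide)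
  · rw [hy, rk2_4432] at h3
    refine ⟨fun h => ?_, fun h => ?_, fun h => ?_, fun _ => ⟨y, hy⟩⟩ <;> rw [h] at h3 <;>
      exact absurd h3 (by decide)

/-! ### the values needed for `x_{e₃} c` -/

theorem iv_2847 : iv [28, 47] = (12, 12) := by decide +kernel
theorem iv_2844 : iv [28, 44] = (10, 10) := by decide +kernel
theorem iv_284447 : iv [28, 44, 47] = (12, 12) := by decide +kernel

theorem not_conj_2847 (y : LL) : y * (x 28 * x 47) * y⁻¹ ≠ x 44 := by
  have h := sep (w := [28, 47]) (w' := [44]) (by decide) (by decide) (by rw [iv_2847, iv_44]; decide) y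
  rwa [wd_cons, wd_one, wd_one] at h

theorem not_conj_2844 (y : LL) : y * (x 28 * x 44) * y⁻¹ ≠ x 44 := by
  have h := sep (w := [28, 44]) (w' := [44]) (by decide) (by decide) (by rw [iv_2844, iv_44]; decide) y
  rwa [wd_cons, wd_one] at h

theorem not_conj_284447 (y : LL) : y * (x 28 * (x 44 * x 47)) * y⁻¹ ≠ x 44 := by
  have h := sep (w := [28, 44, 47]) (w' := [44]) (by decide) (by decide) (by rw [iv_284447, iv_44]; decide) y
  rwa [wd_cons, wd_cons, wd_one, wd_one] at h

end Cfsg.Agent.FourTwo.ClassSep
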