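import Cfsg.Agent.FourTwo.CentK

/-!
Centralisers in `F₄(2)` of the sets `K(r, s)` (root elements commuting with two given ones): for every type of
a pair of roots.  In each theorem the hypothesis is a list of root elements commuting with `g`; every list is
contained in the set of all root elements commuting with the two (three) roots, and, for short roots, even in the
intersection of the sets `F(r) = {a | (a, r) > 0} ∪ {a long | (a, r) = 0}`.

* `cent60s`, `cent60l`: short 60° `(44, 40)`, long 60° `(47, 46)`;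
* `cent90s`, `cent90l`: short 90° `(44, 29)`, long 90° `(47, 41)`;
* `cent120s`, `cent120l`: short 120° `(40, 33)`, long 120° `(46, 24)`;
* `cent45`, `cent45'`: `(47, 44)`, `(47, 36)`;  `cent90m`, `cent90m'`: `(47, 37)`, `(32, 44)`;
* `cent135`: `(41, 29)` together with `x 41`, `x 29`.
-/

set_option autoImplicit false

namespace Cfsg.Agent.FourTwo.CentP

open Cfsg.Agent.FourTwo.CentK
open Cfsg.Agent.FourTwo.Base (LL x wd coe_x wd_cons wd_nil bar bar_lt bar_bar exists_graph)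

theorem h7_of {g : LL} {L : List ℕ} (hL : ((List.range 7).all fun k => L.contains (41 + k)) = true)
    (h : ∀ q ∈ L, Commute g (x q)) : ∀ k, k < 7 → Commute g (x (41 + k)) := by
  intro k hk
  rw [List.all_eq_true] at hL
  exact h _ (List.contains_iff_mem.1 (hL k (List.mem_range.2 hk)))

theorem h8_of {g : LL} {L : List ℕ} (hL : ((List.range 8).all fun k => L.contains (33 + k)) = true)
    (h : ∀ q ∈ L, Commute g (x q)) : ∀ k, k < 8 → Commute g (x (33 + k)) := by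
  intro k hk
  rw [List.all_eq_true] at hL
  exact h _ (List.contains_iff_mem.1 (hL k (List.mem_range.2 hk)))

theorem ht_of {g : LL} {L : List ℕ} {c : Tests} (hL : (c.all fun p => L.contains p.2) = true)
    (h : ∀ q ∈ L, Commute g (x q)) : ∀ p ∈ c, Commute g (x p.2) := by
  intro p hp
  rw [List.all_eq_true] at hL
  exact h _ (List.contains_iff_mem.1 (hL p hp))

theorem two {r s : ℕ} {g : LL} (h : ∃ T ∈ [[], [r], [s], [r, s]], g = wd (T.map fun j => 24 + j)) :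
    ∃ a b : LL, (a = 1 ∨ a = x (24 + r)) ∧ (b = 1 ∨ b = x (24 + s)) ∧ g = a * b := by
  obtain ⟨T, hT, rfl⟩ := h
  simp only [List.mem_cons, List.not_mem_nil, or_false] at hT
  rcases hT with rfl | rfl | rfl | rfl
  · exact ⟨1, 1, Or.inl rfl, Or.inl rfl, by simp [wd]⟩
  · exact ⟨_, 1, Or.inr rfl, Or.inl rfl, by simp [wd]⟩
  · exact ⟨1, _, Or.inl rfl, Or.inr rfl, by simp [wd]⟩
  · exact ⟨_, _, Or.inr rfl, Or.inr rfl, by simp [wd]⟩

theorem three {r s u : ℕ} {g : LL}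
    (h : ∃ T ∈ [[], [r], [s], [r, s], [u], [r, u], [s, u], [r, s, u]], g = wd (T.map fun j => 24 + j)) :
    ∃ a b c : LL, (a = 1 ∨ a = x (24 + r)) ∧ (b = 1 ∨ b = x (24 + s)) ∧ (c = 1 ∨ c = x (24 + u)) ∧ g = a * b * c := by
  obtain ⟨T, hT, rfl⟩ := h
  simp only [List.mem_cons, List.not_mem_nil, or_false] at hT
  rcases hT with rfl | rfl | rfl | rfl | rfl | rfl | rfl | rfl
  · exact ⟨1, 1, 1, Or.inl rfl, Or.inl rfl, Or.inl rfl, by simp [wd]⟩
  · exact ⟨_, 1, 1, Or.inr rfl, Or.inl rfl, Or.inl rfl, by simp [wd]⟩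
  · exact ⟨1, _, 1, Or.inl rfl, Or.inr rfl, Or.inl rfl, by simp [wd]⟩
  · exact ⟨_, _, 1, Or.inr rfl, Or.inr rfl, Or.inl rfl, by simp [wd]⟩
  · exact ⟨1, 1, _, Or.inl rfl, Or.inl rfl, Or.inr rfl, by simp [wd]⟩
  · exact ⟨_, 1, _, Or.inr rfl, Or.inl rfl, Or.inr rfl, by simp [wd]⟩
  · exact ⟨1, _, _, Or.inl rfl, Or.inr rfl, Or.inr rfl, by simp [wd]⟩
  · exact ⟨_, _, _, Or.inr rfl, Or.inr rfl, Or.inr rfl, by simp [wd, mul_assoc]⟩

/-- duality: a statement about commuting with `x q`, `q ∈ L`, gives one about `x (bar q)` -/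
theorem exists_dual : ∃ β : LL ≃* LL, (∀ r < 48, β (x r) = x (bar r)) ∧ ∀ r < 48, β.symm (x r) = x (bar r) := by
  obtain ⟨α, hα⟩ := exists_graph
  refine ⟨α, hα, fun r hr => ?_⟩
  rw [MulEquiv.symm_apply_eq, hα _ (bar_lt hr), bar_bar hr]

theorem dual_comm {β : LL ≃* LL} (hβ : ∀ r < 48, β (x r) = x (bar r)) {g : LL} {L L' : List ℕ}
    (hL : (L.all fun q => decide (q < 48) && L'.contains (bar q)) = true) (h : ∀ q ∈ L', Commute g (x q)) :
    ∀ q ∈ L, Commute (β g) (x q) := by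
  intro q hq
  rw [List.all_eq_true] at hL
  have h1 := hL q hq
  rw [Bool.and_eq_true] at h1
  have h2 : q < 48 := of_decide_eq_true h1.1
  have h3 := (h _ (List.contains_iff_mem.1 h1.2)).map β.toMonoidHom
  have h4 : β (x (bar q)) = x q := by rw [hβ _ (bar_lt h2), bar_bar h2]
  have h5 : Commute (β g) (β (x (bar q))) := h3
  rwa [h4] at h5

theorem dual_or {β : LL ≃* LL} (hβ : ∀ r < 48, β.symm (x r) = x (bar r)) {r : ℕ} (hr : r < 48) {a : LL}
    (h : a = 1 ∨ a = x r) : β.symm a = 1 ∨ β.symm a = x (bar r) := by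
  rcases h with rfl | rfl
  · exact Or.inl (map_one _)
  · exact Or.inr (hβ r hr)

theorem dual2 {L L' : List ℕ} {r s : ℕ} (hr : r < 48) (hs : s < 48)
    (hL : (L.all fun q => decide (q < 48) && L'.contains (bar q)) = true)
    (H : ∀ g : LL, (∀ q ∈ L, Commute g (x q)) → ∃ a b : LL, (a = 1 ∨ a = x r) ∧ (b = 1 ∨ b = x s) ∧ g = a * b)
    {g : LL} (h : ∀ q ∈ L', Commute g (x q)) :
    ∃ a b : LL, (a = 1 ∨ a = x (bar r)) ∧ (b = 1 ∨ b = x (bar s)) ∧ g = a * b := by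
  obtain ⟨β, h1, h2⟩ := exists_dual
  obtain ⟨a, b, ha, hb, e⟩ := H (β g) (dual_comm h1 hL h)
  refine ⟨_, _, dual_or h2 hr ha, dual_or h2 hs hb, ?_⟩
  rw [← map_mul, ← e, MulEquiv.symm_apply_apply]

theorem dual3 {L L' : List ℕ} {r s u : ℕ} (hr : r < 48) (hs : s < 48) (hu : u < 48)
    (hL : (L.all fun q => decide (q < 48) && L'.contains (bar q)) = true)
    (H : ∀ g : LL, (∀ q ∈ L, Commute g (x q)) →
      ∃ a b c : LL, (a = 1 ∨ a = x r) ∧ (b = 1 ∨ b = x s) ∧ (c = 1 ∨ c = x u) ∧ g = a * b * c)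
    {g : LL} (h : ∀ q ∈ L', Commute g (x q)) :
    ∃ a b c : LL, (a = 1 ∨ a = x (bar r)) ∧ (b = 1 ∨ b = x (bar s)) ∧ (c = 1 ∨ c = x (bar u)) ∧ g = a * b * c := by
  obtain ⟨β, h1, h2⟩ := exists_dual
  obtain ⟨a, b, c, ha, hb, hc, e⟩ := H (β g) (dual_comm h1 hL h)
  refine ⟨_, _, _, dual_or h2 hr ha, dual_or h2 hs hb, dual_or h2 hu hc, ?_⟩
  rw [← map_mul, ← map_mul, ← e, MulEquiv.symm_apply_apply]

/-- short roots at 60° : `44`, `40` -/
theorem cent60s {g : LL} (h : ∀ q ∈ [22, 23, 24, 25, 26, 30, 41, 42, 43, 44, 45, 46, 47], Commute g (x q)) :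
    ∃ a b : LL, (a = 1 ∨ a = x 40) ∧ (b = 1 ∨ b = x 44) ∧ g = a * b :=
  two (main chkA (h7_of (by decide) h) (ht_of (by decide) h) (ht_of (by decide) h))

/-- long roots at 60° : `47`, `46` -/
theorem cent60l {g : LL} (h : ∀ q ∈ [14, 20, 27, 28, 29, 33, 34, 36, 38, 39, 40, 44, 47], Commute g (x q)) :
    ∃ a b : LL, (a = 1 ∨ a = x 46) ∧ (b = 1 ∨ b = x 47) ∧ g = a * b :=
  dual2 (by norm_num) (by norm_num) (by decide) (fun _ => cent60s) h

/-- short roots at 120° : `40`, `33` -/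
theorem cent120s {g : LL} (h : ∀ q ∈ [21, 22, 23, 24, 25, 26, 41, 42, 43, 44, 45, 46, 47], Commute g (x q)) :
    ∃ a b c : LL, (a = 1 ∨ a = x 33) ∧ (b = 1 ∨ b = x 40) ∧ (c = 1 ∨ c = x 44) ∧ g = a * b * c :=
  three (main chkC (h7_of (by decide) h) (ht_of (by decide) h) (ht_of (by decide) h))

/-- long roots at 120° : `46`, `24` -/
theorem cent120l {g : LL} (h : ∀ q ∈ [13, 14, 20, 27, 29, 33, 34, 36, 38, 39, 40, 44, 47], Commute g (x q)) :
    ∃ a b c : LL, (a = 1 ∨ a = x 24) ∧ (b = 1 ∨ b = x 46) ∧ (c = 1 ∨ c = x 47) ∧ g = a * b * c :=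
  dual3 (by norm_num) (by norm_num) (by norm_num) (by decide) (fun _ => cent120s) h

/-- long roots at 90° : `47`, `41` -/
theorem cent90l {g : LL} (h : ∀ q ∈ [19, 20, 27, 28, 33, 34, 35, 36, 37, 38, 39, 40], Commute g (x q)) :
    ∃ a b c : LL, (a = 1 ∨ a = x 41) ∧ (b = 1 ∨ b = x 44) ∧ (c = 1 ∨ c = x 47) ∧ g = a * b * c :=
  three (mainC chkB (h8_of (by decide) h) (ht_of (by decide) h))

/-- short roots at 90° : `44`, `29` -/
theorem cent90s {g : LL} (h : ∀ q ∈ [17, 22, 24, 25, 26, 30, 31, 32, 42, 43, 45, 46], Commute g (x q)) :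
    ∃ a b c : LL, (a = 1 ∨ a = x 29) ∧ (b = 1 ∨ b = x 47) ∧ (c = 1 ∨ c = x 44) ∧ g = a * b * c :=
  dual3 (by norm_num) (by norm_num) (by norm_num) (by decide) (fun _ => cent90l) h

/-- 45° : `47`, `44` -/
theorem cent45 {g : LL} (h : ∀ q ∈ [24, 25, 27, 33, 34, 35, 36, 37, 38, 39, 40], Commute g (x q)) :
    ∃ a b : LL, (a = 1 ∨ a = x 44) ∧ (b = 1 ∨ b = x 47) ∧ g = a * b :=
  two (mainC chkE (h8_of (by decide) h) (ht_of (by decide) h))

/-- 45° : `47`, `36` -/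
theorem cent45' {g : LL} (h : ∀ q ∈ [12, 20, 22, 25, 29, 33, 41, 42, 43, 44, 45, 46, 47], Commute g (x q)) :
    ∃ a b : LL, (a = 1 ∨ a = x 36) ∧ (b = 1 ∨ b = x 47) ∧ g = a * b :=
  two (main chkD1 (h7_of (by decide) h) (ht_of (by decide) h) (ht_of (by decide) h))

/-- long and short, 90° : `47`, `37` -/
theorem cent90m {g : LL} (h : ∀ q ∈ [14, 22, 25, 27, 33, 41, 42, 43, 44, 45, 46, 47], Commute g (x q)) :
    ∃ a b : LL, (a = 1 ∨ a = x 37) ∧ (b = 1 ∨ b = x 47) ∧ g = a * b :=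
  two (main chkD2 (h7_of (by decide) h) (ht_of (by decide) h) (ht_of (by decide) h))

/-- long and short, 90° : `32`, `44` -/
theorem cent90m' {g : LL} (h : ∀ q ∈ [20, 23, 24, 25, 27, 29, 36, 38, 39, 40, 44, 47], Commute g (x q)) :
    ∃ a b : LL, (a = 1 ∨ a = x 32) ∧ (b = 1 ∨ b = x 44) ∧ g = a * b :=
  dual2 (by norm_num) (by norm_num) (by decide) (fun _ => cent90m) h

/-- 135° : `41`, `29` and the two root elements themselves -/
theorem cent135 {g : LL} (h : ∀ q ∈ [20, 22, 27, 28, 29, 41, 42, 43, 44, 45, 46, 47], Commute g (x q)) :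
    ∃ a b : LL, (a = 1 ∨ a = x 44) ∧ (b = 1 ∨ b = x 47) ∧ g = a * b :=
  two (main chkF (h7_of (by decide) h) (ht_of (by decide) h) (ht_of (by decide) h))

end Cfsg.Agent.FourTwo.CentP
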