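import Cfsg.Agent.FourTwo.BN
import Cfsg.Agent.FourTwo.CentP
import Cfsg.Agent.F42.RelTab

/-!
# Pairs of roots of `F₄` under the Weyl group, and the rigidity of pairs of short roots in `F₄(2)`

* `word r s`: a word of simple reflections taking the pair `(r, s)`, `s ≠ ±r`, to its standard pair
  (`mem_std`; `act60s`, …);
* `rig60`, `rig90`, `rig120`: the elements of `L` commuting with the root elements `x b`, `b ∈ F s ∩ F q`.
-/

set_option autoImplicit false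

namespace Cfsg.Agent.FourTwo.PairW

open Cfsg.Agent.ChevalleyStructure.TwF4.Rel (refl refl_lt)
open Cfsg.Agent.ChevalleyStructure.F4NTab (ct)
open Cfsg.Agent.FourTwo.Base (LL x)
open Cfsg.Agent.FourTwo.BN (nw act act_lt nw_conj)
open Cfsg.Agent.FourTwo.CentP
open Cfsg.Agent.F42.RelTab (lg F sm all2 all2_spec p60 p90 p120)

/-- words taking a short root to `44`, a long root to `47` -/
def T1 : List (List ℕ) := [
  [3, 2, 1, 0, 2, 1, 2, 3, 2, 1, 0, 2, 1, 2, 3], [3, 2, 1, 0, 2, 1, 2, 3, 2, 1, 0, 2, 1, 2], [3, 2, 1, 0, 2, 1, 2, 3, 2, 1, 0, 2, 1], [0, 1, 2, 1, 0, 3, 2, 1, 0, 2, 1, 3, 2, 1, 0], [3, 2, 1, 0, 2, 1, 2, 3, 2, 1, 0, 2], [3, 2, 1, 0, 2, 1, 2, 3, 2, 1, 0],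
  [3, 2, 1, 0, 2, 1, 3, 2, 1, 0], [0, 1, 2, 1, 0, 3, 2, 1, 0, 2, 1, 3, 2, 1], [0, 1, 2, 1, 0, 3, 2, 1, 0, 2, 1, 3, 2], [0, 1, 2, 1, 0, 3, 2, 1, 0, 2, 1, 3], [0, 1, 2, 1, 0, 3, 2, 1, 0, 2, 1], [0, 1, 2, 1, 0, 3, 2, 1, 0, 2, 3],
  [0, 1, 2, 1, 0, 3, 2, 1, 0, 2], [0, 1, 2, 1, 0, 3, 2, 1, 0], [0, 1, 2, 1, 3, 2, 1, 0], [3, 2, 1, 0, 2, 1, 2, 3, 2, 1, 2], [3, 2, 1, 0, 2, 1, 2, 3, 2, 1], [3, 2, 1, 0, 2, 1, 3, 2, 1],
  [0, 1, 2, 1, 0, 3, 2, 1, 2, 3], [0, 1, 2, 1, 0, 3, 2, 1, 2], [0, 1, 2, 1, 0, 3, 2, 1], [3, 2, 1, 0, 2, 1, 2, 3, 2], [3, 2, 1, 0, 2, 1, 3, 2], [3, 2, 1, 0, 2, 1, 2, 3],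
  [3, 2, 1, 0, 2, 1, 2], [3, 2, 1, 0, 2, 1, 3], [3, 2, 1, 0, 2, 1], [0, 1, 2, 1, 0, 3, 2], [0, 1, 2, 1, 0, 3], [0, 1, 2, 1, 0],
  [3, 2, 1, 0, 2, 3], [3, 2, 1, 0, 2], [3, 2, 1, 0], [0, 1, 2, 1, 3, 2, 1], [0, 1, 2, 1, 3, 2], [0, 1, 2, 1, 3],
  [0, 1, 2, 1], [0, 1, 2, 3], [0, 1, 2], [0, 1], [0], [3, 2, 1, 2, 3],
  [3, 2, 1, 2], [3, 2, 1], [], [3, 2], [3], []]

/-- words in the stabiliser of `44` -/
def S2 : List (List ℕ) := [
  [3, 2, 1, 2, 3], [3, 2, 1, 2], [3, 2, 1], [], [3, 2], [3],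
  [], [1, 2, 1, 3, 2, 1], [1, 2, 1, 3, 2], [1, 2, 1, 3], [1, 2, 1], [1, 2, 3],
  [1, 2], [1], [], [2, 1, 2, 3, 2, 1, 2], [2, 1, 2, 3, 2, 1], [2, 1, 3, 2, 1],
  [3, 2, 1, 2, 3], [3, 2, 1, 2], [3, 2, 1], [2, 1, 2, 3, 2], [2, 1, 3, 2], [2, 1, 2, 3],
  [2, 1, 2], [2, 1, 3], [2, 1], [3, 2], [3], [],
  [2, 3], [2], [], [1, 2, 1, 3, 2, 1], [1, 2, 1, 3, 2], [1, 2, 1, 3],
  [1, 2, 1], [1, 2, 3], [1, 2], [1], [], [3, 2, 1, 2, 3],
  [3, 2, 1, 2], [3, 2, 1], [], [3, 2], [3], []]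

/-- words in the stabiliser of `47` -/
def L2 : List (List ℕ) := [
  [], [], [2], [], [2, 1], [2, 1, 2],
  [0, 1, 2, 1, 0], [0], [0, 1], [0, 1, 2], [1, 0, 2, 1, 0, 2, 1], [0, 1, 2, 1],
  [1, 0, 2, 1, 0, 2], [1, 0, 2, 1, 0], [1, 2, 1, 0], [2, 1, 0], [2, 1, 0, 2], [0, 1, 2, 1],
  [0, 1, 2, 1, 0], [1, 0, 2, 1, 2], [1, 0, 2, 1], [2, 1, 0, 2, 1], [0, 1, 2], [2, 1, 0, 2, 1, 2],
  [2, 1, 0, 2, 1, 2], [0, 1], [2, 1, 0, 2, 1], [1, 0, 2], [1, 0], [0, 1, 2, 1, 0],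
  [0], [2, 1, 0, 2], [2, 1, 0], [1, 2, 1], [1, 2], [1],
  [0, 1, 2, 1], [], [0, 1, 2], [0, 1], [0], [],
  [2, 1, 2], [2, 1], [], [2], [], []]

def S3 (t : ℕ) : List ℕ := cond (Nat.beq t 14) [0] (cond (Nat.beq t 6) [0, 1, 2, 1, 0] [])

def L3 (t : ℕ) : List ℕ :=
  cond (Nat.beq t 1) [3, 2, 1, 2, 0, 1, 2] (cond (Nat.beq t 3) [3, 2, 1, 2, 3, 0, 1, 2, 1, 0] [])

/-- the word of a pair -/
def word (r s : ℕ) : List ℕ :=
  (fun w1 => (fun s1 => (fun w2 => (cond (lg r) (L3 (act w2 s1)) (S3 (act w2 s1))) ++ (w2 ++ w1))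
    ((cond (lg r) L2 S2).getD s1 [])) (act w1 s)) (T1.getD r [])

/-- the standard pairs -/
def std : List (ℕ × ℕ) := [(44, 40), (44, 29), (40, 33), (47, 46), (47, 41), (46, 24), (44, 47), (44, 32), (29, 41),
  (47, 44), (47, 37), (41, 29)]

theorem word_tab : all2 (fun r s => (word r s).all fun i => Nat.ble i 3) = true := by decide +kernel

theorem word_lt {r s : ℕ} (hr : r < 48) (hs : s < 48) : ∀ i ∈ word r s, i < 4 := by
  intro i hi
  have h := all2_spec word_tab hr hs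
  rw [List.all_eq_true] at h
  exact Nat.lt_succ_of_le (Nat.le_of_ble_eq_true (h i hi))

theorem std_tab : all2 (fun r s => Nat.beq r s || Nat.beq (r + s) 47 ||
    (fun w => std.any fun p => Nat.beq (act w r) p.1 && Nat.beq (act w s) p.2) (word r s)) = true := by decide +kernel

/-- every pair of roots `r ≠ ± s` is conjugate to a standard pair -/
theorem mem_std {r s : ℕ} (hr : r < 48) (hs : s < 48) (h1 : r ≠ s) (h2 : r + s ≠ 47) :
    (act (word r s) r, act (word r s) s) ∈ std := by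
  have h := all2_spec std_tab hr hs
  rw [Bool.or_eq_true, Bool.or_eq_true, Nat.beq_eq, Nat.beq_eq, List.any_eq_true] at h
  rcases h with (h | h) | ⟨p, hp, h⟩
  · exact absurd h h1
  · exact absurd h h2
  · rw [Bool.and_eq_true, Nat.beq_eq, Nat.beq_eq] at h
    rw [h.1, h.2]
    exact hp

/-- the check that all pairs with `P` are conjugate to `(a, b)` -/
def actB (P : ℕ → ℕ → Bool) (a b : ℕ) : Bool := all2 fun r s => !P r s ||
  (fun w => Nat.beq (act w r) a && Nat.beq (act w s) b) (word r s)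

theorem act_of {P : ℕ → ℕ → Bool} {a b : ℕ} (h : actB P a b = true) {r s : ℕ} (hr : r < 48) (hs : s < 48)
    (hp : P r s = true) : act (word r s) r = a ∧ act (word r s) s = b := by
  have h1 := all2_spec h hr hs
  rw [hp, Bool.not_true, Bool.false_or, Bool.and_eq_true, Nat.beq_eq, Nat.beq_eq] at h1
  exact h1

theorem act60s : actB p60 44 40 = true := by decide +kernel
theorem act90s : actB p90 44 29 = true := by decide +kernel
theorem act120s : actB p120 40 33 = true := by decide +kernel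

/-- long roots at 60° -/
def l60 (r s : ℕ) : Bool := lg r && lg s && decide (ct r s = 1)
/-- long roots at 90° -/
def l90 (r s : ℕ) : Bool := lg r && lg s && decide (ct r s = 0)
/-- long roots at 120° -/
def l120 (r s : ℕ) : Bool := lg r && lg s && decide (ct r s = -1)

theorem act60l : actB l60 47 46 = true := by decide +kernel
theorem act90l : actB l90 47 41 = true := by decide +kernel
theorem act120l : actB l120 46 24 = true := by decide +kernel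

/-- `r` long, `s` short, 45° -/
def m45 (r s : ℕ) : Bool := lg r && !lg s && decide (ct s r = 2)
/-- `r` long, `s` short, 90° -/
def m90 (r s : ℕ) : Bool := lg r && !lg s && decide (ct s r = 0)
/-- `r` long, `s` short, 135° -/
def m135 (r s : ℕ) : Bool := lg r && !lg s && decide (ct s r = -2)

theorem act45 : actB m45 47 44 = true := by decide +kernel
theorem act90m : actB m90 47 37 = true := by decide +kernel
theorem act135 : actB m135 41 29 = true := by decide +kernel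
theorem act45' : actB (fun s r => m45 r s) 44 47 = true := by decide +kernel
theorem act90m' : actB (fun s r => m90 r s) 44 32 = true := by decide +kernel
theorem act135' : actB (fun s r => m135 r s) 29 41 = true := by decide +kernel

end Cfsg.Agent.FourTwo.PairW
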