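import Cfsg.Agent.FourTwo.Facts

/-!
# More facts on `F₄(2)`

* `mod_b_long`, `mod_b_short`: elements of `U` with commutators in `⟨x 47, x 46 * x 44⟩`, `⟨x 44, x 40 * x 47⟩`;
* `conj_4644` ...: `x 46 * x 44`, `x 46 * x 44 * x 47` (and the duals) are conjugate to `x 44 * x 47`;
* `exists_conj_Qs`, `exists_conj_Ql`: every involution is conjugate into `Q_s` and into `Q_l`;
* `short_pair`: two short root elements `x 44`, `y * x 44 * y⁻¹` are conjugate under `U` to `x 44`, `x a`;
* `exists_pow`: if `x 44 * (y * x 44 * y⁻¹)` is a nontrivial `2`-element, then some power of it is conjugate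
  to `x 44` or to `x 44 * x 47`;
* `closure_Ps_Pl`: `L` is generated by `P_s` and `P_l`;
* `mid_mem_commutator`: `x 44 * x 47` is a commutator of elements of its centraliser.
-/

set_option autoImplicit false

namespace Cfsg.Agent.FourTwo.Facts2

open Cfsg.Lie Cfsg.Agent.ChevalleyStructure.TwF4.Rel Cfsg.Agent.ChevalleyStructure.TwF4.Tables
open Cfsg.Agent.ChevalleyStructure.TwF4.NStruct (R)
open Cfsg.Agent.ChevalleyStructure.TwF4.WeylDih (carSub)
open Cfsg.Agent.ChevalleyStructure.F4NTab (ct)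
open Cfsg.Agent.FourTwo.UCode hiding x
open Cfsg.Agent.FourTwo.UMod hiding V
open Cfsg.Agent.FourTwo.Base hiding bar bar_lt
open Cfsg.Agent.FourTwo.Enum Cfsg.Agent.FourTwo.Classes Cfsg.Agent.FourTwo.BN Cfsg.Agent.FourTwo.Par
open Cfsg.Agent.FourTwo.Cent Cfsg.Agent.FourTwo.Facts Cfsg.Agent.FourTwo.Comm
open scoped commutatorElement

/-! ### commutators in a fourgroup -/

theorem ec_5242880 : x 46 * x 44 = ec 5242880 := by
  rw [ec46, ec44, ← ec_mulU, show mulU 4194304 1048576 = 5242880 from by decide +kernel]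

theorem ec_13631488 : x 46 * x 44 * x 47 = ec 13631488 := by
  rw [ec_5242880, ec47, ← ec_mulU, show mulU 5242880 8388608 = 13631488 from by decide +kernel]

theorem ec_8454144 : x 40 * x 47 = ec 8454144 := by
  rw [ec40, ec47, ← ec_mulU, show mulU 65536 8388608 = 8454144 from by decide +kernel]

theorem ec_9502720 : x 40 * x 47 * x 44 = ec 9502720 := by
  rw [ec_8454144, ec44, ← ec_mulU, show mulU 8454144 1048576 = 9502720 from by decide +kernel]

/-- elements of `U` whose commutators with the fundamental root elements lie in `⟨x 47, x 46 * x 44⟩` -/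
theorem mod_b_long {u : LL} (hu : u ∈ U)
    (h : ∀ r ∈ [24, 25, 27, 33], x r * u * (x r)⁻¹ * u⁻¹ = 1 ∨ x r * u * (x r)⁻¹ * u⁻¹ = x 47 ∨
      x r * u * (x r)⁻¹ * u⁻¹ = x 46 * x 44 ∨ x r * u * (x r)⁻¹ * u⁻¹ = x 46 * x 44 * x 47) :
    u ∈ Subgroup.closure ({x 46, x 44, x 47} : Set LL) := by
  have h1 := enum_simple [0, 8388608, 5242880, 13631488]
    [0, 4194304, 1048576, 5242880, 8388608, 12582912, 9437184, 13631488] (by decide +kernel) hu (fun r hr => by
      rcases h r hr with h2 | h2 | h2 | h2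
      · exact ⟨0, by simp, by rw [h2, ec_zero]⟩
      · exact ⟨8388608, by simp, by rw [h2, ec47]⟩
      · exact ⟨5242880, by simp, by rw [h2, ec_5242880]⟩
      · exact ⟨13631488, by simp, by rw [h2, ec_13631488]⟩)
  have m46 : ec 4194304 ∈ Subgroup.closure ({x 46, x 44, x 47} : Set LL) := by
    rw [← ec46]; exact Subgroup.subset_closure (by simp)
  have m44 : ec 1048576 ∈ Subgroup.closure ({x 46, x 44, x 47} : Set LL) := by
    rw [← ec44]; exact Subgroup.subset_closure (by simp)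
  have m47 : ec 8388608 ∈ Subgroup.closure ({x 46, x 44, x 47} : Set LL) := by
    rw [← ec47]; exact Subgroup.subset_closure (by simp)
  have e1 : mulU 4194304 1048576 = 5242880 := by decide +kernel
  have e2 : mulU 4194304 8388608 = 12582912 := by decide +kernel
  have e3 : mulU 1048576 8388608 = 9437184 := by decide +kernel
  have e4 : mulU 4194304 9437184 = 13631488 := by decide +kernel
  obtain ⟨f, hf, rfl⟩ := h1
  simp only [List.mem_cons, List.not_mem_nil, or_false] at hf
  rcases hf with rfl | rfl | rfl | rfl | rfl | rfl | rfl | rfl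
  · rw [ec_zero]; exact one_mem _
  · exact m46
  · exact m44
  · rw [← e1, ec_mulU]; exact mul_mem m46 m44
  · exact m47
  · rw [← e2, ec_mulU]; exact mul_mem m46 m47
  · rw [← e3, ec_mulU]; exact mul_mem m44 m47
  · rw [← e4, ec_mulU, ← e3, ec_mulU]; exact mul_mem m46 (mul_mem m44 m47)

/-- elements of `U` whose commutators with the fundamental root elements lie in `⟨x 44, x 40 * x 47⟩` -/
theorem mod_b_short {u : LL} (hu : u ∈ U)
    (h : ∀ r ∈ [24, 25, 27, 33], x r * u * (x r)⁻¹ * u⁻¹ = 1 ∨ x r * u * (x r)⁻¹ * u⁻¹ = x 44 ∨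
      x r * u * (x r)⁻¹ * u⁻¹ = x 40 * x 47 ∨ x r * u * (x r)⁻¹ * u⁻¹ = x 40 * x 47 * x 44) :
    u ∈ Subgroup.closure ({x 40, x 44, x 47} : Set LL) := by
  have h1 := enum_simple [0, 1048576, 8454144, 9502720]
    [0, 65536, 1048576, 1114112, 8388608, 8454144, 9437184, 9502720] (by decide +kernel) hu (fun r hr => by
      rcases h r hr with h2 | h2 | h2 | h2
      · exact ⟨0, by simp, by rw [h2, ec_zero]⟩
      · exact ⟨1048576, by simp, by rw [h2, ec44]⟩
      · exact ⟨8454144, by simp, by rw [h2, ec_8454144]⟩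
      · exact ⟨9502720, by simp, by rw [h2, ec_9502720]⟩)
  have m40 : ec 65536 ∈ Subgroup.closure ({x 40, x 44, x 47} : Set LL) := by
    rw [← ec40]; exact Subgroup.subset_closure (by simp)
  have m44 : ec 1048576 ∈ Subgroup.closure ({x 40, x 44, x 47} : Set LL) := by
    rw [← ec44]; exact Subgroup.subset_closure (by simp)
  have m47 : ec 8388608 ∈ Subgroup.closure ({x 40, x 44, x 47} : Set LL) := by
    rw [← ec47]; exact Subgroup.subset_closure (by simp)
  have e1 : mulU 65536 1048576 = 1114112 := by decide +kernel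
  have e2 : mulU 65536 8388608 = 8454144 := by decide +kernel
  have e3 : mulU 1048576 8388608 = 9437184 := by decide +kernel
  have e4 : mulU 65536 9437184 = 9502720 := by decide +kernel
  obtain ⟨f, hf, rfl⟩ := h1
  simp only [List.mem_cons, List.not_mem_nil, or_false] at hf
  rcases hf with rfl | rfl | rfl | rfl | rfl | rfl | rfl | rfl
  · rw [ec_zero]; exact one_mem _
  · exact m40
  · exact m44
  · rw [← e1, ec_mulU]; exact mul_mem m40 m44
  · exact m47
  · rw [← e2, ec_mulU]; exact mul_mem m40 m47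
  · rw [← e3, ec_mulU]; exact mul_mem m44 m47
  · rw [← e4, ec_mulU, ← e3, ec_mulU]; exact mul_mem m40 (mul_mem m44 m47)

/-! ### conjugacy of words -/

theorem wd_reverse (w : List ℕ) : wd w.reverse = (wd w)⁻¹ := by
  induction w with
  | nil => simp
  | cons r w ih => rw [List.reverse_cons, wd_append, ih, wd_one, wd_cons, mul_inv_rev, x_inv]

/-- check that `w` conjugates the word `t` to the word `p` -/
theorem conj_of_chk {p w t : List ℕ} (h : chk p (w ++ t ++ w.reverse) = true) :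
    wd p = wd w * wd t * (wd w)⁻¹ := by
  rw [wd_eq _ _ h, wd_append, wd_append, wd_reverse]

theorem conj_4644 : ∃ y : LL, x 46 * x 44 = y * (x 44 * x 47) * y⁻¹ := by
  have h := conj_of_chk (p := [46, 44]) (w := [24, 23, 24]) (t := [44, 47]) (by decide +kernel)
  refine ⟨wd [24, 23, 24], ?_⟩
  rwa [wd_cons 46, wd_one, wd_cons 44, wd_one] at h

theorem conj_464447 : ∃ y : LL, x 46 * x 44 * x 47 = y * (x 44 * x 47) * y⁻¹ := by
  have h := conj_of_chk (p := [46, 44, 47]) (w := [24, 24, 23, 24]) (t := [44, 47]) (by decide +kernel)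
  refine ⟨wd [24, 24, 23, 24], ?_⟩
  rwa [wd_cons 46, wd_cons 44 [47], wd_one, ← mul_assoc] at h

theorem conj_4047 : ∃ y : LL, x 40 * x 47 = y * (x 44 * x 47) * y⁻¹ := by
  have h := conj_of_chk (p := [40, 47]) (w := [33, 14, 33]) (t := [44, 47]) (by decide +kernel)
  refine ⟨wd [33, 14, 33], ?_⟩
  rwa [wd_cons 40, wd_one, wd_cons 44, wd_one] at h

theorem conj_404744 : ∃ y : LL, x 40 * x 47 * x 44 = y * (x 44 * x 47) * y⁻¹ := by
  have h := conj_of_chk (p := [40, 47, 44]) (w := [33, 33, 14, 33]) (t := [44, 47]) (by decide +kernel)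
  refine ⟨wd [33, 33, 14, 33], ?_⟩
  rwa [wd_cons 40, wd_cons 47 [44], wd_one, ← mul_assoc, wd_cons 44 [47], wd_one] at h

/-! ### involutions in `Q` -/

/-- the roots of `Q_s` -/
def qsP (r : ℕ) : Bool := decide (33 ≤ r)

/-- the roots of `Q_l` -/
def qlP (r : ℕ) : Bool := [24, 26, 29, 31, 32, 36, 38, 39, 40, 42, 43, 44, 45, 46, 47].contains r

theorem exists_conj_Qs {g : LL} (h2 : g * g = 1) : ∃ y : LL, y * g * y⁻¹ ∈ RG qsP := by
  by_cases h1 : g = 1
  · exact ⟨1, by rw [h1]; simp⟩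
  have m : ∀ r, 33 ≤ r → r < 48 → x r ∈ RG qsP := fun r h h' => x_mem_RG h' (by simp [qsP, h])
  obtain ⟨y, hy⟩ := exists_class h2 h1
  rcases hy with hy | hy | hy | hy
  · exact ⟨y, by rw [hy]; exact m _ (by omega) (by omega)⟩
  · exact ⟨y, by rw [hy]; exact m _ (by omega) (by omega)⟩
  · exact ⟨y, by rw [hy]; exact mul_mem (m _ (by omega) (by omega)) (m _ (by omega) (by omega))⟩
  · refine ⟨n 0 * y, ?_⟩
    have h3 : n 0 * y * g * (n 0 * y)⁻¹ = (n 0 * x 44 * (n 0)⁻¹) * (n 0 * x 32 * (n 0)⁻¹) := by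
      calc n 0 * y * g * (n 0 * y)⁻¹ = n 0 * (y * g * y⁻¹) * (n 0)⁻¹ := by group
        _ = _ := by rw [hy]; group
    rw [h3, n_conj (by omega) (by omega), n_conj (by omega) (by omega)]
    exact mul_mem (m _ (by decide) (by decide)) (m _ (by decide) (by decide))

theorem exists_conj_Ql {g : LL} (h2 : g * g = 1) : ∃ y : LL, y * g * y⁻¹ ∈ RG qlP := by
  by_cases h1 : g = 1
  · exact ⟨1, by rw [h1]; simp⟩
  obtain ⟨y, hy⟩ := exists_class h2 h1
  have m44 : x 44 ∈ RG qlP := x_mem_RG (by omega) (by decide)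
  have m47 : x 47 ∈ RG qlP := x_mem_RG (by omega) (by decide)
  have m32 : x 32 ∈ RG qlP := x_mem_RG (by omega) (by decide)
  refine ⟨y, ?_⟩
  rcases hy with hy | hy | hy | hy <;> rw [hy]
  · exact m44
  · exact m47
  · exact mul_mem m44 m47
  · exact mul_mem m44 m32

/-! ### pairs of short root elements -/

/-- short roots -/
def shortB (a : ℕ) : Bool := (List.range 48).any fun s => !(s == a) && ct a s == 2

theorem short_list : ((List.range 48).all fun a => !shortB a ||
    [3, 7, 8, 9, 10, 11, 12, 13, 14, 18, 19, 20, 27, 28, 29, 33, 34, 35, 36, 37, 38, 39, 40, 44].contains a) = true := by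
  decide +kernel

theorem shortB_perm {σ : Equiv.Perm R} (hσ : σ ∈ carSub) {a : R} (h : shortB a.val = true) :
    shortB (σ a).val = true := by
  unfold shortB at h ⊢
  rw [List.any_eq_true] at h ⊢
  obtain ⟨s, hs, h1⟩ := h
  rw [List.mem_range] at hs
  rw [Bool.and_eq_true, Bool.not_eq_true', beq_eq_false_iff_ne, beq_iff_eq] at h1
  refine ⟨(σ ⟨s, hs⟩).val, List.mem_range.2 (σ ⟨s, hs⟩).2, ?_⟩
  rw [Bool.and_eq_true, Bool.not_eq_true', beq_eq_false_iff_ne, beq_iff_eq]
  constructor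
  · intro h2
    have h3 : σ ⟨s, hs⟩ = σ a := Fin.ext h2
    exact h1.1 (congrArg Fin.val (σ.injective h3))
  · have h2 := hσ a ⟨s, hs⟩
    rw [h2]
    exact h1.2

theorem central44 {u : LL} (hu : u ∈ U) : u * x 44 = x 44 * u := by
  have h : U ≤ Subgroup.centralizer {x 44} := by
    rw [cent_short, U_eq]
    exact RG_mono fun r hr hp => by
      unfold posP at hp
      unfold psP
      have := of_decide_eq_true hp
      exact decide_eq_true (by omega)
  have h1 := h hu
  rw [Subgroup.mem_centralizer_singleton_iff] at h1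
  exact h1

theorem central47 {u : LL} (hu : u ∈ U) : u * x 47 = x 47 * u := by
  have h : U ≤ Subgroup.centralizer {x 47} := by
    rw [cent_long, U_eq]
    exact RG_mono fun r hr hp => by
      unfold posP at hp
      unfold plP
      rw [hp, Bool.true_or]
  have h1 := h hu
  rw [Subgroup.mem_centralizer_singleton_iff] at h1
  exact h1

/-- the pair `(x 44, y * x 44 * y⁻¹)` is conjugate under `U` to `(x 44, x a)` with a short root `a` -/
theorem short_pair (y : LL) : ∃ u ∈ U, ∃ a < 48, shortB a = true ∧ y * x 44 * y⁻¹ = u * x a * u⁻¹ := by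
  obtain ⟨u, hu, w, hw, v, hv, rfl⟩ := bruhat y
  obtain ⟨σ, _, hσ, h⟩ := exists_perm hw
  have h44 : (44 : ℕ) < 48 := by omega
  have hs : shortB 44 = true := by decide +kernel
  refine ⟨u, hu, (σ ⟨44, h44⟩).val, (σ ⟨44, h44⟩).2, shortB_perm hσ hs, ?_⟩
  rw [← h ⟨44, h44⟩]
  show u * w * v * x 44 * (u * w * v)⁻¹ = u * (w * x 44 * w⁻¹) * u⁻¹
  have h1 : v * x 44 * v⁻¹ = x 44 := by rw [central44 hv, mul_inv_cancel_right]
  calc u * w * v * x 44 * (u * w * v)⁻¹ = u * w * (v * x 44 * v⁻¹) * w⁻¹ * u⁻¹ := by group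
    _ = _ := by rw [h1]; group

/-- table: `(x 44 * x a) ^ k` is conjugate by the word to `x 44` or `x 44 * x 47` -/
def tab5 : List (ℕ × ℕ × List ℕ × Bool) := [
  (7, 2, [27, 20, 27, 25, 22, 25, 27, 20, 27, 24, 23, 24, 25, 22, 25, 27, 20, 27, 33, 14, 33], true),
  (8, 2, [25, 22, 25, 27, 20, 27, 24, 23, 24, 25, 22, 25, 27, 20, 27, 33, 14, 33], true),
  (9, 2, [27, 20, 27, 24, 23, 24, 25, 22, 25, 27, 20, 27, 33, 14, 33], true),
  (10, 2, [27, 20, 27, 25, 22, 25, 27, 20, 27, 33, 14, 33], true),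
  (11, 2, [24, 23, 24, 25, 22, 25, 27, 20, 27, 33, 14, 33], true),
  (12, 2, [25, 22, 25, 27, 20, 27, 33, 14, 33], true),
  (13, 2, [27, 20, 27, 33, 14, 33], true),
  (14, 2, [33, 14, 33], true),
  (18, 1, [0, 24, 23, 24, 25, 22, 25, 27, 20, 27, 25, 22, 25, 24, 23, 24], false),
  (19, 1, [1, 25, 22, 25, 27, 20, 27, 25, 22, 25, 24, 23, 24], false),
  (20, 1, [2, 27, 20, 27, 25, 22, 25, 24, 23, 24], false),
  (27, 1, [4, 25, 22, 25, 24, 23, 24], false),
  (28, 1, [5, 24, 23, 24], false),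
  (29, 1, [6], false),
  (33, 1, [7], true),
  (34, 1, [8], true),
  (35, 1, [9], true),
  (36, 1, [10], true),
  (37, 1, [11], true),
  (38, 1, [12], true),
  (39, 1, [13], true),
  (40, 1, [14], true)]

/-- the target word -/
def tgt (b : Bool) : List ℕ := bif b then [44] else [44, 47]

def chk5 (e : ℕ × ℕ × List ℕ × Bool) : Bool :=
  chk (List.replicate e.2.1 [44, e.1]).flatten (e.2.2.1 ++ tgt e.2.2.2 ++ e.2.2.1.reverse)

theorem chk5_a : ((tab5.take 8).all chk5) = true := by decide +kernel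
theorem chk5_b : ((tab5.drop 8).all chk5) = true := by decide +kernel

theorem chk5_all {e : ℕ × ℕ × List ℕ × Bool} (he : e ∈ tab5) : chk5 e = true := by
  have h1 := chk5_a
  have h2 := chk5_b
  rw [List.all_eq_true] at h1 h2
  rw [← List.take_append_drop 8 tab5, List.mem_append] at he
  rcases he with he | he
  · exact h1 e he
  · exact h2 e he

theorem tab5_mem : ((List.range 48).all fun a => !shortB a || a == 44 || a == 3 ||
    tab5.any fun e => e.1 == a && (e.2.1 == 1 || e.2.1 == 2)) = true := by decide +kernel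

theorem wd_replicate (k a b : ℕ) : wd (List.replicate k [a, b]).flatten = (x a * x b) ^ k := by
  induction k with
  | zero => simp
  | succ k ih =>
    rw [List.replicate_succ, List.flatten_cons, wd_append, ih, pow_succ', wd_cons, wd_one]

theorem pow_short {a : ℕ} (ha : a < 48) (hs : shortB a = true) (h44 : a ≠ 44) (h3 : a ≠ 3) :
    ∃ k, (k = 1 ∨ k = 2) ∧ ∃ w : LL, (x 44 * x a) ^ k = w * x 44 * w⁻¹ ∨
      (x 44 * x a) ^ k = w * (x 44 * x 47) * w⁻¹ := by
  have h := tab5_mem
  rw [List.all_eq_true] at h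
  have h1 := h a (List.mem_range.2 ha)
  rw [hs, beq_eq_false_iff_ne.2 h44, beq_eq_false_iff_ne.2 h3] at h1
  simp only [Bool.not_true, Bool.false_or] at h1
  rw [List.any_eq_true] at h1
  obtain ⟨e, he, h2⟩ := h1
  rw [Bool.and_eq_true, Bool.or_eq_true, beq_iff_eq, beq_iff_eq, beq_iff_eq] at h2
  refine ⟨e.2.1, h2.2, wd e.2.2.1, ?_⟩
  have h4 := conj_of_chk (chk5_all he)
  rw [wd_replicate, h2.1] at h4
  cases hb : e.2.2.2
  · right
    rw [h4, hb]
    simp [tgt, wd]
  · left
    rw [h4, hb]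
    simp [tgt, wd]

theorem pow_three : (x 44 * x 3) ^ 3 = 1 := by
  have h := opp_all (r := 44) (by omega)
  have h1 : (47 - 44 : ℕ) = 3 := rfl
  rw [h1] at h
  have h2 : (x 44 * x 3) ^ 3 = (x 44 * x 3 * x 44) * (x 3 * x 44 * x 3) := by
    simp only [pow_succ, pow_zero, one_mul, mul_assoc]
  rw [h2, ← h]
  calc x 44 * x 3 * x 44 * (x 44 * x 3 * x 44) = x 44 * x 3 * (x 44 * x 44) * x 3 * x 44 := by group
    _ = 1 := by rw [x_mul_self, mul_one, mul_assoc (x 44), x_mul_self, mul_one, x_mul_self]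

/-- If the product of two distinct short root elements is a `2`-element, then a power of it is conjugate to
`x 44` or to `x 44 * x 47`. -/
theorem exists_pow {y : LL} (hne : y * x 44 * y⁻¹ ≠ x 44) {m : ℕ} (hm : (x 44 * (y * x 44 * y⁻¹)) ^ (2 ^ m) = 1) :
    ∃ k, (k = 1 ∨ k = 2) ∧ ∃ w : LL, (x 44 * (y * x 44 * y⁻¹)) ^ k = w * x 44 * w⁻¹ ∨
      (x 44 * (y * x 44 * y⁻¹)) ^ k = w * (x 44 * x 47) * w⁻¹ := by
  obtain ⟨u, hu, a, ha, hs, h⟩ := short_pair y
  have hc : u * x 44 * u⁻¹ = x 44 := by rw [central44 hu, mul_inv_cancel_right]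
  have he : x 44 * (y * x 44 * y⁻¹) = u * (x 44 * x a) * u⁻¹ := by
    rw [h]
    calc x 44 * (u * x a * u⁻¹) = (u * x 44 * u⁻¹) * (u * x a * u⁻¹) := by rw [hc]
      _ = _ := by group
  rw [he, conj_pow] at hm
  have hm' : (x 44 * x a) ^ (2 ^ m) = 1 := by
    rw [mul_inv_eq_one, mul_eq_left] at hm
    exact hm
  have h44 : a ≠ 44 := by
    rintro rfl
    exact hne (by rw [h, hc])
  have h3 : a ≠ 3 := by
    rintro rfl
    have h4 : orderOf (x 44 * x 3) ∣ 2 ^ m := orderOf_dvd_of_pow_eq_one hm'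
    have h5 : orderOf (x 44 * x 3) ∣ 3 := orderOf_dvd_of_pow_eq_one pow_three
    have h6 : Nat.Coprime (2 ^ m) 3 := Nat.Coprime.pow_left m (by norm_num)
    have h7 : orderOf (x 44 * x 3) = 1 := Nat.eq_one_of_dvd_coprimes h6 h4 h5
    rw [orderOf_eq_one_iff] at h7
    have h8 : x 3 = x 44 := by
      rw [← x_inv 44]
      exact (eq_inv_of_mul_eq_one_right h7)
    exact absurd (x_inj (by omega) (by omega) h8) (by omega)
  obtain ⟨k, hk, w, hw⟩ := pow_short ha hs h44 h3
  refine ⟨k, hk, u * w, ?_⟩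
  rw [he, conj_pow]
  rcases hw with hw | hw
  · left
    rw [hw]
    group
  · right
    rw [hw]
    group

/-! ### generation -/

theorem eq_top_of_n {H : Subgroup LL} (hU : U ≤ H) (hn : ∀ i < 4, n i ∈ H) : H = ⊤ := by
  have hw : w0 ∈ H := by
    unfold w0
    have : ∀ w : List ℕ, (∀ i ∈ w, i < 4) → nw w ∈ H := by
      intro w
      induction w with
      | nil => intro _; exact one_mem _
      | cons i w ih =>
        intro h
        have e : nw (i :: w) = n i * nw w := by simp [nw]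
        rw [e]
        exact mul_mem (hn i (h i List.mem_cons_self)) (ih fun j hj => h j (List.mem_cons_of_mem _ hj))
    exact this w0L w0L_lt
  rw [eq_top_iff, ← closure_x, Subgroup.closure_le]
  rintro _ ⟨r, hr, rfl⟩
  by_cases h : 24 ≤ r
  · exact hU (x_mem_U h hr)
  · have h1 := w0_conj (r := 47 - r) (by omega)
    have h2 : 47 - (47 - r) = r := by omega
    rw [h2] at h1
    rw [← h1]
    exact mul_mem (mul_mem hw (hU (x_mem_U (by omega) (by omega)))) (inv_mem hw)

theorem U_le_Ps : U ≤ Ps := by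
  rw [U_eq]
  exact RG_mono fun r hr hp => by
    unfold posP at hp
    unfold psP
    have := of_decide_eq_true hp
    exact decide_eq_true (by omega)

theorem U_le_Pl : U ≤ Pl := by
  rw [U_eq]
  exact RG_mono fun r hr hp => by
    unfold posP at hp
    unfold plP
    rw [hp, Bool.true_or]

/-- `L = ⟨P_s, P_l⟩` -/
theorem closure_Ps_Pl {H : Subgroup LL} (h1 : Ps ≤ H) (h2 : Pl ≤ H) : H = ⊤ := by
  refine eq_top_of_n (U_le_Ps.trans h1) fun i hi => ?_
  have h3 : ((List.range 4).all fun i => (psP (sp i) && psP (47 - sp i)) || (plP (sp i) && plP (47 - sp i))) = true := by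
    decide +kernel
  rw [List.all_eq_true] at h3
  have h4 := h3 i (List.mem_range.2 hi)
  rw [Bool.or_eq_true, Bool.and_eq_true, Bool.and_eq_true] at h4
  rcases h4 with h4 | h4
  · exact h1 (n_mem_RG hi h4.1 h4.2)
  · exact h2 (n_mem_RG hi h4.1 h4.2)

theorem cent_sup_eq_top : Subgroup.centralizer {x 44} ⊔ Subgroup.centralizer {x 47} = (⊤ : Subgroup LL) := by
  rw [cent_short, cent_long]
  exact closure_Ps_Pl le_sup_left le_sup_right

/-! ### `x 44 * x 47` is a commutator in its centraliser -/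

theorem mid_mem_commutator : x 44 * x 47 ∈
    ⁅Subgroup.centralizer {x 44 * x 47}, (Subgroup.centralizer {x 44 * x 47} : Subgroup LL)⁆ := by
  have h : ∀ u ∈ U, u ∈ Subgroup.centralizer {x 44 * x 47} := by
    intro u hu
    rw [Subgroup.mem_centralizer_singleton_iff, ← mul_assoc, central44 hu, mul_assoc, central47 hu, mul_assoc]
  have h1 : x 44 * x 47 = ⁅x 29, x 41⁆ := by
    have h2 := wd_eq [44, 47] [29, 41, 29, 41] (by decide +kernel)
    rw [commutatorElement_def, x_inv, x_inv]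
    simpa [wd, mul_assoc] using h2
  have h2 : ⁅x 29, x 41⁆ ∈ ⁅Subgroup.centralizer {x 44 * x 47}, (Subgroup.centralizer {x 44 * x 47} : Subgroup LL)⁆ :=
    Subgroup.commutator_mem_commutator (h _ (x_mem_U (by omega) (by omega))) (h _ (x_mem_U (by omega) (by omega)))
  rw [h1]
  rw [h1] at h2
  exact h2

end Cfsg.Agent.FourTwo.Facts2
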