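import Cfsg.Agent.FourTwo.Cent

/-!
The automorphisms of `F₄(2)`:

* `normalizer_U`: `U` is its own normaliser; `sylU`: `U` is a Sylow 2-subgroup;
* `eq_of_conj`: two elements centralising `U` which are conjugate are equal (`x 44`, `x 47`, `x 44 * x 47` are
  pairwise not conjugate);
* `aut_of_map_U`: an automorphism mapping `U` to `U` is conjugation by an element of `U`, or that conjugation
  after the exceptional graph automorphism;
* `aut`: every automorphism is inner, or inner after the graph automorphism;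
* `index_inn`: `|Out F₄(2)| = 2`.
-/

set_option autoImplicit false

namespace Cfsg.Agent.FourTwo.AutF4

open Cfsg.Lie Cfsg.Agent.ChevalleyStructure.TwF4.Tables
open Cfsg.Agent.ChevalleyStructure.TwF4.Rel hiding bar
open Cfsg.Agent.ChevalleyStructure.TwF4.Torus (all_of)
open Cfsg.Agent.ChevalleyStructure.TwF4.NRoot (sp_lt)
open Cfsg.Agent.ChevalleyStructure.TwF4.NStruct (R)
open Cfsg.Agent.ChevalleyStructure.F4TwU
open Cfsg.Agent.FourTwo.Base hiding bar_lt
open Cfsg.Agent.FourTwo.Comm Cfsg.Agent.FourTwo.BN Cfsg.Agent.FourTwo.Par Cfsg.Agent.FourTwo.Cent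

/-! ### generalities -/

section general

variable {G : Type*} [Group G]

/-- a `p`-subgroup whose normaliser is itself has index prime to `p` -/
theorem not_dvd_index [Finite G] {p n : ℕ} [Fact p.Prime] {S : Subgroup G} (hS : Nat.card S = p ^ n)
    (hN : Subgroup.normalizer (S : Set G) = S) : ¬ p ∣ S.index := by
  have h := Sylow.card_quotient_normalizer_modEq_card_quotient hS
  rw [← Subgroup.index_eq_card, ← Subgroup.index_eq_card] at h
  have h1 : (Subgroup.comap (Subgroup.normalizer (S : Set G)).subtype S) = ⊤ := by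
    rw [← Subgroup.subgroupOf, Subgroup.subgroupOf_eq_top, hN]
  rw [h1, Subgroup.index_top] at h
  intro h2
  have h4 : 1 ≡ 0 [MOD p] := h.trans (Nat.modEq_zero_iff_dvd.2 h2)
  exact (Fact.out : p.Prime).one_lt.ne' (Nat.dvd_one.1 (Nat.modEq_zero_iff_dvd.1 h4))

theorem exists_conj_mem [Finite G] {p : ℕ} [Fact p.Prime] {S T : Subgroup G} (hS : IsPGroup p S)
    (hi : ¬ p ∣ S.index) (hT : IsPGroup p T) : ∃ g : G, ∀ t ∈ T, g⁻¹ * t * g ∈ S := by
  obtain ⟨Q, hQ⟩ := hT.exists_le_sylow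
  obtain ⟨g, hg⟩ := MulAction.exists_smul_eq G (hS.toSylow hi) Q
  refine ⟨g, fun t ht => ?_⟩
  have h1 : t ∈ (Q : Subgroup G) := hQ ht
  rw [← hg, Sylow.coe_subgroup_smul, Subgroup.mem_pointwise_smul_iff_inv_smul_mem] at h1
  have e : (MulAut.conj g)⁻¹ • t = g⁻¹ * t * g := by
    rw [← map_inv, MulAut.smul_def, MulAut.conj_apply, inv_inv]
  rw [e] at h1
  exact h1

theorem eq_of_conj_gen [Finite G] {p : ℕ} [Fact p.Prime] {S : Subgroup G} (hS : IsPGroup p S)
    (hi : ¬ p ∣ S.index) (hN : Subgroup.normalizer (S : Set G) = S) {z z' g : G} (hz : ∀ u ∈ S, u * z = z * u)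
    (hz' : ∀ u ∈ S, u * z' = z' * u) (h : g * z * g⁻¹ = z') : z = z' := by
  have h1 : ∀ y : G, (∀ u ∈ S, u * y = y * u) →
      y ∈ Subgroup.centralizer ((hS.toSylow hi : Subgroup G) : Set G) := by
    intro y hy
    rw [Subgroup.mem_centralizer_iff]
    intro u hu
    exact hy u hu
  have h2 : (g⁻¹)⁻¹ * z * g⁻¹ = z' := by rw [inv_inv]; exact h
  obtain ⟨m, hm, e⟩ := Sylow.conj_eq_normalizer_conj_of_mem_centralizer (hS.toSylow hi) z g⁻¹ (h1 z hz)
    (h1 _ (by rw [h2]; exact hz'))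
  have hm' : m ∈ S := by
    have h3 : m ∈ Subgroup.normalizer (S : Set G) := hm
    rwa [hN] at h3
  rw [h2] at e
  rw [e, mul_assoc, ← hz m hm', ← mul_assoc, inv_mul_cancel, one_mul]

/-- an automorphism of a subgroup, with the multiplication of the subgroup -/
def ofAut (H : Subgroup G) (α : MulAut H) : H ≃* H := α

theorem ofAut_apply (H : Subgroup G) (α : MulAut H) (h : H) : ofAut H α h = α h := rfl

/-- `|Out H|` -/
noncomputable def outIndex (H : Subgroup G) : ℕ := (MulAut.conj : H →* MulAut H).range.index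

theorem index_gen (H : Subgroup G) (γ : H ≃* H) (hγ : ∀ h, γ (γ h) = h)
    (haut : ∀ α : H ≃* H, ∃ g : H, (∀ h, α h = g * h * g⁻¹) ∨ (∀ h, α h = g * γ h * g⁻¹))
    (hno : ¬ ∃ g : H, ∀ h, γ h = g * h * g⁻¹) : (MulAut.conj : H →* MulAut H).range.index = 2 := by
  rw [Subgroup.index_eq_two_iff]
  refine ⟨γ, fun α => ?_⟩
  have h0 : ∀ β : MulAut H, β ∈ (MulAut.conj : H →* MulAut H).range ↔ ∃ g : H, ∀ h, β h = g * h * g⁻¹ := by
    intro β
    constructor
    · rintro ⟨g, rfl⟩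
      exact ⟨g, fun h => rfl⟩
    · rintro ⟨g, hg⟩
      exact ⟨g, MulEquiv.ext fun h => (hg h).symm⟩
  have hno' : ¬ ((∃ g : H, ∀ h, (α * γ) h = g * h * g⁻¹) ∧ ∃ g : H, ∀ h, α h = g * h * g⁻¹) := by
    rintro ⟨⟨g, hg⟩, k, hk⟩
    refine hno ⟨k⁻¹ * g, fun h => ?_⟩
    have h1 := hg h
    have h2 : (α * γ) h = α (γ h) := rfl
    rw [h2, hk] at h1
    have : γ h = k⁻¹ * (k * γ h * k⁻¹) * k := by group
    rw [this, h1]
    group
  have hor : (∃ g : H, ∀ h, (α * γ) h = g * h * g⁻¹) ∨ ∃ g : H, ∀ h, α h = g * h * g⁻¹ := by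
    obtain ⟨g, h | h⟩ := haut α
    · exact Or.inr ⟨g, h⟩
    · left
      refine ⟨g, fun k => ?_⟩
      show α (γ k) = _
      rw [h, hγ]
  rw [h0, h0]
  rcases hor with h | h
  · exact Or.inl ⟨h, fun h' => hno' ⟨h, h'⟩⟩
  · exact Or.inr ⟨h, fun h' => hno' ⟨h', h⟩⟩

/-- the automorphism induced by a normalising element -/
theorem exists_ind {H X : Type*} [Group H] [Finite H] [Group X] (φ : H →* X) (hφ : Function.Injective φ) (n : X)
    (h : ∀ l, n * φ l * n⁻¹ ∈ φ.range) : ∃ α : H ≃* H, ∀ l, n * φ l * n⁻¹ = φ (α l) := by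
  choose f hf using h
  let F : H →* H :=
    { toFun := f
      map_one' := hφ (by rw [hf, map_one, mul_one, mul_inv_cancel])
      map_mul' := fun a b => hφ (by
        rw [map_mul, hf, hf, hf, map_mul]
        group) }
  have hF : Function.Injective F := by
    intro a b hab
    apply hφ
    have h1 : φ (f a) = φ (f b) := congrArg φ hab
    rw [hf, hf] at h1
    exact mul_left_cancel (mul_right_cancel h1)
  exact ⟨MulEquiv.ofBijective F (Finite.injective_iff_bijective.1 hF), fun l => (hf l).symm⟩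

end general

/-- conjugation, as an automorphism -/
def cj (g : LL) : LL ≃* LL where
  toFun h := g * h * g⁻¹
  invFun h := g⁻¹ * h * g
  left_inv h := by group
  right_inv h := by group
  map_mul' a b := by group

theorem cj_apply (g h : LL) : cj g h = g * h * g⁻¹ := rfl

/-! ### `U` is its own normaliser -/

theorem refl_sp : ∀ i < 4, refl i (sp i) = 47 - sp i := by decide

theorem sp_ge : ∀ i < 4, 24 ≤ sp i := by decide

theorem sp_inj : ∀ i < 4, ∀ j < 4, sp i = sp j → i = j := by decide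

theorem n_conj_sp {i : ℕ} (hi : i < 4) : n i * x (sp i) * (n i)⁻¹ = x (47 - sp i) := by
  rw [n_conj hi (sp_lt hi), refl_sp i hi]

theorem n_conj_sp' {i : ℕ} (hi : i < 4) : n i * x (47 - sp i) * (n i)⁻¹ = x (sp i) := by
  rw [← n_conj_sp hi, n_inv hi]
  have h := n_mul_self hi
  have e : n i * (n i * x (sp i) * n i) * n i = (n i * n i) * x (sp i) * (n i * n i) := by simp only [mul_assoc]
  rw [e, h, one_mul, mul_one]

theorem neg_not_mem_U {i : ℕ} (hi : i < 4) : x (47 - sp i) ∉ U := fun h => by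
  have h1 := pos_of_mem_U (by omega) h
  have h2 := sp_ge i hi
  omega

theorem n_not_mem_normalizer {i : ℕ} (hi : i < 4) : n i ∉ Subgroup.normalizer (U : Set LL) := fun h => by
  have h1 := (Subgroup.mem_normalizer_iff.1 h (x (sp i))).1 (x_mem_U (sp_ge i hi) (sp_lt hi))
  rw [n_conj_sp hi] at h1
  exact neg_not_mem_U hi h1

theorem n_not_mem_U {i : ℕ} (hi : i < 4) : n i ∉ U := fun h =>
  n_not_mem_normalizer hi (Subgroup.le_normalizer h)

/-- A subgroup containing `U` and no `n i` is `U`. -/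
theorem eq_U {H : Subgroup LL} (hU : U ≤ H) (h : ∀ i < 4, n i ∉ H) : H = U := by
  rw [parabolic_eq hU]
  have : {g : LL | ∃ i < 4, n i ∈ H ∧ g = n i} = ∅ := by
    rw [Set.eq_empty_iff_forall_notMem]
    rintro g ⟨i, hi, hn, -⟩
    exact h i hi hn
  rw [this, Subgroup.closure_empty, sup_bot_eq]

theorem normalizer_U : Subgroup.normalizer (U : Set LL) = U :=
  eq_U Subgroup.le_normalizer fun _ hi => n_not_mem_normalizer hi

/-! ### the Sylow subgroup -/

theorem card_U : Nat.card U = 2 ^ 24 := by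
  rw [U_eq, card_RG (by decide +kernel)]
  congr 1

theorem isPGroup_U : IsPGroup 2 U := IsPGroup.of_card card_U

theorem index_U : ¬ 2 ∣ U.index := by
  have : Fact (Nat.Prime 2) := ⟨Nat.prime_two⟩
  exact not_dvd_index card_U normalizer_U

/-- Two conjugate elements centralising `U` are equal. -/
theorem eq_of_conj {z z' g : LL} (hz : ∀ u ∈ U, u * z = z * u) (hz' : ∀ u ∈ U, u * z' = z' * u)
    (h : g * z * g⁻¹ = z') : z = z' := by
  have : Fact (Nat.Prime 2) := ⟨Nat.prime_two⟩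
  exact eq_of_conj_gen isPGroup_U index_U normalizer_U hz hz' h

theorem comm_44 {u : LL} (hu : u ∈ U) : u * x 44 = x 44 * u := by
  have h : U ≤ Subgroup.centralizer {x 44} := by
    rw [cent_short, U_eq]
    exact RG_mono (by decide +kernel)
  have h1 := h hu
  rw [Subgroup.mem_centralizer_singleton_iff] at h1
  exact h1

theorem comm_47 {u : LL} (hu : u ∈ U) : u * x 47 = x 47 * u := by
  have h : U ≤ Subgroup.centralizer {x 47} := by
    rw [cent_long, U_eq]
    exact RG_mono (by decide +kernel)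
  have h1 := h hu
  rw [Subgroup.mem_centralizer_singleton_iff] at h1
  exact h1

theorem comm_c {u : LL} (hu : u ∈ U) : u * (x 44 * x 47) = x 44 * x 47 * u := by
  rw [← mul_assoc, comm_44 hu, mul_assoc, comm_47 hu, mul_assoc]

theorem x44_ne_x47 : x 44 ≠ x 47 := fun h => absurd (x_inj (by omega) (by omega) h) (by decide)

theorem x44_ne_c : x 44 ≠ x 44 * x 47 := fun h => x_ne_one (r := 47) (by omega) (by simpa using h.symm)

theorem x47_ne_c : x 47 ≠ x 44 * x 47 := fun h => x_ne_one (r := 44) (by omega) (by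
  have h1 : (1 : LL) * x 47 = x 44 * x 47 := by rw [one_mul]; exact h
  exact (mul_right_cancel h1).symm)

/-- `x 44`, `x 47`, `x 44 * x 47` are pairwise not conjugate. -/
theorem not_conj_44_47 (g : LL) : g * x 44 * g⁻¹ ≠ x 47 := fun h =>
  x44_ne_x47 (eq_of_conj (fun _ => comm_44) (fun _ => comm_47) h)

theorem not_conj_44_c (g : LL) : g * x 44 * g⁻¹ ≠ x 44 * x 47 := fun h =>
  x44_ne_c (eq_of_conj (fun _ => comm_44) (fun _ => comm_c) h)

theorem not_conj_47_c (g : LL) : g * x 47 * g⁻¹ ≠ x 44 * x 47 := fun h =>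
  x47_ne_c (eq_of_conj (fun _ => comm_47) (fun _ => comm_c) h)

/-! ### the opposite Sylow subgroup -/

theorem mem_map_iff {H : Subgroup LL} {α : LL ≃* LL} {g : LL} : g ∈ H.map α.toMonoidHom ↔ α.symm g ∈ H := by
  constructor
  · rintro ⟨h, hh, rfl⟩
    show α.symm (α h) ∈ H
    rw [α.symm_apply_apply]
    exact hh
  · intro h
    exact ⟨α.symm g, h, α.apply_symm_apply g⟩

theorem apply_mem_map {H : Subgroup LL} {α : LL ≃* LL} {g : LL} : α g ∈ H.map α.toMonoidHom ↔ g ∈ H := by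
  rw [mem_map_iff, α.symm_apply_apply]

theorem card_map (α : LL ≃* LL) (H : Subgroup LL) : Nat.card (H.map α.toMonoidHom) = Nat.card H :=
  Subgroup.card_map_of_injective α.injective

/-- the opposite Sylow 2-subgroup -/
def Vo : Subgroup LL := U.map (cj w0).toMonoidHom

theorem x_mem_Vo {r : ℕ} (hr : r < 24) : x r ∈ Vo := by
  refine ⟨x (47 - r), x_mem_U (by omega) (by omega), ?_⟩
  show w0 * x (47 - r) * w0⁻¹ = x r
  rw [w0_conj (by omega)]
  congr 1
  omega

theorem Vo_eq_closure : Vo = Subgroup.closure {g : LL | ∃ r < 24, g = x r} := by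
  unfold Vo
  rw [U_eq_closure, MonoidHom.map_closure]
  congr 1
  ext g
  constructor
  · rintro ⟨_, ⟨r, h, h', rfl⟩, rfl⟩
    refine ⟨47 - r, by omega, ?_⟩
    show w0 * x r * w0⁻¹ = x (47 - r)
    exact w0_conj h'
  · rintro ⟨r, hr, rfl⟩
    refine ⟨x (47 - r), ⟨47 - r, by omega, by omega, rfl⟩, ?_⟩
    show w0 * x (47 - r) * w0⁻¹ = x r
    rw [w0_conj (by omega)]
    congr 1
    omega

theorem Vo_le_V : Vo ≤ V := by
  rw [Vo_eq_closure, Subgroup.closure_le]
  rintro _ ⟨r, hr, rfl⟩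
  exact x_mem_V hr

theorem U_inf_Vo {g : LL} (h : g ∈ U) (h' : g ∈ Vo) : g = 1 := by
  have h1 : g ∈ U ⊓ V := ⟨h, Vo_le_V h'⟩
  rwa [U_inf_V, Subgroup.mem_bot] at h1

theorem card_Vo : Nat.card Vo = 2 ^ 24 := by
  unfold Vo
  rw [card_map, card_U]

/-- the opposite Sylow subgroup of an automorphism preserving `U` -/
theorem exists_opp {α : LL ≃* LL} (hU : ∀ g, α g ∈ U ↔ g ∈ U) :
    ∃ u ∈ U, ∀ g, u⁻¹ * α g * u ∈ Vo ↔ g ∈ Vo := by
  obtain ⟨u, hu, w, hw, v, hv, e⟩ := bruhat (α w0)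
  obtain ⟨σ, -, -, hσ⟩ := exists_perm hw
  -- `α Vo = u w U w⁻¹ u⁻¹`
  have h1 : ∀ g, g ∈ U → (α w0)⁻¹ * (u * w * g * w⁻¹ * u⁻¹) * α w0 ∈ U := by
    intro g hg
    rw [e]
    have : (u * w * v)⁻¹ * (u * w * g * w⁻¹ * u⁻¹) * (u * w * v) = v⁻¹ * g * v := by group
    rw [this]
    exact mul_mem (mul_mem (inv_mem hv) hg) hv
  have memVo : ∀ g, g ∈ Vo ↔ w0⁻¹ * g * w0 ∈ U := by
    intro g
    constructor
    · rintro ⟨h, hh, rfl⟩
      show w0⁻¹ * (w0 * h * w0⁻¹) * w0 ∈ U
      have : w0⁻¹ * (w0 * h * w0⁻¹) * w0 = h := by group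
      rw [this]
      exact hh
    · intro h
      refine ⟨_, h, ?_⟩
      show w0 * (w0⁻¹ * g * w0) * w0⁻¹ = g
      group
  -- the elements of `w U w⁻¹`
  have h2 : ∀ g, g ∈ U → α.symm (u * (w * g * w⁻¹) * u⁻¹) ∈ Vo := by
    intro g hg
    rw [memVo, ← hU, map_mul, map_mul, map_inv, α.apply_symm_apply]
    have := h1 g hg
    have e2 : u * (w * g * w⁻¹) * u⁻¹ = u * w * g * w⁻¹ * u⁻¹ := by group
    rw [e2]
    exact this
  have h3 : ∀ r : R, 24 ≤ r.val → (σ r).val < 24 := by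
    intro r hr
    by_contra hn
    have h4 : x (σ r).val ∈ U := x_mem_U (by omega) (σ r).2
    have h5 := h2 _ (x_mem_U hr r.2)
    rw [hσ r] at h5
    have h6 : α.symm (u * x (σ r).val * u⁻¹) ∈ U := by
      rw [← hU, α.apply_symm_apply]
      exact mul_mem (mul_mem hu h4) (inv_mem hu)
    have h7 := U_inf_Vo h6 h5
    have h8 : u * x (σ r).val * u⁻¹ = 1 := by
      rw [← α.apply_symm_apply (u * x (σ r).val * u⁻¹), h7, map_one]
    have h9 : x (σ r).val = 1 := by
      have : x (σ r).val = u⁻¹ * (u * x (σ r).val * u⁻¹) * u := by group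
      rw [this, h8]
      group
    exact x_ne_one (σ r).2 h9
  have h4 : U.map (cj w).toMonoidHom ≤ Vo := by
    rw [U_eq_closure, MonoidHom.map_closure, Subgroup.closure_le]
    rintro _ ⟨_, ⟨r, h, h', rfl⟩, rfl⟩
    show w * x r * w⁻¹ ∈ Vo
    have h5 := hσ (⟨r, h'⟩ : R)
    change w * x r * w⁻¹ = _ at h5
    rw [h5]
    exact x_mem_Vo (h3 ⟨r, h'⟩ h)
  have h5 : U.map (cj w).toMonoidHom = Vo := by
    apply Subgroup.eq_of_le_of_card_ge h4
    rw [card_Vo, card_map, card_U]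
  refine ⟨u, hu, ?_⟩
  -- one direction, and cardinalities
  have h6 : Vo ≤ Vo.map ((cj u⁻¹).toMonoidHom.comp α.toMonoidHom) := by
    intro g hg
    rw [← h5] at hg
    obtain ⟨h, hh, rfl⟩ := hg
    refine ⟨_, h2 h hh, ?_⟩
    show u⁻¹ * α (α.symm (u * (w * h * w⁻¹) * u⁻¹)) * u⁻¹⁻¹ = w * h * w⁻¹
    rw [α.apply_symm_apply]
    group
  have hinj : Function.Injective ((cj u⁻¹).toMonoidHom.comp α.toMonoidHom) := by
    intro a b hab
    exact α.injective ((cj u⁻¹).injective hab)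
  have h7 : Vo = Vo.map ((cj u⁻¹).toMonoidHom.comp α.toMonoidHom) := by
    apply Subgroup.eq_of_le_of_card_ge h6
    exact le_of_eq (Subgroup.card_map_of_injective hinj)
  have e3 : ∀ g, u⁻¹ * α g * u = ((cj u⁻¹).toMonoidHom.comp α.toMonoidHom) g := by
    intro g
    show u⁻¹ * α g * u = u⁻¹ * α g * u⁻¹⁻¹
    rw [inv_inv]
  intro g
  rw [e3]
  constructor
  · intro hg
    rw [h7] at hg
    obtain ⟨h, hh, e4⟩ := hg
    rw [← hinj e4]
    exact hh
  · intro hg
    rw [h7]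
    exact ⟨g, hg, rfl⟩

/-! ### the minimal parabolic subgroups -/

/-- the roots of the minimal parabolic subgroup -/
def ppP (i r : ℕ) : Bool := decide (24 ≤ r) || r == 47 - sp i

/-- the roots of its radical -/
def uuP (i r : ℕ) : Bool := decide (24 ≤ r) && !(r == sp i)

/-- the minimal parabolic subgroups -/
def PP (i : ℕ) : Subgroup LL := RG (ppP i)

theorem U_le_PP (i : ℕ) : U ≤ PP i := by
  rw [U_eq]
  exact RG_mono fun r _ h => by
    unfold posP at h
    unfold ppP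
    rw [h, Bool.true_or]

theorem n_mem_PP {i : ℕ} (hi : i < 4) : n i ∈ PP i :=
  n_mem_RG hi (by
    have := sp_ge i hi
    simp [ppP, this]) (by simp [ppP])

theorem PP_le {H : Subgroup LL} (hU : U ≤ H) {i : ℕ} (hi : i < 4) (hn : n i ∈ H) : PP i ≤ H := by
  refine RG_le fun r hr hp => ?_
  unfold ppP at hp
  rw [Bool.or_eq_true, decide_eq_true_eq, beq_iff_eq] at hp
  rcases hp with hp | hp
  · exact hU (x_mem_U hp hr)
  · rw [hp, ← n_conj_sp hi]
    exact mul_mem (mul_mem hn (hU (x_mem_U (sp_ge i hi) (sp_lt hi)))) (inv_mem hn)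

theorem norm_tab : ∀ i < 4, normB (ppP i) (uuP i) = true := by decide +kernel

theorem closed_tab : ∀ i < 4, closedB (uuP i) = true := by decide +kernel

theorem uu_le_U {i : ℕ} (hi : i < 4) : RG (uuP i) ≤ U := RG_le_U (closed_tab i hi)

theorem eq_of_n_mem_PP {i k : ℕ} (hi : i < 4) (hk : k < 4) (h : n k ∈ PP i) : k = i := by
  by_contra hne
  have h1 : x (sp k) ∈ RG (uuP i) := x_mem_RG (sp_lt hk) (by
    unfold uuP
    rw [decide_eq_true (sp_ge k hk), Bool.true_and, Bool.not_eq_true', beq_eq_false_iff_ne]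
    exact fun e => hne (sp_inj k hk i hi e))
  have h2 := conj_mem (norm_tab i hi) h h1
  rw [n_conj_sp hk] at h2
  exact neg_not_mem_U hk (uu_le_U hi h2)

theorem PP_ne_U {i : ℕ} (hi : i < 4) : PP i ≠ U := fun h => n_not_mem_U hi (h ▸ n_mem_PP hi)

/-- An automorphism preserving `U` permutes the minimal parabolic subgroups. -/
theorem exists_map_PP {β : LL ≃* LL} (hU : ∀ g, β g ∈ U ↔ g ∈ U) {i : ℕ} (hi : i < 4) :
    ∃ j < 4, ∀ g, β g ∈ PP j ↔ g ∈ PP i := by
  have key : ∀ (γ : LL ≃* LL), (∀ g, γ g ∈ U ↔ g ∈ U) → ∀ k < 4, ∃ j < 4, n j ∈ (PP k).map γ.toMonoidHom := by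
    intro γ hγ k hk
    by_contra hn
    push Not at hn
    have h1 : U ≤ (PP k).map γ.toMonoidHom := by
      intro g hg
      refine ⟨γ.symm g, U_le_PP k ?_, γ.apply_symm_apply g⟩
      rw [← hγ, γ.apply_symm_apply]
      exact hg
    have h2 := eq_U h1 hn
    have h3 : n k ∈ U := by
      rw [← hγ, ← h2]
      exact ⟨n k, n_mem_PP hk, rfl⟩
    exact n_not_mem_U hk h3
  obtain ⟨j, hj, hnj⟩ := key β hU i hi
  have hUs : ∀ g, β.symm g ∈ U ↔ g ∈ U := fun g => by rw [← hU, β.apply_symm_apply]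
  obtain ⟨k, hk, hnk⟩ := key β.symm hUs j hj
  have hle : ∀ {γ : LL ≃* LL}, (∀ g, γ g ∈ U ↔ g ∈ U) → ∀ k, U ≤ (PP k).map γ.toMonoidHom := by
    intro γ hγ k g hg
    refine ⟨γ.symm g, U_le_PP k ?_, γ.apply_symm_apply g⟩
    rw [← hγ, γ.apply_symm_apply]
    exact hg
  have h1 : PP j ≤ (PP i).map β.toMonoidHom := PP_le (hle hU i) hj hnj
  have h2 : PP k ≤ (PP j).map β.symm.toMonoidHom := PP_le (hle hUs j) hk hnk
  have h3 : (PP j).map β.symm.toMonoidHom ≤ PP i := by
    rintro _ ⟨g, hg, rfl⟩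
    obtain ⟨h, hh, e⟩ := h1 hg
    show β.symm g ∈ PP i
    rw [← e]
    show β.symm (β h) ∈ PP i
    rw [β.symm_apply_apply]
    exact hh
  have h4 : k = i := eq_of_n_mem_PP hi hk (h3 hnk)
  subst h4
  refine ⟨j, hj, fun g => ⟨fun hg => ?_, fun hg => ?_⟩⟩
  · obtain ⟨h, hh, e⟩ := h1 hg
    have : h = g := β.injective e
    rw [← this]
    exact hh
  · obtain ⟨h, hh, e⟩ := h2 hg
    have e' : β.symm h = g := e
    rw [← e', β.apply_symm_apply]
    exact hh

/-- the elements of the minimal parabolic subgroups -/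
theorem PP_cases {i : ℕ} (hi : i < 4) {g : LL} (hg : g ∈ PP i) :
    ∃ u ∈ U, g = u ∨ g = u * x (47 - sp i) ∨ g = u * x (47 - sp i) * x (sp i) := by
  have hx := sp_lt hi
  have hb : x (sp i) * x (47 - sp i) * x (sp i) = x (47 - sp i) * x (sp i) * x (47 - sp i) := opp_all hx
  have hxx := Base.x_mul_self (sp i)
  have hyy := Base.x_mul_self (47 - sp i)
  have hxU : x (sp i) ∈ U := x_mem_U (sp_ge i hi) hx
  set X := x (sp i) with hX
  set Y := x (47 - sp i) with hY
  have hXn : X ∈ PP i := x_mem_RG hx (by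
    have := sp_ge i hi
    simp [ppP, this])
  have hYn : Y ∈ PP i := x_mem_RG (by omega) (by simp [ppP])
  have hXi : X⁻¹ = X := Base.x_inv _
  have hYi : Y⁻¹ = Y := Base.x_inv _
  -- one generator
  have step : ∀ a : LL, (∃ r < 48, ppP i r = true ∧ a = x r) → ∀ g : LL,
      (∃ u ∈ U, g = u ∨ g = u * Y ∨ g = u * Y * X) → ∃ u ∈ U, g * a = u ∨ g * a = u * Y ∨ g * a = u * Y * X := by
    rintro _ ⟨r, hr, hp, rfl⟩ g ⟨u, hu, h⟩
    by_cases h1 : r = 47 - sp i
    · have h1' : x r = Y := by rw [h1]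
      rw [h1']
      rcases h with rfl | rfl | rfl
      · exact ⟨g, hu, Or.inr (Or.inl rfl)⟩
      · exact ⟨u, hu, Or.inl (by rw [mul_assoc, hyy, mul_one])⟩
      · refine ⟨u * X, mul_mem hu hxU, Or.inr (Or.inr ?_)⟩
        have e : u * Y * X * Y = u * (Y * X * Y) := by simp only [mul_assoc]
        rw [e, ← hb]
        simp only [mul_assoc]
    · by_cases h2 : r = sp i
      · have h2' : x r = X := by rw [h2]
        rw [h2']
        rcases h with rfl | rfl | rfl
        · exact ⟨g * X, mul_mem hu hxU, Or.inl rfl⟩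
        · exact ⟨u, hu, Or.inr (Or.inr rfl)⟩
        · exact ⟨u, hu, Or.inr (Or.inl (by rw [mul_assoc, hxx, mul_one]))⟩
      · have h3 : 24 ≤ r := by
          unfold ppP at hp
          rw [Bool.or_eq_true, decide_eq_true_eq, beq_iff_eq] at hp
          exact hp.resolve_right h1
        have h4 : x r ∈ RG (uuP i) := x_mem_RG hr (by
          unfold uuP
          rw [decide_eq_true h3, Bool.true_and, Bool.not_eq_true', beq_eq_false_iff_ne]
          exact h2)
        have h5 : Y * x r * Y ∈ RG (uuP i) := by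
          have := conj_mem (norm_tab i hi) hYn h4
          rwa [hYi] at this
        have h6 : Y * (X * x r * X) * Y ∈ RG (uuP i) := by
          have h7 := conj_mem (norm_tab i hi) hXn h4
          rw [hXi] at h7
          have h8 := conj_mem (norm_tab i hi) hYn h7
          rwa [hYi] at h8
        rcases h with rfl | rfl | rfl
        · exact ⟨g * x r, mul_mem hu (x_mem_U h3 hr), Or.inl rfl⟩
        · refine ⟨u * (Y * x r * Y), mul_mem hu (uu_le_U hi h5), Or.inr (Or.inl ?_)⟩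
          have e : u * (Y * x r * Y) * Y = u * Y * x r * (Y * Y) := by simp only [mul_assoc]
          rw [e, hyy, mul_one]
        · refine ⟨u * (Y * (X * x r * X) * Y), mul_mem hu (uu_le_U hi h6), Or.inr (Or.inr ?_)⟩
          have e : u * (Y * (X * x r * X) * Y) * Y * X = u * Y * X * x r * (X * (Y * Y) * X) := by
            simp only [mul_assoc]
          rw [e, hyy, mul_one, hxx, mul_one]
  unfold PP RG at hg
  refine Subgroup.closure_induction_right
    (p := fun (g : LL) _ => ∃ u ∈ U, g = u ∨ g = u * Y ∨ g = u * Y * X) ?_ ?_ ?_ hg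
  · exact ⟨1, one_mem _, Or.inl rfl⟩
  · intro g _ a ha h
    exact step a ha g h
  · intro g _ a ha h
    refine step _ ?_ g h
    obtain ⟨r, hr, hp, rfl⟩ := ha
    exact ⟨r, hr, hp, Base.x_inv r⟩

/-- a minimal parabolic subgroup meets the opposite Sylow subgroup in a root subgroup -/
theorem PP_inf_Vo {i : ℕ} (hi : i < 4) {g : LL} (hg : g ∈ PP i) (hv : g ∈ Vo) : g = 1 ∨ g = x (47 - sp i) := by
  have hx := sp_lt hi
  have h24 := sp_ge i hi
  have hb : x (sp i) * x (47 - sp i) * x (sp i) = x (47 - sp i) * x (sp i) * x (47 - sp i) := opp_all hx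
  have hxx := Base.x_mul_self (sp i)
  have hyy := Base.x_mul_self (47 - sp i)
  have hY : x (47 - sp i) ∈ Vo := x_mem_Vo (by omega)
  obtain ⟨u, hu, rfl | rfl | rfl⟩ := PP_cases hi hg
  · exact Or.inl (U_inf_Vo hu hv)
  · have h1 : u ∈ Vo := by
      have := mul_mem hv (inv_mem hY)
      rwa [mul_inv_cancel_right] at this
    rw [U_inf_Vo hu h1, one_mul]
    exact Or.inr rfl
  · exfalso
    set X := x (sp i) with hX
    set Y := x (47 - sp i) with hY'
    have h1 : (u * Y * X) * Y * (u * Y * X)⁻¹ ∈ Vo := mul_mem (mul_mem hv hY) (inv_mem hv)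
    have e : (u * Y * X) * Y * (u * Y * X)⁻¹ = u * X * u⁻¹ := by
      have e1 : (u * Y * X)⁻¹ = X * Y * u⁻¹ := by
        rw [mul_inv_rev, mul_inv_rev, show X⁻¹ = X from Base.x_inv _, show Y⁻¹ = Y from Base.x_inv _, mul_assoc]
      rw [e1]
      have e2 : u * Y * X * Y * (X * Y * u⁻¹) = u * (Y * X * Y) * (X * Y) * u⁻¹ := by simp only [mul_assoc]
      rw [e2, ← hb]
      have e3 : u * (X * Y * X) * (X * Y) * u⁻¹ = u * (X * (Y * (X * X) * Y)) * u⁻¹ := by simp only [mul_assoc]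
      rw [e3, hxx, mul_one, hyy, mul_one]
    rw [e] at h1
    have h2 : u * X * u⁻¹ = 1 := U_inf_Vo (mul_mem (mul_mem hu (x_mem_U h24 hx)) (inv_mem hu)) h1
    have h3 : X = 1 := by
      have : X = u⁻¹ * (u * X * u⁻¹) * u := by group
      rw [this, h2]
      group
    exact x_ne_one hx h3

/-- An automorphism preserving `U` and the opposite subgroup permutes the opposite fundamental root elements. -/
theorem exists_neg {β : LL ≃* LL} (hU : ∀ g, β g ∈ U ↔ g ∈ U) (hV : ∀ g, β g ∈ Vo ↔ g ∈ Vo) {i : ℕ} (hi : i < 4) :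
    ∃ j < 4, β (x (47 - sp i)) = x (47 - sp j) := by
  obtain ⟨j, hj, h⟩ := exists_map_PP hU hi
  refine ⟨j, hj, ?_⟩
  have h24 := sp_ge i hi
  have h1 : β (x (47 - sp i)) ∈ PP j := (h _).2 (x_mem_RG (by omega) (by simp [ppP]))
  have h2 : β (x (47 - sp i)) ∈ Vo := (hV _).2 (x_mem_Vo (by omega))
  rcases PP_inf_Vo hj h1 h2 with h3 | h3
  · exfalso
    exact x_ne_one (r := 47 - sp i) (by omega) ((map_eq_one_iff β β.injective).1 h3)
  · exact h3

theorem mem_Vo_iff {g : LL} : g ∈ Vo ↔ w0⁻¹ * g * w0 ∈ U := by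
  constructor
  · rintro ⟨h, hh, rfl⟩
    show w0⁻¹ * (w0 * h * w0⁻¹) * w0 ∈ U
    have : w0⁻¹ * (w0 * h * w0⁻¹) * w0 = h := by group
    rw [this]
    exact hh
  · intro h
    refine ⟨_, h, ?_⟩
    show w0 * (w0⁻¹ * g * w0) * w0⁻¹ = g
    group

theorem mem_Vo_iff' {g : LL} : g ∈ U ↔ w0⁻¹ * g * w0 ∈ Vo := by
  have h : Vo = U.map (cj w0⁻¹).toMonoidHom := by
    rw [Vo_eq_closure, U_eq_closure, MonoidHom.map_closure]
    congr 1
    ext g
    constructor
    · rintro ⟨r, hr, rfl⟩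
      refine ⟨x (47 - r), ⟨47 - r, by omega, by omega, rfl⟩, ?_⟩
      show w0⁻¹ * x (47 - r) * w0⁻¹⁻¹ = x r
      rw [← w0_conj (show r < 48 by omega)]
      group
    · rintro ⟨_, ⟨r, h, h', rfl⟩, rfl⟩
      refine ⟨47 - r, by omega, ?_⟩
      show w0⁻¹ * x r * w0⁻¹⁻¹ = x (47 - r)
      have h1 := w0_conj (show 47 - r < 48 by omega)
      have e : 47 - (47 - r) = r := by omega
      rw [e] at h1
      rw [← h1]
      group
  rw [h]
  constructor
  · intro hg
    refine ⟨g, hg, ?_⟩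
    show w0⁻¹ * g * w0⁻¹⁻¹ = _
    rw [inv_inv]
  · rintro ⟨k, hk, e⟩
    have e' : w0⁻¹ * k * w0⁻¹⁻¹ = w0⁻¹ * g * w0 := e
    rw [inv_inv] at e'
    have := mul_left_cancel (mul_right_cancel e')
    rw [← this]
    exact hk

/-- ... and the fundamental root elements in the same way. -/
theorem exists_both {β : LL ≃* LL} (hU : ∀ g, β g ∈ U ↔ g ∈ U) (hV : ∀ g, β g ∈ Vo ↔ g ∈ Vo) {i : ℕ} (hi : i < 4) :
    ∃ j < 4, β (x (47 - sp i)) = x (47 - sp j) ∧ β (x (sp i)) = x (sp j) := by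
  obtain ⟨j, hj, h⟩ := exists_neg hU hV hi
  have hx := sp_lt hi
  have h24 := sp_ge i hi
  -- the conjugate automorphism
  let β' : LL ≃* LL := ((cj w0⁻¹).trans β).trans (cj w0)
  have e' : ∀ g, β' g = w0 * β (w0⁻¹ * g * w0) * w0⁻¹ := fun g => by
    show w0 * β (w0⁻¹ * g * w0⁻¹⁻¹) * w0⁻¹ = _
    rw [inv_inv]
  have eU : ∀ k, w0 * k * w0⁻¹ ∈ U ↔ k ∈ Vo := fun k => by
    rw [mem_Vo_iff']
    have : w0⁻¹ * (w0 * k * w0⁻¹) * w0 = k := by group
    rw [this]
  have eV : ∀ k, w0 * k * w0⁻¹ ∈ Vo ↔ k ∈ U := fun k => by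
    rw [mem_Vo_iff]
    have : w0⁻¹ * (w0 * k * w0⁻¹) * w0 = k := by group
    rw [this]
  have hU' : ∀ g, β' g ∈ U ↔ g ∈ U := fun g => by rw [e', eU, hV, mem_Vo_iff']
  have hV' : ∀ g, β' g ∈ Vo ↔ g ∈ Vo := fun g => by rw [e', eV, hU, mem_Vo_iff]
  obtain ⟨j', hj', h'⟩ := exists_neg hU' hV' hi
  have hx' := sp_lt hj'
  have h1 : β (x (sp i)) = x (sp j') := by
    rw [e'] at h'
    have e1 : w0⁻¹ * x (47 - sp i) * w0 = x (sp i) := by
      rw [← w0_conj hx]
      group
    rw [e1, ← w0_conj hx'] at h'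
    exact mul_left_cancel (mul_right_cancel h')
  refine ⟨j, hj, h, ?_⟩
  by_cases e : j' = j
  · rw [h1, e]
  · exfalso
    have h2 : x (sp j') * x (47 - sp j) = x (47 - sp j) * x (sp j') := by
      have tab : ∀ a < 4, ∀ b < 4, a ≠ b → sp a + (47 - sp b) ≠ 47 ∧ cmg (sp a) (47 - sp b) = [] := by decide +kernel
      obtain ⟨t1, t2⟩ := tab j' hj' j hj e
      exact comm_one hx' (by omega) t1 t2
    rw [← h1, ← h, ← map_mul, ← map_mul] at h2
    have h3 := β.injective h2
    have h4 := opp_all hx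
    have hxx := Base.x_mul_self (sp i)
    have hyy := Base.x_mul_self (47 - sp i)
    have h5 : x (47 - sp i) = x (sp i) := by
      have e1 : x (sp i) * x (47 - sp i) * x (sp i) = x (47 - sp i) := by
        rw [h3, mul_assoc, hxx, mul_one]
      have e2 : x (47 - sp i) * x (sp i) * x (47 - sp i) = x (sp i) := by
        rw [← h3, mul_assoc, hyy, mul_one]
      rw [← e1, h4, e2]
    have := x_inj (by omega) hx h5
    omega

/-! ### relations between the `n i` -/

theorem nw_inj {w w' : List ℕ} (hw : ∀ i ∈ w, i < 4) (hw' : ∀ i ∈ w', i < 4) (h : nw w = nw w') {r : ℕ}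
    (hr : r < 48) : act w r = act w' r := by
  have h1 := nw_conj hw hr
  rw [h, nw_conj hw' hr] at h1
  exact (x_inj (act_lt hw' hr) (act_lt hw hr) h1).symm

theorem nw_eq {w w' : List ℕ} (hw : ∀ i ∈ w, i < 4) (hw' : ∀ i ∈ w', i < 4)
    (h : ∀ r < 48, act w r = act w' r) : nw w = nw w' := by
  have h1 : (nw w')⁻¹ * nw w = 1 := by
    refine eq_one_of_fix (mul_mem (inv_mem (nw_mem_N hw')) (nw_mem_N hw)) (l := [33, 27, 25, 24]) (by decide)
      sep_simple ?_
    intro p hp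
    have hp48 : p < 48 := by
      have : ∀ p ∈ [33, 27, 25, 24], p < 48 := by decide
      exact this p hp
    have e1 : (nw w')⁻¹ * nw w * x p * ((nw w')⁻¹ * nw w)⁻¹ = (nw w')⁻¹ * (nw w * x p * (nw w)⁻¹) * nw w' := by
      group
    rw [e1, nw_conj hw hp48, h p hp48, ← nw_conj hw' hp48]
    group
  exact (inv_mul_eq_one.1 h1).symm

/-- commuting fundamental reflections -/
def cB (i j : ℕ) : Bool := (List.range 48).all fun r => act [i, j] r == act [j, i] r

/-- the braid relation -/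
def bB (i j : ℕ) : Bool := (List.range 48).all fun r => act [i, j, i] r == act [j, i, j] r

theorem nw_two (i j : ℕ) : nw [i, j] = n i * n j := by simp [nw]

theorem nw_three (i j k : ℕ) : nw [i, j, k] = n i * n j * n k := by simp [nw, mul_assoc]

theorem cB_iff {i j : ℕ} (hi : i < 4) (hj : j < 4) : cB i j = true ↔ n i * n j = n j * n i := by
  rw [← nw_two, ← nw_two]
  have hw : ∀ k ∈ [i, j], k < 4 := by simp [hi, hj]
  have hw' : ∀ k ∈ [j, i], k < 4 := by simp [hi, hj]
  constructor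
  · intro h
    exact nw_eq hw hw' fun r hr => by simpa using all_of h hr
  · intro h
    unfold cB
    rw [List.all_eq_true]
    intro r hr
    rw [beq_iff_eq]
    exact nw_inj hw hw' h (List.mem_range.1 hr)

theorem bB_iff {i j : ℕ} (hi : i < 4) (hj : j < 4) : bB i j = true ↔ n i * n j * n i = n j * n i * n j := by
  rw [← nw_three, ← nw_three]
  have hw : ∀ k ∈ [i, j, i], k < 4 := by simp [hi, hj]
  have hw' : ∀ k ∈ [j, i, j], k < 4 := by simp [hi, hj]
  constructor
  · intro h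
    exact nw_eq hw hw' fun r hr => by simpa using all_of h hr
  · intro h
    unfold bB
    rw [List.all_eq_true]
    intro r hr
    rw [beq_iff_eq]
    exact nw_inj hw hw' h (List.mem_range.1 hr)

/-- the two symmetries of the diagram -/
theorem diag : ∀ a < 4, ∀ b < 4, ∀ c < 4, ∀ d < 4, a ≠ b → a ≠ c → a ≠ d → b ≠ c → b ≠ d → c ≠ d →
    bB a b = true → bB c d = true → cB a c = true → cB a d = true → cB b d = true →
    (a = 0 ∧ b = 1 ∧ c = 2 ∧ d = 3) ∨ (a = 3 ∧ b = 2 ∧ c = 1 ∧ d = 0) := by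
  have h : ((List.range 4).all fun a => (List.range 4).all fun b => (List.range 4).all fun c =>
      (List.range 4).all fun d => a == b || (a == c || (a == d || (b == c || (b == d || (c == d ||
        (!bB a b || (!bB c d || (!cB a c || (!cB a d || (!cB b d ||
          (a == 0 && (b == 1 && (c == 2 && d == 3)) || a == 3 && (b == 2 && (c == 1 && d == 0)))))))))))))) = true := by
    decide +kernel
  intro a ha b hb c hc d hd h1 h2 h3 h4 h5 h6 h7 h8 h9 h10 h11
  have h12 := all_of (all_of (all_of (all_of h ha) hb) hc) hd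
  simpa [h1, h2, h3, h4, h5, h6, h7, h8, h9, h10, h11] using h12

/-! ### generation by the fundamental root elements -/

/-- words carrying a fundamental root to each root -/
def wtab : List (List ℕ × ℕ) :=
  [([3, 2, 1, 2, 3, 0, 1, 2], 2), ([2, 1, 2, 3, 0, 1, 2], 2), ([1, 2, 3, 0, 1, 2], 2),
   ([0, 1, 2, 3, 1, 2, 1, 0], 0), ([2, 3, 0, 1, 2], 2), ([3, 0, 1, 2], 2), ([0, 1, 2], 2),
   ([1, 2, 3, 1, 2, 1, 0], 0), ([2, 3, 1, 2, 1, 0], 0), ([3, 1, 2, 1, 0], 0), ([1, 2, 1, 0], 0),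
   ([3, 2, 1, 0], 0), ([2, 1, 0], 0), ([1, 0], 0), ([0], 0), ([2, 3, 1, 2], 2), ([3, 1, 2], 2),
   ([1, 2], 2), ([3, 2, 1], 1), ([2, 1], 1), ([1], 1), ([3, 2], 2), ([2], 2), ([3], 3), ([], 3),
   ([], 2), ([3], 2), ([], 1), ([2], 1), ([3, 2], 1), ([1], 2), ([3, 1], 2), ([2, 3, 1], 2),
   ([], 0), ([1], 0), ([2, 1], 0), ([3, 2, 1], 0), ([1, 2, 1], 0), ([3, 1, 2, 1], 0),
   ([2, 3, 1, 2, 1], 0), ([1, 2, 3, 1, 2, 1], 0), ([0, 1], 2), ([3, 0, 1], 2), ([2, 3, 0, 1], 2),
   ([0, 1, 2, 3, 1, 2, 1], 0), ([1, 2, 3, 0, 1], 2), ([2, 1, 2, 3, 0, 1], 2), ([3, 2, 1, 2, 3, 0, 1], 2)]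

theorem wtab_spec : ((List.range 48).all fun r => (wtab.getD r ([], 0)).1.all (fun i => decide (i < 4)) &&
    (decide ((wtab.getD r ([], 0)).2 < 4) && (act (wtab.getD r ([], 0)).1 (sp (wtab.getD r ([], 0)).2) == r))) =
      true := by decide +kernel

/-- `F₄(2)` is generated by the fundamental root elements and their opposites -/
theorem eq_top {K : Subgroup LL} (h : ∀ i < 4, x (sp i) ∈ K ∧ x (47 - sp i) ∈ K) : K = ⊤ := by
  have hn : ∀ i < 4, n i ∈ K := fun i hi => by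
    rw [n_eq_wd]
    refine wd_mem fun r hr => ?_
    simp only [List.mem_cons, List.not_mem_nil, or_false] at hr
    rcases hr with rfl | rfl | rfl
    · exact (h i hi).1
    · exact (h i hi).2
    · exact (h i hi).1
  have hnw : ∀ w : List ℕ, (∀ i ∈ w, i < 4) → nw w ∈ K := by
    intro w
    induction w with
    | nil => exact fun _ => one_mem _
    | cons i w ih =>
      intro hw
      have : nw (i :: w) = n i * nw w := by simp [nw]
      rw [this]
      exact mul_mem (hn i (hw i List.mem_cons_self)) (ih fun j hj => hw j (List.mem_cons_of_mem _ hj))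
  rw [eq_top_iff, ← closure_x, Subgroup.closure_le]
  rintro _ ⟨r, hr, rfl⟩
  have h1 := all_of wtab_spec hr
  simp only [Bool.and_eq_true, decide_eq_true_eq, List.all_eq_true, beq_iff_eq] at h1
  obtain ⟨h2, h3, h4⟩ := h1
  have h5 := nw_conj h2 (sp_lt h3)
  rw [h4] at h5
  rw [← h5]
  exact mul_mem (mul_mem (hnw _ h2) (h _ h3).1) (inv_mem (hnw _ h2))

/-- homomorphisms agreeing on the fundamental root elements and their opposites are equal -/
theorem hom_ext {X : Type*} [Group X] {φ ψ : LL →* X}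
    (h : ∀ i < 4, φ (x (sp i)) = ψ (x (sp i)) ∧ φ (x (47 - sp i)) = ψ (x (47 - sp i))) : φ = ψ := by
  have h1 : MonoidHom.eqLocus φ ψ = ⊤ := eq_top fun i hi => h i hi
  ext g
  have : g ∈ MonoidHom.eqLocus φ ψ := by rw [h1]; exact Subgroup.mem_top g
  exact this

/-! ### the automorphisms -/

theorem bar_sp : ∀ i < 4, bar (sp i) = sp (3 - i) ∧ bar (47 - sp i) = 47 - sp (3 - i) := by decide

/-- An automorphism preserving `U` and the opposite subgroup is trivial or the graph automorphism. -/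
theorem eq_of_pres {β γ : LL ≃* LL} (hγ : ∀ r < 48, γ (x r) = x (bar r)) (hU : ∀ g, β g ∈ U ↔ g ∈ U)
    (hV : ∀ g, β g ∈ Vo ↔ g ∈ Vo) : (∀ g, β g = g) ∨ (∀ g, β g = γ g) := by
  obtain ⟨a, ha, a1, a2⟩ := exists_both hU hV (i := 0) (by omega)
  obtain ⟨b, hb, b1, b2⟩ := exists_both hU hV (i := 1) (by omega)
  obtain ⟨c, hc, c1, c2⟩ := exists_both hU hV (i := 2) (by omega)
  obtain ⟨d, hd, d1, d2⟩ := exists_both hU hV (i := 3) (by omega)
  have hn : ∀ i j : ℕ, β (x (47 - sp i)) = x (47 - sp j) → β (x (sp i)) = x (sp j) → β (n i) = n j := by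
    intro i j h1 h2
    rw [n_eq_wd, n_eq_wd]
    simp only [wd_cons, wd_nil, mul_one, map_mul, h1, h2]
  have na := hn 0 a a1 a2
  have nb := hn 1 b b1 b2
  have nc := hn 2 c c1 c2
  have nd := hn 3 d d1 d2
  have hne : ∀ i j k l : ℕ, i < 4 → j < 4 → i ≠ j → β (x (sp i)) = x (sp k) → β (x (sp j)) = x (sp l) → k ≠ l := by
    intro i j k l hi hj hij h1 h2 e
    rw [← e, ← h1] at h2
    exact hij (sp_inj i hi j hj (x_inj (sp_lt hj) (sp_lt hi) (β.injective h2)).symm)
  have hb1 : ∀ i j k l : ℕ, i < 4 → j < 4 → k < 4 → l < 4 → β (n i) = n k → β (n j) = n l → bB i j = true →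
      bB k l = true := by
    intro i j k l hi hj hk hl h1 h2 h
    rw [bB_iff hi hj] at h
    rw [bB_iff hk hl, ← h1, ← h2, ← map_mul, ← map_mul, ← map_mul, ← map_mul, h]
  have hc1 : ∀ i j k l : ℕ, i < 4 → j < 4 → k < 4 → l < 4 → β (n i) = n k → β (n j) = n l → cB i j = true →
      cB k l = true := by
    intro i j k l hi hj hk hl h1 h2 h
    rw [cB_iff hi hj] at h
    rw [cB_iff hk hl, ← h1, ← h2, ← map_mul, ← map_mul, h]
  have hd := diag a ha b hb c hc d hd (hne 0 1 a b (by omega) (by omega) (by omega) a2 b2)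
    (hne 0 2 a c (by omega) (by omega) (by omega) a2 c2) (hne 0 3 a d (by omega) (by omega) (by omega) a2 d2)
    (hne 1 2 b c (by omega) (by omega) (by omega) b2 c2) (hne 1 3 b d (by omega) (by omega) (by omega) b2 d2)
    (hne 2 3 c d (by omega) (by omega) (by omega) c2 d2)
    (hb1 0 1 a b (by omega) (by omega) ha hb na nb (by decide +kernel))
    (hb1 2 3 c d (by omega) (by omega) hc hd nc nd (by decide +kernel))
    (hc1 0 2 a c (by omega) (by omega) ha hc na nc (by decide +kernel))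
    (hc1 0 3 a d (by omega) (by omega) ha hd na nd (by decide +kernel))
    (hc1 1 3 b d (by omega) (by omega) hb hd nb nd (by decide +kernel))
  rcases hd with ⟨rfl, rfl, rfl, rfl⟩ | ⟨rfl, rfl, rfl, rfl⟩
  · left
    have : β.toMonoidHom = MonoidHom.id LL := hom_ext fun i hi => by
      have h4 : i = 0 ∨ i = 1 ∨ i = 2 ∨ i = 3 := by omega
      rcases h4 with rfl | rfl | rfl | rfl
      · exact ⟨a2, a1⟩
      · exact ⟨b2, b1⟩
      · exact ⟨c2, c1⟩
      · exact ⟨d2, d1⟩
    intro g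
    exact DFunLike.congr_fun this g
  · right
    have : β.toMonoidHom = γ.toMonoidHom := hom_ext fun i hi => by
      have h5 := bar_sp i hi
      have h6 := sp_lt hi
      have h7 : γ.toMonoidHom (x (sp i)) = x (sp (3 - i)) ∧ γ.toMonoidHom (x (47 - sp i)) = x (47 - sp (3 - i)) := by
        refine ⟨?_, ?_⟩
        · show γ (x (sp i)) = _
          rw [hγ _ h6, h5.1]
        · show γ (x (47 - sp i)) = _
          rw [hγ _ (by omega), h5.2]
      rw [h7.1, h7.2]
      have h4 : i = 0 ∨ i = 1 ∨ i = 2 ∨ i = 3 := by omega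
      rcases h4 with rfl | rfl | rfl | rfl
      · exact ⟨a2, a1⟩
      · exact ⟨b2, b1⟩
      · exact ⟨c2, c1⟩
      · exact ⟨d2, d1⟩
    intro g
    exact DFunLike.congr_fun this g

/-- **Automorphisms preserving `U`**. -/
theorem aut_of_map_U {α γ : LL ≃* LL} (hγ : ∀ r < 48, γ (x r) = x (bar r)) (hU : ∀ g, α g ∈ U ↔ g ∈ U) :
    ∃ u ∈ U, (∀ g, α g = u * g * u⁻¹) ∨ (∀ g, α g = u * γ g * u⁻¹) := by
  obtain ⟨u, hu, h⟩ := exists_opp hU
  refine ⟨u, hu, ?_⟩
  let β : LL ≃* LL := α.trans (cj u⁻¹)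
  have e : ∀ g, β g = u⁻¹ * α g * u := fun g => by
    show u⁻¹ * α g * u⁻¹⁻¹ = _
    rw [inv_inv]
  have e' : ∀ g, α g = u * β g * u⁻¹ := fun g => by
    rw [e]
    group
  have hU' : ∀ g, β g ∈ U ↔ g ∈ U := fun g => by
    rw [← hU g, e']
    constructor
    · intro h
      exact mul_mem (mul_mem hu h) (inv_mem hu)
    · intro h
      have := mul_mem (mul_mem (inv_mem hu) h) hu
      have e2 : u⁻¹ * (u * β g * u⁻¹) * u = β g := by group
      rwa [e2] at this
  rcases eq_of_pres hγ hU' (fun g => by rw [e]; exact h g) with h1 | h1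
  · left
    intro g
    rw [e', h1]
  · right
    intro g
    rw [e', h1]

/-- **The automorphisms of `F₄(2)`**: inner, or inner after the graph automorphism. -/
theorem aut {γ : LL ≃* LL} (hγ : ∀ r < 48, γ (x r) = x (bar r)) (α : LL ≃* LL) :
    ∃ g : LL, (∀ h, α h = g * h * g⁻¹) ∨ (∀ h, α h = g * γ h * g⁻¹) := by
  have : Fact (Nat.Prime 2) := ⟨Nat.prime_two⟩
  have hcard : Nat.card (U.map α.toMonoidHom) = 2 ^ 24 := by
    rw [card_map, card_U]
  obtain ⟨g, hg⟩ := exists_conj_mem isPGroup_U index_U (IsPGroup.of_card hcard)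
  let α' : LL ≃* LL := α.trans (cj g⁻¹)
  have e : ∀ k, α' k = g⁻¹ * α k * g := fun k => by
    show g⁻¹ * α k * g⁻¹⁻¹ = _
    rw [inv_inv]
  have h1 : U.map α'.toMonoidHom ≤ U := by
    rintro _ ⟨k, hk, rfl⟩
    show α' k ∈ U
    rw [e]
    exact hg _ ⟨k, hk, rfl⟩
  have h2 : U.map α'.toMonoidHom = U := by
    apply Subgroup.eq_of_le_of_card_ge h1
    rw [card_map]
  have hU : ∀ k, α' k ∈ U ↔ k ∈ U := fun k => by
    nth_rw 1 [← h2]
    exact apply_mem_map
  obtain ⟨u, -, h5⟩ := aut_of_map_U hγ hU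
  refine ⟨g * u, ?_⟩
  rcases h5 with h5 | h5
  · left
    intro h
    have h6 := h5 h
    rw [e] at h6
    have : α h = g * (g⁻¹ * α h * g) * g⁻¹ := by group
    rw [this, h6]
    group
  · right
    intro h
    have h6 := h5 h
    rw [e] at h6
    have : α h = g * (g⁻¹ * α h * g) * g⁻¹ := by group
    rw [this, h6]
    group

/-! ### the graph automorphism -/

/-- the exceptional graph automorphism -/
noncomputable def gam : LL ≃* LL := exists_graph.choose

theorem gam_x {r : ℕ} (hr : r < 48) : gam (x r) = x (bar r) := exists_graph.choose_spec r hr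

theorem gam_gam (g : LL) : gam (gam g) = g := by
  have : (gam.trans gam).toMonoidHom = MonoidHom.id LL := hom_ext fun i hi => by
    have hx := sp_lt hi
    refine ⟨?_, ?_⟩
    · show gam (gam (x (sp i))) = x (sp i)
      rw [gam_x hx, gam_x (Base.bar_lt hx), bar_bar hx]
    · show gam (gam (x (47 - sp i))) = x (47 - sp i)
      rw [gam_x (by omega), gam_x (Base.bar_lt (by omega)), bar_bar (by omega)]
  exact DFunLike.congr_fun this g

theorem bar_pos : ((List.range 48).all fun r => !decide (24 ≤ r) || decide (24 ≤ bar r)) = true := by decide +kernel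

theorem gam_mem_U {g : LL} : gam g ∈ U ↔ g ∈ U := by
  have key : ∀ g ∈ U, gam g ∈ U := by
    intro g hg
    have h1 : U ≤ U.comap gam.toMonoidHom := by
      nth_rw 1 [U_eq_closure]
      rw [Subgroup.closure_le]
      rintro _ ⟨r, h, h', rfl⟩
      show gam (x r) ∈ U
      rw [gam_x h']
      have h2 := all_of bar_pos h'
      rw [decide_eq_true h, Bool.not_true, Bool.false_or, decide_eq_true_eq] at h2
      exact x_mem_U h2 (Base.bar_lt h')
    exact h1 hg
  refine ⟨fun h => ?_, key g⟩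
  have := key _ h
  rwa [gam_gam] at this

theorem gam_44 : gam (x 44) = x 47 := gam_x (by omega)

theorem gam_47 : gam (x 47) = x 44 := gam_x (by omega)

/-- **The automorphisms of `F₄(2)`** -/
theorem aut_gam (α : LL ≃* LL) : ∃ l : LL, (∀ h, α h = l * h * l⁻¹) ∨ (∀ h, α h = l * gam h * l⁻¹) :=
  aut (fun _ => gam_x) α

/-- the same for elements of `MulAut LL` -/
theorem mulAut_gam (α : MulAut LL) : ∃ l : LL, (∀ h, α h = l * h * l⁻¹) ∨ (∀ h, α h = l * gam h * l⁻¹) :=
  aut_gam (ofAut (chevF4.group (ZMod 2)) α)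

theorem aut_gam_U {α : LL ≃* LL} (hU : ∀ g, α g ∈ U ↔ g ∈ U) :
    ∃ u ∈ U, (∀ g, α g = u * g * u⁻¹) ∨ (∀ g, α g = u * gam g * u⁻¹) :=
  aut_of_map_U (fun _ => gam_x) hU

theorem finite_LL : Finite LL := inferInstanceAs (Finite ↥(chevF4.group (ZMod 2)))

/-- elements normalising an embedded `F₄(2)` -/
theorem exists_of_norm {X : Type*} [Group X] (φ : LL →* X) (hφ : Function.Injective φ) (n : X)
    (h : ∀ l, n * φ l * n⁻¹ ∈ φ.range) :
    ∃ l : LL, (∀ y, n * φ y * n⁻¹ = φ (l * y * l⁻¹)) ∨ (∀ y, n * φ y * n⁻¹ = φ (l * gam y * l⁻¹)) := by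
  have := finite_LL
  obtain ⟨α, hα⟩ := exists_ind φ hφ n h
  obtain ⟨l, h1 | h1⟩ := aut_gam α
  · exact ⟨l, Or.inl fun y => by rw [hα, h1]⟩
  · exact ⟨l, Or.inr fun y => by rw [hα, h1]⟩

/-- elements normalising an embedded `F₄(2)` and its Sylow subgroup `U` -/
theorem exists_of_norm_U {X : Type*} [Group X] (φ : LL →* X) (hφ : Function.Injective φ) (n : X)
    (h : ∀ l, n * φ l * n⁻¹ ∈ φ.range) (hU : ∀ u ∈ U, n * φ u * n⁻¹ ∈ U.map φ) :
    ∃ u ∈ U, (∀ y, n * φ y * n⁻¹ = φ (u * y * u⁻¹)) ∨ (∀ y, n * φ y * n⁻¹ = φ (u * gam y * u⁻¹)) := by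
  have := finite_LL
  obtain ⟨α, hα⟩ := exists_ind φ hφ n h
  have h1 : U.map α.toMonoidHom ≤ U := by
    rintro _ ⟨u, hu, rfl⟩
    obtain ⟨v, hv, e⟩ := hU u hu
    rw [hα] at e
    have : α u = v := (hφ e).symm
    show α u ∈ U
    rw [this]
    exact hv
  have h2 : U.map α.toMonoidHom = U := by
    apply Subgroup.eq_of_le_of_card_ge h1
    rw [card_map]
  obtain ⟨u, hu, h3⟩ := aut_gam_U (α := α) fun k => by
    nth_rw 1 [← h2]
    exact apply_mem_map
  refine ⟨u, hu, ?_⟩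
  rcases h3 with h3 | h3
  · exact Or.inl fun y => by rw [hα, h3]
  · exact Or.inr fun y => by rw [hα, h3]

/-! ### consequences -/

/-- An automorphism preserving `U` fixes or swaps `x 44` and `x 47`. -/
theorem apply_center {α : LL ≃* LL} (hU : ∀ g, α g ∈ U ↔ g ∈ U) :
    (α (x 44) = x 44 ∧ α (x 47) = x 47 ∧ ∃ u ∈ U, ∀ g, α g = u * g * u⁻¹) ∨ (α (x 44) = x 47 ∧ α (x 47) = x 44) := by
  obtain ⟨u, hu, h | h⟩ := aut_gam_U hU
  · left
    refine ⟨?_, ?_, u, hu, h⟩
    · rw [h, comm_44 hu, mul_inv_cancel_right]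
    · rw [h, comm_47 hu, mul_inv_cancel_right]
  · right
    refine ⟨?_, ?_⟩
    · rw [h, gam_44, comm_47 hu, mul_inv_cancel_right]
    · rw [h, gam_47, comm_44 hu, mul_inv_cancel_right]

/-- An automorphism preserving `U` and fixing `x 44` is conjugation by an element of `U`. -/
theorem inner_of_fix {α : LL ≃* LL} (hU : ∀ g, α g ∈ U ↔ g ∈ U) (h : α (x 44) = x 44) :
    ∃ u ∈ U, ∀ g, α g = u * g * u⁻¹ := by
  rcases apply_center hU with ⟨-, -, h1⟩ | ⟨h1, -⟩
  · exact h1
  · rw [h] at h1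
    exact absurd h1 x44_ne_x47

/-- An automorphism not fusing `x 44` and `x 47` is inner. -/
theorem inner_of_not_swap {α : LL ≃* LL} (h : ∀ g, g * α (x 44) * g⁻¹ ≠ x 47) : ∃ g, ∀ h, α h = g * h * g⁻¹ := by
  obtain ⟨g, h1 | h1⟩ := aut_gam α
  · exact ⟨g, h1⟩
  · exfalso
    apply h g⁻¹
    rw [h1, gam_44]
    group

/-- the graph automorphism is not inner -/
theorem gam_not_inner : ¬ ∃ g : LL, ∀ h, gam h = g * h * g⁻¹ := by
  rintro ⟨g, hg⟩
  have h1 := hg (x 44)
  rw [gam_44] at h1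
  exact not_conj_44_47 g h1.symm

/-- `|Out F₄(2)| = 2` -/
theorem index_inn : outIndex (chevF4.group (ZMod 2)) = 2 :=
  index_gen (chevF4.group (ZMod 2)) gam gam_gam aut_gam gam_not_inner

end Cfsg.Agent.FourTwo.AutF4
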