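import Cfsg.Agent.FourTwo.CentW

/-!
# Centralizers in `F₄(2)`: `C_L(W_s) = Q_s` and `C_L(⟨x₃₃, …, x₄₀⟩) = W_s`, `s = 44`

* `centW`: `g ∈ L` commuting with `x₄₁, …, x₄₇` is `E (h * 2 ^ 9)`, `h < 2 ^ 15`;
* `centC`: `g ∈ L` commuting with `x₃₃, …, x₄₀` is `E (h * 2 ^ 17)`, `h < 2 ^ 7`.
-/

set_option autoImplicit false

namespace Cfsg.Agent.FourTwo.CentC

open Cfsg.Lie Cfsg.Agent.ChevalleyStructure.TwF4.Rel Cfsg.Agent.ChevalleyStructure.TwF4.NStruct
open Cfsg.Agent.ChevalleyStructure.F4NTab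
open Cfsg.Agent.FourTwo.UCode (el wel elR bt mulU conjU invU lets cs)
open Cfsg.Agent.FourTwo.CentW

/-! ### Bruhat step -/

theorem chainRange {u v w : GG} {σ : Equiv.Perm R} (hu : u ∈ NN 0) (hv : v ∈ NN 0) (hw : w ∈ Wm (ZMod 2))
    (hσ : Mono w σ) {a b : ℕ} (hb : b ≤ 24)
    (hs : ∀ (i : ℕ) (hi : i < 24), b ≤ i → 24 + b ≤ (σ (rt (24 + i) (by omega))).val)
    (hc : ∀ j, a ≤ j → j < b → u * w * v * Y (24 + j) = Y (24 + j) * (u * w * v)) :
    ∀ (m j : ℕ) (hj : j < b), a ≤ j → b ≤ j + m + 1 → σ (rt (24 + j) (by omega)) = rt (24 + j) (by omega) := by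
  intro m
  induction m with
  | zero =>
    intro j hj haj hjm
    refine chain hu hv hw hσ (j := j) (by omega) (hc j haj hj) fun i hi hi' => ?_
    have := hs i hi (by omega)
    omega
  | succ m ih =>
    intro j hj haj hjm
    refine chain hu hv hw hσ (j := j) (by omega) (hc j haj hj) fun i hi hi' => ?_
    rcases Nat.lt_or_ge i b with h | h
    · rw [ih i h (by omega) (by omega)]
      show 24 + j < 24 + i
      omega
    · have := hs i hi h
      omega

theorem mem_U_of_W {g : GG} (hg : g ∈ chevF4.group (ZMod 2))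
    (h : ∀ k, k < 7 → g * Y (24 + (17 + k)) = Y (24 + (17 + k)) * g) : g ∈ NN 0 := by
  obtain ⟨u, v, w, σ, hu, hv, hw, hσ, rfl⟩ := exists_bruhat hg
  have key := chainRange hu hv hw hσ (a := 17) (b := 24) le_rfl (fun i hi hi' => by omega) fun j hj hj' => by
    have := h (j - 17) (by omega)
    rwa [show 17 + (j - 17) = j by omega] at this
  have hw1 := perm_eq_one (a := 41) (n := 7) (by norm_num) span_W hσ fun k hk => by
    have h1 := key 24 (17 + k) (by omega) (by omega) (by omega)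
    have h3 : rt (24 + (17 + k)) (by omega) = rt (41 + k) (by omega) :=
      Fin.ext (by show 24 + (17 + k) = 41 + k; omega)
    rwa [h3] at h1
  rw [hw1, mul_one]
  exact mul_mem hu hv

theorem cs20 : ((List.range 24).all fun k => decide (cs k 20 = []) && decide (cs 20 k = [])) = true := by
  decide +kernel

theorem Y44_central {u : GG} (hu : u ∈ NN 0) : u * Y 44 = Y 44 * u := by
  have h : NN 0 ≤ Subgroup.centralizer {Y 44} := by
    unfold NN
    rw [Subgroup.closure_le]
    rintro g ⟨k, _, hk, rfl⟩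
    rw [SetLike.mem_coe, Subgroup.mem_centralizer_iff]
    rintro _ rfl
    have hc := cs20
    rw [List.all_eq_true] at hc
    have h1 := hc k (List.mem_range.2 hk)
    simp only [Bool.and_eq_true, decide_eq_true_eq] at h1
    rcases lt_trichotomy k 20 with h2 | h2 | h2
    · have h3 := UCode.comm_x (ZMod 2) h2 (by norm_num)
      rw [h1.2, UCode.wel_nil, mul_one] at h3
      exact h3
    · subst h2; rfl
    · have h3 := UCode.comm_x (ZMod 2) h2 hk
      rw [h1.1, UCode.wel_nil, mul_one] at h3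
      exact h3.symm
  exact ((Subgroup.mem_centralizer_iff.1 (h hu)) _ rfl).symm

theorem comm44 {g : GG} (h : ∀ k, k < 8 → g * Y (24 + (9 + k)) = Y (24 + (9 + k)) * g) : g * Y 44 = Y 44 * g := by
  have h1 : Y (24 + 16) * Y (24 + 9) = Y (24 + 9) * wel (ZMod 2) (cs 16 9) * Y (24 + 16) :=
    UCode.comm_x (ZMod 2) (by norm_num) (by norm_num)
  have h2 : cs 16 9 = [20] := by decide +kernel
  rw [h2, UCode.wel_singleton, ← Y_eq] at h1
  have h3 : Y (24 + 20) = (Y (24 + 9))⁻¹ * (Y (24 + 16) * Y (24 + 9)) * (Y (24 + 16))⁻¹ := by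
    rw [h1]; group
  have e1 : g * Y (24 + 9) * g⁻¹ = Y (24 + 9) := by
    have := h 0 (by norm_num)
    rw [Nat.add_zero] at this
    rw [this, mul_inv_cancel_right]
  have e2 : g * Y (24 + 16) * g⁻¹ = Y (24 + 16) := by
    have : g * Y (24 + 16) = Y (24 + 16) * g := h 7 (by norm_num)
    rw [this, mul_inv_cancel_right]
  have e3 : g * Y (24 + 20) * g⁻¹ = Y (24 + 20) := by
    rw [h3]
    calc g * ((Y (24 + 9))⁻¹ * (Y (24 + 16) * Y (24 + 9)) * (Y (24 + 16))⁻¹) * g⁻¹
        = (g * Y (24 + 9) * g⁻¹)⁻¹ * ((g * Y (24 + 16) * g⁻¹) * (g * Y (24 + 9) * g⁻¹)) *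
            (g * Y (24 + 16) * g⁻¹)⁻¹ := by group
      _ = _ := by rw [e1, e2]
  have e4 : g * Y 44 * g⁻¹ = Y 44 := e3
  calc g * Y 44 = (g * Y 44 * g⁻¹) * g := by group
    _ = _ := by rw [e4]

theorem mem_U_of_C {g : GG} (hg : g ∈ chevF4.group (ZMod 2))
    (h : ∀ k, k < 8 → g * Y (24 + (9 + k)) = Y (24 + (9 + k)) * g) : g ∈ NN 0 := by
  have h44 := comm44 h
  obtain ⟨u, v, w, σ, hu, hv, hw, hσ, rfl⟩ := exists_bruhat hg
  have hσ44 : σ (rt 44 (by norm_num)) = rt 44 (by norm_num) := by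
    have h1 := w_conj hw hσ (rt 44 (by norm_num))
    change w * Y 44 * w⁻¹ = _ at h1
    have h2 : w * Y 44 * w⁻¹ = Y 44 := by
      have e1 : w * Y 44 = Y 44 * w := by
        have e2 : u * w * v * Y 44 = u * w * (Y 44 * v) := by rw [mul_assoc, Y44_central hv]
        have e3 : Y 44 * (u * w * v) = u * (Y 44 * w) * v := by
          rw [← mul_assoc, ← mul_assoc, ← Y44_central hu]; group
        rw [e2, e3] at h44
        calc w * Y 44 = u⁻¹ * (u * w * (Y 44 * v)) * v⁻¹ := by group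
          _ = u⁻¹ * (u * (Y 44 * w) * v) * v⁻¹ := by rw [h44]
          _ = _ := by group
      rw [e1, mul_inv_cancel_right]
    rw [h2] at h1
    have h3 := eq_of_Y_coset (c := (σ (rt 44 (by norm_num))).val) (j := 20) (σ (rt 44 (by norm_num))).2 (by norm_num)
      (by rw [← h1, show Y (24 + 20) = Y 44 from rfl, mul_inv_cancel]; exact one_mem _)
    exact Fin.ext h3
  have hct : ∀ c : R, ct 44 (σ c).val = ct 44 c.val := by
    intro c
    have := hσ.car (rt 44 (by norm_num)) c
    rw [hσ44] at this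
    exact this
  have ht := ct_tab44
  rw [List.all_eq_true] at ht
  have key := chainRange hu hv hw hσ (a := 9) (b := 17) (by norm_num) (fun i hi hi' => by
      have h1 := ht (24 + i) (List.mem_range.2 (by omega))
      have h2 := ht (σ (rt (24 + i) (by omega))).val (List.mem_range.2 (σ (rt (24 + i) (by omega))).2)
      rw [Bool.and_eq_true, beq_iff_eq] at h1 h2
      have h3 := hct (rt (24 + i) (by omega))
      change _ = ct 44 (24 + i) at h3
      rw [h3] at h2
      have h4 : decide (41 ≤ 24 + i) = true := decide_eq_true (by omega)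
      have h5 := h2.1.symm.trans (h1.1.trans h4)
      have := of_decide_eq_true h5
      omega) fun j hj hj' => by
    have := h (j - 9) (by omega)
    rwa [show 9 + (j - 9) = j by omega] at this
  have hw1 := perm_eq_one (a := 33) (n := 8) (by norm_num) span_C hσ fun k hk => by
    have h1 := key 24 (9 + k) (by omega) (by omega) (by omega)
    have h3 : rt (24 + (9 + k)) (by omega) = rt (33 + k) (by omega) :=
      Fin.ext (by show 24 + (9 + k) = 33 + k; omega)
    rwa [h3] at h1
  rw [hw1, mul_one]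
  exact mul_mem hu hv

/-! ### Codes -/

theorem exists_split {g : GG} (hg : g ∈ NN 0) (j : ℕ) (hj : j ≤ 24) :
    ∃ l h, l < 2 ^ j ∧ h < 2 ^ (24 - j) ∧ g = E l * E (h * 2 ^ j) := by
  obtain ⟨e, he, rfl⟩ := exists_code_NN 24 0 rfl g hg
  rw [pow_zero, mul_one]
  refine ⟨e % 2 ^ j, e / 2 ^ j, Nat.mod_lt _ (by positivity), ?_, ?_⟩
  · rw [Nat.div_lt_iff_lt_mul (by positivity), ← pow_add, show 24 - j + j = 24 by omega]
    exact he
  · rw [← el_add _ _ _ (Nat.mod_lt _ (by positivity)) hj, Nat.mod_add_div']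

theorem cs_hi : ((List.range' 9 15).all fun j => (List.range' 9 15).all fun k =>
    (cs k j).all fun c => decide (17 ≤ c)) = true := by decide +kernel

theorem cs_hi2 : ((List.range' 9 15).all fun j => (List.range' 17 7).all fun k =>
    decide (cs k j = []) && decide (cs j k = [])) = true := by decide +kernel

/-- `W_s` is central in `Q_s` -/
theorem W_central {i : ℕ} (hi : 17 ≤ i) (hi' : i < 24) {q : GG} (hq : q ∈ NN 9) :
    q * Y (24 + i) = Y (24 + i) * q := by
  have h : NN 9 ≤ Subgroup.centralizer {Y (24 + i)} := by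
    unfold NN
    rw [Subgroup.closure_le]
    rintro g ⟨k, hk, hk', rfl⟩
    rw [SetLike.mem_coe, Subgroup.mem_centralizer_iff]
    rintro _ rfl
    have hc := cs_hi2
    rw [List.all_eq_true] at hc
    have h1 := hc k (List.mem_range'_1.2 (by omega))
    rw [List.all_eq_true] at h1
    have h4 := h1 i (List.mem_range'_1.2 (by omega))
    simp only [Bool.and_eq_true, decide_eq_true_eq] at h4
    rcases lt_trichotomy k i with h2 | h2 | h2
    · have h3 := UCode.comm_x (ZMod 2) h2 hi'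
      rw [h4.1, UCode.wel_nil, mul_one] at h3
      exact h3
    · subst h2; rfl
    · have h3 := UCode.comm_x (ZMod 2) h2 hk'
      rw [h4.2, UCode.wel_nil, mul_one] at h3
      exact h3.symm
  exact ((Subgroup.mem_centralizer_iff.1 (h hq)) _ rfl).symm

/-- `[Q_s, Q_s] ≤ W_s` -/
theorem comm_Q {i : ℕ} (hi : 9 ≤ i) (hi' : i < 24) {q : GG} (hq : q ∈ NN 9) :
    q * Y (24 + i) * q⁻¹ * (Y (24 + i))⁻¹ ∈ NN 17 := by
  have hgen : ∀ k, 9 ≤ k → k < 24 → Y (24 + k) * Y (24 + i) * (Y (24 + k))⁻¹ * (Y (24 + i))⁻¹ ∈ NN 17 := by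
    intro k hk hk'
    have hc := cs_hi
    rw [List.all_eq_true] at hc
    rcases lt_trichotomy i k with h | h | h
    · rw [conj_gt h hk']
      refine conj_mem_NN (Y_mem_NN (Nat.zero_le _) hi') (wel_mem_NN _ fun c hc' => ⟨?_, ((UCode.cs_facts h hk').1 c hc').2⟩)
      have h1 := hc i (List.mem_range'_1.2 (by omega))
      rw [List.all_eq_true] at h1
      have h2 := h1 k (List.mem_range'_1.2 (by omega))
      rw [List.all_eq_true] at h2
      exact of_decide_eq_true (h2 c hc')
    · subst h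
      rw [mul_inv_cancel_right, mul_inv_cancel]
      exact one_mem _
    · rw [conj_lt h hi', mul_inv_cancel_right]
      refine wel_mem_NN _ fun c hc' => ⟨?_, ((UCode.cs_facts h hi').1 c hc').2⟩
      have h1 := hc k (List.mem_range'_1.2 (by omega))
      rw [List.all_eq_true] at h1
      have h2 := h1 i (List.mem_range'_1.2 (by omega))
      rw [List.all_eq_true] at h2
      exact of_decide_eq_true (h2 c hc')
  have key : ∀ k, 9 ≤ k → k < 24 → ∀ y : GG, y * Y (24 + i) * y⁻¹ * (Y (24 + i))⁻¹ ∈ NN 17 →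
      (Y (24 + k) * y) * Y (24 + i) * (Y (24 + k) * y)⁻¹ * (Y (24 + i))⁻¹ ∈ NN 17 := by
    intro k hk hk' y hy
    have e : (Y (24 + k) * y) * Y (24 + i) * (Y (24 + k) * y)⁻¹ * (Y (24 + i))⁻¹ =
        (Y (24 + k) * (y * Y (24 + i) * y⁻¹ * (Y (24 + i))⁻¹) * (Y (24 + k))⁻¹) *
          (Y (24 + k) * Y (24 + i) * (Y (24 + k))⁻¹ * (Y (24 + i))⁻¹) := by group
    rw [e]
    exact mul_mem (conj_mem_NN (Y_mem_NN (Nat.zero_le _) hk') hy) (hgen k hk hk')
  unfold NN at hq
  induction hq using Subgroup.closure_induction_left with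
  | one => simp
  | mul_left x hx y hy ih =>
    obtain ⟨k, hk, hk', rfl⟩ := hx
    exact key k hk hk' y ih
  | inv_mul_cancel x hx y hy ih =>
    obtain ⟨k, hk, hk', rfl⟩ := hx
    rw [Y_inv]
    exact key k hk hk' y ih

/-- equality of codes -/
def eqC (a b : ℕ) : Bool := Nat.beq (a % 16777216) (b % 16777216)

theorem eqC_of {a b : ℕ} (h : E a = E b) : eqC a b = true := by
  unfold eqC
  rw [Nat.beq_eq]
  exact eq_mod_of_E h

theorem mul_comm_code {a b : ℕ} (h : E a * E b = E b * E a) : eqC (mulU a b) (mulU b a) = true :=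
  eqC_of (by rw [E, UCode.el_mulU, E, UCode.el_mulU]; exact h)

theorem levi_W : ((List.range 512).all fun l => decide (l = 0) || !((List.range 7).all fun k =>
    eqC (mulU l (2 ^ (17 + k))) (mulU (2 ^ (17 + k)) l))) = true := by decide +kernel

theorem levi_C : ((List.range 512).all fun l => decide (l = 0) || !((List.range 8).all fun k =>
    Nat.beq (conjU l (2 ^ (9 + k)) % 131072) (2 ^ (9 + k)))) = true := by decide +kernel

theorem mid_C : ((List.range 256).all fun m => decide (m = 0) || !((List.range 8).all fun k =>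
    eqC (mulU (m * 512) (2 ^ (9 + k))) (mulU (2 ^ (9 + k)) (m * 512)))) = true := by decide +kernel

theorem E_zero : E 0 = 1 := UCode.el_zero _

/-- **`C_L(W_s) ≤ Q_s`** -/
theorem centW {g : GG} (hg : g ∈ chevF4.group (ZMod 2))
    (h : ∀ k, k < 7 → g * Y (41 + k) = Y (41 + k) * g) : ∃ a, a < 2 ^ 15 ∧ g = E (a * 2 ^ 9) := by
  have h' : ∀ k, k < 7 → g * Y (24 + (17 + k)) = Y (24 + (17 + k)) * g := by
    intro k hk
    have := h k hk
    rwa [show 41 + k = 24 + (17 + k) by omega] at this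
  have hU := mem_U_of_W hg h'
  obtain ⟨l, a, hl, ha, e⟩ := exists_split hU 9 (by norm_num)
  have hl0 : l = 0 := by
    by_contra hne
    have ht := levi_W
    rw [List.all_eq_true] at ht
    have h1 := ht l (List.mem_range.2 hl)
    rw [Bool.or_eq_true] at h1
    rcases h1 with h1 | h1
    · exact hne (of_decide_eq_true h1)
    · have h2 : ((List.range 7).all fun k =>
          eqC (mulU l (2 ^ (17 + k))) (mulU (2 ^ (17 + k)) l)) = true := by
        rw [List.all_eq_true]
        intro k hk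
        rw [List.mem_range] at hk
        apply mul_comm_code
        rw [E_pow _ (by omega)]
        have h3 := h' k hk
        rw [e] at h3
        have h4 := W_central (i := 17 + k) (by omega) (by omega) (E_mem_NN a 9)
        calc E l * Y (24 + (17 + k)) = E l * (Y (24 + (17 + k)) * E (a * 2 ^ 9)) * (E (a * 2 ^ 9))⁻¹ := by group
          _ = (E l * E (a * 2 ^ 9) * Y (24 + (17 + k))) * (E (a * 2 ^ 9))⁻¹ := by rw [← h4]; group
          _ = _ := by rw [h3]; group
      rw [h2] at h1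
      exact Bool.noConfusion h1
  refine ⟨a, ha, ?_⟩
  rw [e, hl0, E_zero, one_mul]

/-- **`C_L(⟨x₃₃, …, x₄₀⟩) ≤ W_s`** -/
theorem centC {g : GG} (hg : g ∈ chevF4.group (ZMod 2))
    (h : ∀ k, k < 8 → g * Y (33 + k) = Y (33 + k) * g) : ∃ a, a < 2 ^ 7 ∧ g = E (a * 2 ^ 17) := by
  have h' : ∀ k, k < 8 → g * Y (24 + (9 + k)) = Y (24 + (9 + k)) * g := by
    intro k hk
    have := h k hk
    rwa [show 33 + k = 24 + (9 + k) by omega] at this
  have hU := mem_U_of_C hg h'
  obtain ⟨l, a, hl, ha, e⟩ := exists_split hU 9 (by norm_num)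
  have hl0 : l = 0 := by
    by_contra hne
    have ht := levi_C
    rw [List.all_eq_true] at ht
    have h1 := ht l (List.mem_range.2 hl)
    rw [Bool.or_eq_true] at h1
    rcases h1 with h1 | h1
    · exact hne (of_decide_eq_true h1)
    · have h2 : ((List.range 8).all fun k =>
          Nat.beq (conjU l (2 ^ (9 + k)) % 131072) (2 ^ (9 + k))) = true := by
        rw [List.all_eq_true]
        intro k hk
        rw [List.mem_range] at hk
        rw [Nat.beq_eq]
        have h3 := h' k hk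
        rw [e] at h3
        have h4 := comm_Q (i := 9 + k) (by omega) (by omega) (E_mem_NN a 9)
        -- `x = l (q x q⁻¹) l⁻¹`
        have h5 : (Y (24 + (9 + k)))⁻¹ * (E l * Y (24 + (9 + k)) * (E l)⁻¹) ∈ NN 17 := by
          have h6 : E l * (E (a * 2 ^ 9) * Y (24 + (9 + k)) * (E (a * 2 ^ 9))⁻¹) * (E l)⁻¹ = Y (24 + (9 + k)) := by
            calc _ = (E l * E (a * 2 ^ 9) * Y (24 + (9 + k))) * ((E (a * 2 ^ 9))⁻¹ * (E l)⁻¹) := by group
              _ = _ := by rw [h3]; group
          have h7 : E l * (E (a * 2 ^ 9) * Y (24 + (9 + k)) * (E (a * 2 ^ 9))⁻¹ * (Y (24 + (9 + k)))⁻¹) * (E l)⁻¹ =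
              Y (24 + (9 + k)) * (E l * Y (24 + (9 + k)) * (E l)⁻¹)⁻¹ := by
            calc _ = (E l * (E (a * 2 ^ 9) * Y (24 + (9 + k)) * (E (a * 2 ^ 9))⁻¹) * (E l)⁻¹) *
                  (E l * Y (24 + (9 + k)) * (E l)⁻¹)⁻¹ := by group
              _ = _ := by rw [h6]
          have hEl : E l ∈ NN 0 := by
            have := E_mem_NN l 0
            rwa [pow_zero, mul_one] at this
          have h8 := conj_mem_NN hEl h4
          rw [h7] at h8
          have h9 := inv_mem h8
          have h10 := conj_mem_NN (u := (Y (24 + (9 + k)))⁻¹) (inv_mem (Y_mem_NN (Nat.zero_le _) (by omega))) h9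
          have e1 : (Y (24 + (9 + k)))⁻¹ * (Y (24 + (9 + k)) * (E l * Y (24 + (9 + k)) * (E l)⁻¹)⁻¹)⁻¹ *
              (Y (24 + (9 + k)))⁻¹⁻¹ = (Y (24 + (9 + k)))⁻¹ * (E l * Y (24 + (9 + k)) * (E l)⁻¹) := by group
          rwa [e1] at h10
        obtain ⟨c, hc, hc'⟩ := exists_code_NN 7 17 rfl _ h5
        have h6 : E (conjU l (2 ^ (9 + k))) = E (2 ^ (9 + k) + c * 2 ^ 17) := by
          rw [E, UCode.el_conjU, el_add _ _ 17 (Nat.pow_lt_pow_right (by norm_num) (by omega)) (by norm_num), ← hc',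
            E_pow _ (by omega), mul_inv_cancel_left]
          show E l * E (2 ^ (9 + k)) * (E l)⁻¹ = _
          rw [E_pow _ (by omega)]
        have h7 := eq_mod_of_E h6
        have h8 : conjU l (2 ^ (9 + k)) % 131072 = (2 ^ (9 + k) + c * 2 ^ 17) % 131072 := by
          have e1 := congrArg (· % 131072) h7
          rwa [Nat.mod_mod_of_dvd _ (by norm_num), Nat.mod_mod_of_dvd _ (by norm_num)] at e1
        have h9 : 2 ^ (9 + k) < 131072 := by
          have : 2 ^ (9 + k) < 2 ^ 17 := Nat.pow_lt_pow_right (by norm_num) (by omega)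
          simpa using this
        rw [h8, show (2 : ℕ) ^ 17 = 131072 by norm_num, Nat.add_mul_mod_self_right, Nat.mod_eq_of_lt h9]
      rw [h2] at h1
      exact Bool.noConfusion h1
  rw [hl0, E_zero, one_mul] at e
  have ea : a = a % 2 ^ 8 + a / 2 ^ 8 * 2 ^ 8 := (Nat.mod_add_div' _ _).symm
  have hm : a % 2 ^ 8 < 2 ^ 8 := Nat.mod_lt _ (by norm_num)
  have e2 : g = E (a % 2 ^ 8 * 2 ^ 9) * E (a / 2 ^ 8 * 2 ^ 17) := by
    have e3 : a * 2 ^ 9 = a % 2 ^ 8 * 2 ^ 9 + a / 2 ^ 8 * 2 ^ 17 := by omega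
    rw [e, e3, el_add _ _ 17 (by omega) (by norm_num)]
  have hm0 : a % 2 ^ 8 = 0 := by
    by_contra hne
    have ht := mid_C
    rw [List.all_eq_true] at ht
    have h1 := ht (a % 2 ^ 8) (List.mem_range.2 (by simpa using hm))
    rw [Bool.or_eq_true] at h1
    rcases h1 with h1 | h1
    · exact hne (of_decide_eq_true h1)
    · have h2 : ((List.range 8).all fun k =>
          eqC (mulU (a % 2 ^ 8 * 512) (2 ^ (9 + k))) (mulU (2 ^ (9 + k)) (a % 2 ^ 8 * 512))) = true := by
        rw [List.all_eq_true]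
        intro k hk
        rw [List.mem_range] at hk
        apply mul_comm_code
        rw [E_pow _ (by omega)]
        have h3 := h' k hk
        rw [e2] at h3
        have h4 : E (a / 2 ^ 8 * 2 ^ 17) * Y (24 + (9 + k)) = Y (24 + (9 + k)) * E (a / 2 ^ 8 * 2 ^ 17) := by
          have h5 : NN 17 ≤ Subgroup.centralizer {Y (24 + (9 + k))} := by
            conv_lhs => unfold NN
            rw [Subgroup.closure_le]
            rintro g ⟨i, hi, hi', rfl⟩
            rw [SetLike.mem_coe, Subgroup.mem_centralizer_iff]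
            rintro _ rfl
            exact W_central hi hi' (Y_mem_NN (by omega) (by omega))
          exact ((Subgroup.mem_centralizer_iff.1 (h5 (E_mem_NN _ 17))) _ rfl).symm
        have e3 : (512 : ℕ) = 2 ^ 9 := by norm_num
        rw [e3]
        calc E (a % 2 ^ 8 * 2 ^ 9) * Y (24 + (9 + k))
            = E (a % 2 ^ 8 * 2 ^ 9) * (Y (24 + (9 + k)) * E (a / 2 ^ 8 * 2 ^ 17)) * (E (a / 2 ^ 8 * 2 ^ 17))⁻¹ := by group
          _ = (E (a % 2 ^ 8 * 2 ^ 9) * E (a / 2 ^ 8 * 2 ^ 17) * Y (24 + (9 + k))) * (E (a / 2 ^ 8 * 2 ^ 17))⁻¹ := by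
            rw [← h4]; group
          _ = _ := by rw [h3]; group
      rw [h2] at h1
      exact Bool.noConfusion h1
  refine ⟨a / 2 ^ 8, ?_, ?_⟩
  · omega
  · rw [e2, hm0, Nat.zero_mul, E_zero, one_mul]

end Cfsg.Agent.FourTwo.CentC
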