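import Cfsg.Agent.FourTwo.CentC
import Cfsg.Agent.FourTwo.Base

/-!
Centralisers in `F₄(2)` of sets of root elements containing some `W_r`: finite checks on codes.
-/

set_option autoImplicit false

namespace Cfsg.Agent.FourTwo.CentK

open Cfsg.Lie Cfsg.Agent.ChevalleyStructure.TwF4.Rel Cfsg.Agent.ChevalleyStructure.TwF4.Tables
open Cfsg.Agent.ChevalleyStructure.F4TwU
open Cfsg.Agent.FourTwo.UCode (force mulU invU conjU reflU el lets colW wel)
open Cfsg.Agent.FourTwo.CentW Cfsg.Agent.FourTwo.CentC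
open Cfsg.Agent.FourTwo.Base (LL x wd coe_x wd_cons wd_nil)

/-- the test of commutation of `E a` with `Y q`, after conjugation by the word `w` of simple reflections -/
def tst (w : List ℕ) (q a : ℕ) : Bool :=
  List.rec (motive := fun _ => ℕ → ℕ → Bool)
    (fun q a => cond (Nat.ble 24 q) (eqC (mulU a (2 ^ (q - 24))) (mulU (2 ^ (q - 24)) a)) true)
    (fun i _ ih q a => cond (Nat.beq (Nat.land a (2 ^ (sp i - 24))) 0) (force (reflU i a) (ih (refl i q))) true) w q a

/-- the same modulo `⟨x₄₁, …, x₄₇⟩` -/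
def tstL (w : List ℕ) (q a : ℕ) : Bool :=
  List.rec (motive := fun _ => ℕ → ℕ → Bool)
    (fun q a => cond (Nat.ble 24 q) (Nat.beq (Nat.mod (mulU a (2 ^ (q - 24))) (2 ^ 17))
      (Nat.mod (mulU (2 ^ (q - 24)) a) (2 ^ 17))) true)
    (fun i _ ih q a => cond (Nat.beq (Nat.land a (2 ^ (sp i - 24))) 0) (force (reflU i a) (ih (refl i q))) true) w q a

theorem refl_tab : ((List.range 4).all fun i => (List.range 48).all fun r => decide (refl i r < 48) &&
    (decide (r < 41) || decide (i = 0) || decide (41 ≤ refl i r))) = true := by decide +kernel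

theorem refl_lt48 {i r : ℕ} (hi : i < 4) (hr : r < 48) : refl i r < 48 := by
  have h := refl_tab
  rw [List.all_eq_true] at h
  have h1 := h i (List.mem_range.2 hi)
  rw [List.all_eq_true] at h1
  have h2 := h1 r (List.mem_range.2 hr)
  rw [Bool.and_eq_true] at h2
  exact of_decide_eq_true h2.1

theorem refl_ge {i r : ℕ} (hi : i < 4) (h0 : i ≠ 0) (hr : r < 48) (hr' : 41 ≤ r) : 41 ≤ refl i r := by
  have h := refl_tab
  rw [List.all_eq_true] at h
  have h1 := h i (List.mem_range.2 hi)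
  rw [List.all_eq_true] at h1
  have h2 := h1 r (List.mem_range.2 hr)
  rw [Bool.and_eq_true, Bool.or_eq_true, Bool.or_eq_true] at h2
  rcases h2.2 with (h3 | h3) | h3
  · exact absurd (of_decide_eq_true h3) (by omega)
  · exact absurd (of_decide_eq_true h3) h0
  · exact of_decide_eq_true h3

theorem bit_of {a i : ℕ} (h : Nat.beq (Nat.land a (2 ^ i)) 0 = true) : a.testBit i = false := by
  rw [UCode.land_pow_eq_zero] at h
  simpa using h

theorem tst_of (w : List ℕ) (q a : ℕ) (hw : ∀ i ∈ w, i < 4) (hq : q < 48) (h : E a * Y q = Y q * E a) :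
    tst w q a = true := by
  induction w generalizing q a with
  | nil =>
    show cond (Nat.ble 24 q) (eqC (mulU a (2 ^ (q - 24))) (mulU (2 ^ (q - 24)) a)) true = true
    cases hb : Nat.ble 24 q
    · rfl
    · show eqC _ _ = true
      have h24 : 24 ≤ q := Nat.le_of_ble_eq_true hb
      apply mul_comm_code
      rw [E_pow _ (by omega), show 24 + (q - 24) = q by omega]
      exact h
  | cons i w ih =>
    show cond (Nat.beq (Nat.land a (2 ^ (sp i - 24))) 0) (force (reflU i a) (tst w (refl i q))) true = true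
    cases hb : Nat.beq (Nat.land a (2 ^ (sp i - 24))) 0
    · rfl
    · show force (reflU i a) (tst w (refl i q)) = true
      have hi := hw i List.mem_cons_self
      rw [UCode.force_eq]
      refine ih _ _ (fun j hj => hw j (List.mem_cons_of_mem _ hj)) (refl_lt48 hi hq) ?_
      have h1 := UCode.el_reflU (ZMod 2) hi (bit_of hb)
      have h2 := nG_conj (K := ZMod 2) i q hi hq 1
      rw [E, h1, Y, ← h2]
      have h3 : el (ZMod 2) a * X q 1 = X q 1 * el (ZMod 2) a := h
      calc _ = nG (ZMod 2) (sp i) * (el (ZMod 2) a * X q 1) * (nG (ZMod 2) (sp i))⁻¹ := by group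
        _ = _ := by rw [h3]; group

theorem mod_eq_of {a b j : ℕ} {z : GG} (hj : j ≤ 24) (hz : z ∈ NN j) (h : E a = E b * z) : a % 2 ^ j = b % 2 ^ j := by
  have hb : E b = E (b % 2 ^ j) * E (b / 2 ^ j * 2 ^ j) := by
    rw [← el_add _ _ j (Nat.mod_lt _ (by positivity)) hj, Nat.mod_add_div']
  have hz' := mul_mem (E_mem_NN (b / 2 ^ j) j) hz
  obtain ⟨c, hc, hc'⟩ := exists_code_NN (24 - j) j (by omega) _ hz'
  have h1 : E a = E (b % 2 ^ j + c * 2 ^ j) := by
    rw [h, hb, mul_assoc, hc', ← el_add _ _ j (Nat.mod_lt _ (by positivity)) hj]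
  have h2 := eq_mod_of_E h1
  have h3 : a % 2 ^ 24 % 2 ^ j = (b % 2 ^ j + c * 2 ^ j) % 2 ^ 24 % 2 ^ j := by rw [h2]
  have hd : 2 ^ j ∣ 2 ^ 24 := pow_dvd_pow 2 hj
  rwa [Nat.mod_mod_of_dvd _ hd, Nat.mod_mod_of_dvd _ hd, Nat.add_mul_mod_self_right, Nat.mod_mod] at h3

theorem NN17_conj {i : ℕ} (hi : i < 4) (h0 : i ≠ 0) {z : GG} (hz : z ∈ NN 17) :
    nG (ZMod 2) (sp i) * z * (nG (ZMod 2) (sp i))⁻¹ ∈ NN 17 := by
  unfold NN at hz
  refine conj_closure ?_ hz
  rintro g ⟨k, hk, hk', rfl⟩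
  have h2 := nG_conj (K := ZMod 2) i (24 + k) hi (by omega) 1
  have h3 := refl_ge hi h0 (show 24 + k < 48 by omega) (by omega)
  have h4 := refl_lt48 hi (show 24 + k < 48 by omega)
  rw [Y, h2]
  have h5 : refl i (24 + k) = 24 + (refl i (24 + k) - 24) := by omega
  rw [h5]
  exact Y_mem_NN (by omega) (by omega)

theorem tstL_nil {q a : ℕ} {z : GG} (hz : z ∈ NN 17) (hq : q < 48) (h24 : 24 ≤ q)
    (h : (E a * z) * Y q = Y q * (E a * z)) :
    mulU a (2 ^ (q - 24)) % 2 ^ 17 = mulU (2 ^ (q - 24)) a % 2 ^ 17 := by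
  have h5 : E (2 ^ (q - 24)) = Y q := by
    rw [E_pow _ (by omega), show 24 + (q - 24) = q by omega]
  have h7 : Y q ∈ NN 0 := by
    have := Y_mem_NN (Nat.zero_le (q - 24)) (show q - 24 < 24 by omega)
    rwa [show 24 + (q - 24) = q by omega] at this
  have h6 : E (mulU a (2 ^ (q - 24))) = E (mulU (2 ^ (q - 24)) a) * (z * (Y q * z⁻¹ * (Y q)⁻¹)) := by
    rw [E, UCode.el_mulU, E, UCode.el_mulU]
    show E a * E (2 ^ (q - 24)) = E (2 ^ (q - 24)) * E a * (z * (Y q * z⁻¹ * (Y q)⁻¹))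
    rw [h5, Y_inv]
    have h8 : E a * Y q = Y q * (E a * z) * (Y q * z⁻¹ * Y q) := by
      rw [← h]
      have h9 := Y_mul_self q
      calc E a * Y q = E a * z * (Y q * Y q) * z⁻¹ * Y q := by rw [h9]; group
        _ = _ := by group
    rw [h8]
    group
  have h8 : z * (Y q * z⁻¹ * (Y q)⁻¹) ∈ NN 17 := mul_mem hz (conj_mem_NN h7 (inv_mem hz))
  exact mod_eq_of (by norm_num) h8 h6

theorem tstL_of (w : List ℕ) (q a : ℕ) (z : GG) (hz : z ∈ NN 17) (hw : ∀ i ∈ w, i < 4 ∧ i ≠ 0) (hq : q < 48)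
    (h : (E a * z) * Y q = Y q * (E a * z)) : tstL w q a = true := by
  induction w generalizing q a z with
  | nil =>
    show cond (Nat.ble 24 q) (Nat.beq (Nat.mod (mulU a (2 ^ (q - 24))) (2 ^ 17))
      (Nat.mod (mulU (2 ^ (q - 24)) a) (2 ^ 17))) true = true
    cases hb : Nat.ble 24 q
    · rfl
    · show Nat.beq (mulU a (2 ^ (q - 24)) % 2 ^ 17) (mulU (2 ^ (q - 24)) a % 2 ^ 17) = true
      rw [tstL_nil hz hq (Nat.le_of_ble_eq_true hb) h]
      exact Nat.beq_refl _
  | cons i w ih =>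
    show cond (Nat.beq (Nat.land a (2 ^ (sp i - 24))) 0) (force (reflU i a) (tstL w (refl i q))) true = true
    cases hb : Nat.beq (Nat.land a (2 ^ (sp i - 24))) 0
    · rfl
    · show force (reflU i a) (tstL w (refl i q)) = true
      have hi := hw i List.mem_cons_self
      rw [UCode.force_eq]
      refine ih _ _ _ (NN17_conj hi.1 hi.2 hz) (fun j hj => hw j (List.mem_cons_of_mem _ hj))
        (refl_lt48 hi.1 hq) ?_
      have h1 := UCode.el_reflU (ZMod 2) hi.1 (bit_of hb)
      have h2 := nG_conj (K := ZMod 2) i q hi.1 hq 1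
      rw [E, h1, Y, ← h2]
      have h3 : el (ZMod 2) a * z * X q 1 = X q 1 * (el (ZMod 2) a * z) := h
      calc _ = nG (ZMod 2) (sp i) * (el (ZMod 2) a * z * X q 1) * (nG (ZMod 2) (sp i))⁻¹ := by group
        _ = _ := by rw [h3]; group

/-- a list of tests: words and roots -/
abbrev Tests : Type := List (List ℕ × ℕ)

def okT (c : Tests) : Bool := c.all fun p => Nat.ble p.2 47 && p.1.all fun i => Nat.ble i 3

def okL (c : Tests) : Bool := c.all fun p => Nat.ble p.2 47 && p.1.all fun i => Nat.ble i 3 && !(Nat.beq i 0)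

/-- the whole check: low tests, tests, possible results (as words) -/
def Chk (cL c : Tests) (ans : List (List ℕ)) : Bool :=
  okL cL && okT c && (ans.all fun T => T.all fun j => Nat.ble j 23) && (List.range 256).all fun l =>
    !(cL.all fun p => tstL p.1 p.2 (l * 512)) || (List.range 128).all fun w =>
      !(c.all fun p => tst p.1 p.2 (l * 512 + w * 131072)) ||
        ans.any fun T => Nat.beq (colW T) (l * 512 + w * 131072)

theorem coe_wd_eq (T : List ℕ) : ((wd (T.map fun j => 24 + j) : LL) : GG) = wel (ZMod 2) T := by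
  induction T with
  | nil => rfl
  | cons j T ih =>
    rw [List.map_cons, wd_cons, UCode.wel_cons, ← ih]
    rfl

theorem cv_aux {g : LL} {q : ℕ} (h : Commute g (x q)) : (g : GG) * Y q = Y q * g := by
  have h1 : ((g * x q : LL) : GG) = ((x q * g : LL) : GG) := by rw [h.eq]
  rwa [Subgroup.coe_mul, Subgroup.coe_mul, coe_x] at h1

theorem split_aux (a j : ℕ) (hj : j ≤ 24) (h : j = 17) :
    E (a * 2 ^ 9) = E (a % 256 * 512) * E (a / 256 * 2 ^ j) := by
  have h1 : (512 : ℕ) = 2 ^ 9 := by norm_num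
  have h2 : (256 : ℕ) = 2 ^ 8 := by norm_num
  have h3 : 2 ^ j = 2 ^ 8 * 2 ^ 9 := by rw [h, ← pow_add]
  have e3 : a * 2 ^ 9 = a % 256 * 512 + a / 256 * 2 ^ j := by
    rw [h1, h2, h3, ← mul_assoc, ← add_mul, Nat.mod_add_div']
  rw [e3]
  refine el_add _ _ j ?_ hj
  rw [h3, h1, h2]
  exact Nat.mul_lt_mul_of_pos_right (Nat.mod_lt _ (by norm_num)) (by norm_num)

theorem main {cL c : Tests} {ans : List (List ℕ)} (hchk : Chk cL c ans = true) {g : LL}
    (h7 : ∀ k, k < 7 → Commute g (x (41 + k))) (hL : ∀ p ∈ cL, Commute g (x p.2))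
    (hc : ∀ p ∈ c, Commute g (x p.2)) : ∃ T ∈ ans, g = wd (T.map fun j => 24 + j) := by
  unfold Chk at hchk
  rw [Bool.and_eq_true, Bool.and_eq_true, Bool.and_eq_true] at hchk
  obtain ⟨⟨⟨hoL, hoT⟩, hans⟩, hmain⟩ := hchk
  have cv : ∀ q, Commute g (x q) → (g : GG) * Y q = Y q * g := fun q h => cv_aux h
  obtain ⟨a, ha, hga⟩ := centW g.2 fun k hk => cv _ (h7 k hk)
  have hsplit : E (a * 2 ^ 9) = E (a % 256 * 512) * E (a / 256 * 2 ^ 17) := split_aux a 17 (by norm_num) rfl
  rw [List.all_eq_true] at hmain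
  have h1 := hmain (a % 256) (List.mem_range.2 (by omega))
  rw [Bool.or_eq_true] at h1
  have hlow : (cL.all fun p => tstL p.1 p.2 (a % 256 * 512)) = true := by
    rw [List.all_eq_true]
    intro p hp
    unfold okL at hoL
    rw [List.all_eq_true] at hoL
    have h2 := hoL p hp
    rw [Bool.and_eq_true, List.all_eq_true] at h2
    refine tstL_of p.1 p.2 _ _ (E_mem_NN (a / 256) 17) (fun i hi => ?_) ?_ ?_
    · have h3 := h2.2 i hi
      rw [Bool.and_eq_true] at h3
      refine ⟨Nat.lt_succ_of_le (Nat.le_of_ble_eq_true h3.1), ?_⟩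
      rintro rfl
      have h4 := h3.2
      revert h4
      decide
    · exact Nat.lt_succ_of_le (Nat.le_of_ble_eq_true h2.1)
    · rw [← hsplit, ← hga]
      exact cv _ (hL p hp)
  rw [hlow] at h1
  rcases h1 with h1 | h1
  · exact Bool.noConfusion h1
  rw [List.all_eq_true] at h1
  have h2 := h1 (a / 256) (List.mem_range.2 (by omega))
  have ea : a % 256 * 512 + a / 256 * 131072 = a * 2 ^ 9 := by omega
  rw [ea, Bool.or_eq_true] at h2
  have hall : (c.all fun p => tst p.1 p.2 (a * 2 ^ 9)) = true := by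
    rw [List.all_eq_true]
    intro p hp
    unfold okT at hoT
    rw [List.all_eq_true] at hoT
    have h3 := hoT p hp
    rw [Bool.and_eq_true, List.all_eq_true] at h3
    refine tst_of p.1 p.2 _ (fun i hi => Nat.lt_succ_of_le (Nat.le_of_ble_eq_true (h3.2 i hi)))
      (Nat.lt_succ_of_le (Nat.le_of_ble_eq_true h3.1)) ?_
    rw [← hga]
    exact cv _ (hc p hp)
  rw [hall] at h2
  rcases h2 with h2 | h2
  · exact Bool.noConfusion h2
  rw [List.any_eq_true] at h2
  obtain ⟨T, hT, hT'⟩ := h2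
  rw [Nat.beq_eq] at hT'
  refine ⟨T, hT, ?_⟩
  apply Subtype.ext
  rw [coe_wd_eq, hga, ← hT', E, UCode.colW_spec]
  intro j hj
  rw [List.all_eq_true] at hans
  have h3 := hans T hT
  rw [List.all_eq_true] at h3
  exact Nat.lt_succ_of_le (Nat.le_of_ble_eq_true (h3 j hj))

/-- the check inside `⟨x₄₁, …, x₄₇⟩` -/
def ChkC (c : Tests) (ans : List (List ℕ)) : Bool :=
  okT c && (ans.all fun T => T.all fun j => Nat.ble j 23) && (List.range 128).all fun w =>
      !(c.all fun p => tst p.1 p.2 (w * 131072)) || ans.any fun T => Nat.beq (colW T) (w * 131072)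

theorem pow17 : (131072 : ℕ) = 2 ^ 17 := by norm_num

theorem mainC {c : Tests} {ans : List (List ℕ)} (hchk : ChkC c ans = true) {g : LL}
    (h8 : ∀ k, k < 8 → Commute g (x (33 + k)))
    (hc : ∀ p ∈ c, Commute g (x p.2)) : ∃ T ∈ ans, g = wd (T.map fun j => 24 + j) := by
  unfold ChkC at hchk
  rw [Bool.and_eq_true, Bool.and_eq_true] at hchk
  obtain ⟨⟨hoT, hans⟩, hmain⟩ := hchk
  have cv : ∀ q, Commute g (x q) → (g : GG) * Y q = Y q * g := fun q h => cv_aux h
  obtain ⟨a, ha, hga⟩ := centC g.2 fun k hk => cv _ (h8 k hk)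
  rw [List.all_eq_true] at hmain
  have h2 := hmain a (List.mem_range.2 ha)
  rw [pow17, Bool.or_eq_true] at h2
  have hall : (c.all fun p => tst p.1 p.2 (a * 2 ^ 17)) = true := by
    rw [List.all_eq_true]
    intro p hp
    unfold okT at hoT
    rw [List.all_eq_true] at hoT
    have h3 := hoT p hp
    rw [Bool.and_eq_true, List.all_eq_true] at h3
    refine tst_of p.1 p.2 _ (fun i hi => Nat.lt_succ_of_le (Nat.le_of_ble_eq_true (h3.2 i hi)))
      (Nat.lt_succ_of_le (Nat.le_of_ble_eq_true h3.1)) ?_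
    rw [← hga]
    exact cv _ (hc p hp)
  rw [hall] at h2
  rcases h2 with h2 | h2
  · exact Bool.noConfusion h2
  rw [List.any_eq_true] at h2
  obtain ⟨T, hT, hT'⟩ := h2
  rw [Nat.beq_eq] at hT'
  refine ⟨T, hT, ?_⟩
  apply Subtype.ext
  rw [coe_wd_eq, hga, ← hT', E, UCode.colW_spec]
  intro j hj
  rw [List.all_eq_true] at hans
  have h3 := hans T hT
  rw [List.all_eq_true] at h3
  exact Nat.lt_succ_of_le (Nat.le_of_ble_eq_true (h3 j hj))

theorem chkA : Chk [([], 24), ([], 25), ([], 30), ([2], 22)] [([2], 22), ([3], 23), ([], 26), ([], 30)]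
    [[], [16], [20], [16, 20]] = true := by decide +kernel

theorem chkC : Chk [([], 24), ([], 25), ([2, 3], 21)] [([2], 22), ([3], 23), ([], 26)]
    [[], [9], [16], [9, 16], [20], [9, 20], [16, 20], [9, 16, 20]] = true := by decide +kernel

theorem chkF : Chk [([], 27), ([1], 20)] [([2], 22), ([1], 20), ([], 28), ([], 29)]
    [[], [20], [23], [20, 23]] = true := by decide +kernel

theorem chkD1 : Chk [([], 29), ([1], 20), ([2], 22)] [([], 29), ([], 25), ([], 33), ([0, 2, 1], 12)]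
    [[], [12], [23], [12, 23]] = true := by decide +kernel

theorem chkD2 : Chk [([], 27), ([], 25)] [([0], 14), ([], 25), ([], 27), ([], 33), ([2], 22)]
    [[], [13], [23], [13, 23]] = true := by decide +kernel

theorem chkB : ChkC [([], 27), ([], 28), ([1], 20), ([2, 1], 19)]
    [[], [17], [20], [17, 20], [23], [17, 23], [20, 23], [17, 20, 23]] = true := by decide +kernel

theorem chkE : ChkC [([], 24), ([], 25), ([], 27)] [[], [20], [23], [20, 23]] = true := by decide +kernel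

end Cfsg.Agent.FourTwo.CentK
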