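import Cfsg.Agent.FourTwo.PairW

/-!
Invariance of the tables `F`, `ct`, `sm`, `lg` under the Weyl group; the rigidity of all pairs of short roots in
`F₄(2)`: `rig60`, `rig90`, `rig120`.
-/

set_option autoImplicit false

namespace Cfsg.Agent.FourTwo.PairRig

open Cfsg.Agent.ChevalleyStructure.TwF4.Rel (refl refl_lt)
open Cfsg.Agent.ChevalleyStructure.F4NTab (ct)
open Cfsg.Agent.FourTwo.Base (LL x)
open Cfsg.Agent.FourTwo.BN (nw act act_lt nw_conj)
open Cfsg.Agent.FourTwo.CentP Cfsg.Agent.FourTwo.PairW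
open Cfsg.Agent.F42.RelTab (lg F sm all2 all2_spec p60 p90 p120)

theorem inv_tab : ((List.range 4).all fun i => all2 fun r s =>
    Nat.beq (refl i (refl i r)) r && (ct (refl i r) (refl i s) == ct r s) && (lg (refl i r) == lg r) &&
      (Nat.beq (sm r s) 63 || Nat.beq (sm (refl i r) (refl i s)) (refl i (sm r s)))) = true := by decide +kernel

theorem sm_lt_tab : all2 (fun r s => Nat.beq (sm r s) 63 || Nat.blt (sm r s) 48) = true := by decide +kernel

theorem inv_all {i r s : ℕ} (hi : i < 4) (hr : r < 48) (hs : s < 48) : refl i (refl i r) = r ∧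
    ct (refl i r) (refl i s) = ct r s ∧ lg (refl i r) = lg r ∧
      (sm r s < 48 → sm (refl i r) (refl i s) = refl i (sm r s)) := by
  have h := inv_tab
  rw [List.all_eq_true] at h
  have h1 := all2_spec (h i (List.mem_range.2 hi)) hr hs
  simp only [Bool.and_eq_true, Bool.or_eq_true, Nat.beq_eq, beq_iff_eq] at h1
  obtain ⟨⟨⟨h1, h2⟩, h3⟩, h4⟩ := h1
  refine ⟨h1, h2, h3, fun h5 => ?_⟩
  rcases h4 with h4 | h4
  · omega
  · exact h4

theorem act_cons (i : ℕ) (w : List ℕ) (r : ℕ) : act (i :: w) r = refl i (act w r) := rfl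

theorem act_append (w w' : List ℕ) (r : ℕ) : act (w ++ w') r = act w (act w' r) := by
  induction w with
  | nil => rfl
  | cons i w ih => rw [List.cons_append, act_cons, act_cons, ih]

theorem act_inv {w : List ℕ} (hw : ∀ i ∈ w, i < 4) {r s : ℕ} (hr : r < 48) (hs : s < 48) :
    ct (act w r) (act w s) = ct r s ∧ lg (act w r) = lg r ∧
      (sm r s < 48 → sm (act w r) (act w s) = act w (sm r s)) := by
  induction w with
  | nil => exact ⟨rfl, rfl, fun _ => rfl⟩
  | cons i w ih =>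
    have hw' : ∀ j ∈ w, j < 4 := fun j hj => hw j (List.mem_cons_of_mem _ hj)
    obtain ⟨h1, h2, h3⟩ := ih hw'
    obtain ⟨h4, h5, h6, h7⟩ := inv_all (hw i List.mem_cons_self) (act_lt hw' hr) (act_lt hw' hs)
    refine ⟨?_, ?_, fun h => ?_⟩
    · rw [act_cons, act_cons, h5, h1]
    · rw [act_cons, h6, h2]
    · rw [act_cons, act_cons, act_cons, h7 (by rw [h3 h]; exact act_lt hw' h), h3 h]

theorem act_F {w : List ℕ} (hw : ∀ i ∈ w, i < 4) {r s : ℕ} (hr : r < 48) (hs : s < 48) :
    F (act w r) (act w s) = F r s := by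
  obtain ⟨h1, -, -⟩ := act_inv hw hr hs
  obtain ⟨-, h2, -⟩ := act_inv hw hs hr
  unfold F
  rw [h1, h2]

theorem act_reverse {w : List ℕ} (hw : ∀ i ∈ w, i < 4) {r : ℕ} (hr : r < 48) : act w (act w.reverse r) = r := by
  induction w generalizing r with
  | nil => rfl
  | cons i w ih =>
    have hi := hw i List.mem_cons_self
    have hw' : ∀ j ∈ w, j < 4 := fun j hj => hw j (List.mem_cons_of_mem _ hj)
    rw [List.reverse_cons, act_append, act_cons, show act [i] r = refl i r from rfl, ih hw' (refl_lt i _ hi hr)]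
    exact (inv_all hi hr hr).1

theorem reverse_lt {w : List ℕ} (hw : ∀ i ∈ w, i < 4) : ∀ i ∈ w.reverse, i < 4 :=
  fun i hi => hw i (List.mem_reverse.1 hi)

/-- conjugation by `nw w` and commutation -/
theorem transport {w : List ℕ} (hw : ∀ i ∈ w, i < 4) {P : ℕ → Prop} {g : LL}
    (h : ∀ b, b < 48 → P b → Commute g (x b)) {b : ℕ} (hb : b < 48) (hP : P (act w.reverse b)) :
    Commute (nw w * g * (nw w)⁻¹) (x b) := by
  have hb' := act_lt (reverse_lt hw) hb
  have h1 := h _ hb' hP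
  have h2 := nw_conj hw hb'
  rw [act_reverse hw hb] at h2
  rw [← h2]
  show _ * _ = _ * _
  have h3 : g * x (act w.reverse b) = x (act w.reverse b) * g := h1
  calc _ = nw w * (g * x (act w.reverse b)) * (nw w)⁻¹ := by group
    _ = _ := by rw [h3]; group

/-- the form for the sets `F s ∩ F q` -/
theorem transF {w : List ℕ} (hw : ∀ i ∈ w, i < 4) {s q s' q' : ℕ} (hs : s < 48) (hq : q < 48)
    (hs' : act w s = s') (hq' : act w q = q') {L : List ℕ}
    (hL : (L.all fun b => Nat.blt b 48 && F s' b && F q' b) = true) {g : LL}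
    (h : ∀ b, b < 48 → F s b = true → F q b = true → Commute g (x b)) :
    ∀ b ∈ L, Commute (nw w * g * (nw w)⁻¹) (x b) := by
  intro b hb
  rw [List.all_eq_true] at hL
  have h1 := hL b hb
  rw [Bool.and_eq_true, Bool.and_eq_true] at h1
  obtain ⟨⟨h2, h3⟩, h4⟩ := h1
  have hb48 : b < 48 := by simpa using h2
  have hb' := act_lt (reverse_lt hw) hb48
  refine transport hw (P := fun b => F s b = true ∧ F q b = true) (fun b hb h5 => h b hb h5.1 h5.2) hb48 ⟨?_, ?_⟩
  · rw [← act_F hw hs hb', act_reverse hw hb48, hs']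
    exact h3
  · rw [← act_F hw hq hb', act_reverse hw hb48, hq']
    exact h4

theorem back {w : List ℕ} (hw : ∀ i ∈ w, i < 4) {r r' : ℕ} (hr : r < 48) (h : act w r = r') {a : LL}
    (ha : a = 1 ∨ a = x r') : (nw w)⁻¹ * a * nw w = 1 ∨ (nw w)⁻¹ * a * nw w = x r := by
  rcases ha with rfl | rfl
  · left; group
  · right
    rw [← h, ← nw_conj hw hr]
    group

theorem rig60 {s q : ℕ} (hs : s < 48) (hq : q < 48) (hp : p60 s q = true) {g : LL}
    (h : ∀ b, b < 48 → F s b = true → F q b = true → Commute g (x b)) :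
    ∃ b c : LL, (b = 1 ∨ b = x s) ∧ (c = 1 ∨ c = x q) ∧ g = b * c := by
  have hw := word_lt hs hq
  obtain ⟨h1, h2⟩ := act_of act60s hs hq hp
  obtain ⟨a, b, ha, hb, e⟩ := cent60s (transF hw hs hq h1 h2 (by decide +kernel) h)
  have hab : a * b = b * a := by
    rcases ha with rfl | rfl <;> rcases hb with rfl | rfl
    · rfl
    · rw [one_mul, mul_one]
    · rw [one_mul, mul_one]
    · exact Cfsg.Agent.FourTwo.Comm.comm_one (by norm_num) (by norm_num) (by norm_num) (by decide +kernel)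
  refine ⟨_, _, back hw hs h1 hb, back hw hq h2 ha, ?_⟩
  rw [hab] at e
  calc g = (nw (word s q))⁻¹ * (nw (word s q) * g * (nw (word s q))⁻¹) * nw (word s q) := by group
    _ = _ := by rw [e]; group

theorem x_comm {r s : ℕ} (hr : r < 48) (hs : s < 48) (h2 : r + s ≠ 47) (h : Comm.cmg r s = []) : x r * x s = x s * x r :=
  Cfsg.Agent.FourTwo.Comm.comm_one hr hs h2 h

theorem or_comm {r s : ℕ} (h : x r * x s = x s * x r) {a b : LL} (ha : a = 1 ∨ a = x r) (hb : b = 1 ∨ b = x s) :
    a * b = b * a := by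
  rcases ha with rfl | rfl <;> rcases hb with rfl | rfl
  · rfl
  · rw [one_mul, mul_one]
  · rw [one_mul, mul_one]
  · exact h

theorem p_tab : all2 (fun s q => !(p90 s q || p120 s q) || Nat.blt (sm s q) 48) = true := by decide +kernel

theorem sm_lt90 {s q : ℕ} (hs : s < 48) (hq : q < 48) (hp : p90 s q = true) : sm s q < 48 := by
  have h := all2_spec p_tab hs hq
  rw [hp] at h
  simpa using h

theorem sm_lt120 {s q : ℕ} (hs : s < 48) (hq : q < 48) (hp : p120 s q = true) : sm s q < 48 := by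
  have h := all2_spec p_tab hs hq
  rw [hp] at h
  simpa using h

theorem rig90 {s q : ℕ} (hs : s < 48) (hq : q < 48) (hp : p90 s q = true) {g : LL}
    (h : ∀ b, b < 48 → F s b = true → F q b = true → Commute g (x b)) :
    ∃ b c d : LL, (b = 1 ∨ b = x s) ∧ (c = 1 ∨ c = x q) ∧ (d = 1 ∨ d = x (sm s q)) ∧ g = b * c * d := by
  have hw := word_lt hs hq
  obtain ⟨h1, h2⟩ := act_of act90s hs hq hp
  obtain ⟨a, b, c, ha, hb, hc, e⟩ := cent90s (transF hw hs hq h1 h2 (by decide +kernel) h)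
  have h3 := sm_lt90 hs hq hp
  have h4 : act (word s q) (sm s q) = 47 := by
    rw [← (act_inv hw hs hq).2.2 h3, h1, h2]
    decide +kernel
  have e1 : a * b * c = c * a * b := by
    have k1 : b * c = c * b := or_comm (x_comm (by norm_num) (by norm_num) (by norm_num) (by decide +kernel)) hb hc
    have k2 : a * c = c * a := or_comm (x_comm (by norm_num) (by norm_num) (by norm_num) (by decide +kernel)) ha hc
    rw [mul_assoc, k1, ← mul_assoc, k2]
  refine ⟨_, _, _, back hw hs h1 hc, back hw hq h2 ha, back hw h3 h4 hb, ?_⟩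
  rw [e1] at e
  calc g = (nw (word s q))⁻¹ * (nw (word s q) * g * (nw (word s q))⁻¹) * nw (word s q) := by group
    _ = _ := by rw [e]; group

theorem rig120 {s q : ℕ} (hs : s < 48) (hq : q < 48) (hp : p120 s q = true) {g : LL}
    (h : ∀ b, b < 48 → F s b = true → F q b = true → Commute g (x b)) :
    ∃ b c d : LL, (b = 1 ∨ b = x s) ∧ (c = 1 ∨ c = x q) ∧ (d = 1 ∨ d = x (sm s q)) ∧ g = b * c * d := by
  have hw := word_lt hs hq
  obtain ⟨h1, h2⟩ := act_of act120s hs hq hp
  obtain ⟨a, b, c, ha, hb, hc, e⟩ := cent120s (transF hw hs hq h1 h2 (by decide +kernel) h)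
  have h3 := sm_lt120 hs hq hp
  have h4 : act (word s q) (sm s q) = 44 := by
    rw [← (act_inv hw hs hq).2.2 h3, h1, h2]
    decide +kernel
  have e1 : ∃ c', (c' = 1 ∨ c' = x 44) ∧ a * b * c = b * a * c' := by
    rcases ha with rfl | rfl
    · exact ⟨c, hc, by rw [one_mul, mul_one]⟩
    rcases hb with rfl | rfl
    · exact ⟨c, hc, by rw [one_mul, mul_one]⟩
    have k1 : x 33 * x 40 = x 40 * x 33 * x 44 := by
      have h5 := Cfsg.Agent.FourTwo.Comm.comm_all (r := 33) (s := 40) (by norm_num) (by norm_num) (by norm_num) (by norm_num)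
      rw [show Comm.cmg 33 40 = [44] by decide +kernel, Base.wd_one] at h5
      rw [h5, mul_assoc, mul_assoc, x_comm (r := 44) (s := 33) (by norm_num) (by norm_num) (by norm_num) (by decide +kernel)]
    refine ⟨x 44 * c, ?_, by rw [k1]; simp only [mul_assoc]⟩
    rcases hc with rfl | rfl
    · right; rw [mul_one]
    · left; rw [Base.x_mul_self]
  obtain ⟨c', hc', e1⟩ := e1
  refine ⟨_, _, _, back hw hs h1 hb, back hw hq h2 ha, back hw h3 h4 hc', ?_⟩
  rw [e1] at e
  calc g = (nw (word s q))⁻¹ * (nw (word s q) * g * (nw (word s q))⁻¹) * nw (word s q) := by group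
    _ = _ := by rw [e]; group

/-! ### The forms in a group containing `L × ⟨t⟩` -/

section Over

variable {G : Type*} [Group G] {t : G} (φ : LL →* G) (hinj : Function.Injective φ)
  (htt : t * t = 1) (hφ : ∀ l : LL, Commute t (φ l))
  (hc : ∀ e : G, Commute e t → ∃ l : LL, e = φ l ∨ e = t * φ l)

include hinj htt hφ hc in
theorem overG {e : G} (he : Commute e t) {P : ℕ → Prop} (h : ∀ b, P b → Commute e (φ (x b))) :
    ∃ (l : LL) (a : G), (a = 1 ∨ a = t) ∧ e = a * φ l ∧ ∀ b, P b → Commute l (x b) := by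
  have key : ∀ l b, Commute (φ l) (φ (x b)) → Commute l (x b) := by
    intro l b h1
    apply hinj
    rw [map_mul, map_mul]
    exact h1
  obtain ⟨l, rfl | rfl⟩ := hc e he
  · exact ⟨l, 1, Or.inl rfl, (one_mul _).symm, fun b hb => key l b (h b hb)⟩
  · refine ⟨l, t, Or.inr rfl, rfl, fun b hb => key l b ?_⟩
    have h1 := (hφ (x b)).mul_left (h b hb)
    rwa [← mul_assoc, htt, one_mul] at h1

include hinj htt hφ hc in
theorem over60 (s q : ℕ) (hs : s < 48) (hq : q < 48) (hp : p60 s q = true) (e : G) (he : Commute e t)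
    (h : ∀ b, b < 48 → F s b = true → F q b = true → Commute e (φ (x b))) :
    ∃ a b c, (a = 1 ∨ a = t) ∧ (b = 1 ∨ b = φ (x s)) ∧ (c = 1 ∨ c = φ (x q)) ∧ e = a * b * c := by
  obtain ⟨l, a, ha, e1, hl⟩ := overG φ hinj htt hφ hc he (P := fun b => b < 48 ∧ F s b = true ∧ F q b = true)
    (fun b hb => h b hb.1 hb.2.1 hb.2.2)
  obtain ⟨b, c, hb, hc', rfl⟩ := rig60 hs hq hp (g := l) fun b h1 h2 h3 => hl b ⟨h1, h2, h3⟩
  refine ⟨a, φ b, φ c, ha, ?_, ?_, by rw [e1, map_mul, mul_assoc]⟩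
  · rcases hb with rfl | rfl
    · exact Or.inl (map_one _)
    · exact Or.inr rfl
  · rcases hc' with rfl | rfl
    · exact Or.inl (map_one _)
    · exact Or.inr rfl

include hinj htt hφ hc in
theorem over90 (s q : ℕ) (hs : s < 48) (hq : q < 48) (hp : p90 s q = true) (e : G) (he : Commute e t)
    (h : ∀ b, b < 48 → F s b = true → F q b = true → Commute e (φ (x b))) :
    ∃ a b c d, (a = 1 ∨ a = t) ∧ (b = 1 ∨ b = φ (x s)) ∧ (c = 1 ∨ c = φ (x q)) ∧ (d = 1 ∨ d = φ (x (sm s q))) ∧
      e = a * b * c * d := by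
  obtain ⟨l, a, ha, e1, hl⟩ := overG φ hinj htt hφ hc he (P := fun b => b < 48 ∧ F s b = true ∧ F q b = true)
    (fun b hb => h b hb.1 hb.2.1 hb.2.2)
  obtain ⟨b, c, d, hb, hc', hd, rfl⟩ := rig90 hs hq hp (g := l) fun b h1 h2 h3 => hl b ⟨h1, h2, h3⟩
  refine ⟨a, φ b, φ c, φ d, ha, ?_, ?_, ?_, by rw [e1, map_mul, map_mul]; simp only [mul_assoc]⟩
  · rcases hb with rfl | rfl
    · exact Or.inl (map_one _)
    · exact Or.inr rfl
  · rcases hc' with rfl | rfl
    · exact Or.inl (map_one _)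
    · exact Or.inr rfl
  · rcases hd with rfl | rfl
    · exact Or.inl (map_one _)
    · exact Or.inr rfl

include hinj htt hφ hc in
theorem over120 (s q : ℕ) (hs : s < 48) (hq : q < 48) (hp : p120 s q = true) (e : G) (he : Commute e t)
    (h : ∀ b, b < 48 → F s b = true → F q b = true → Commute e (φ (x b))) :
    ∃ a b c d, (a = 1 ∨ a = t) ∧ (b = 1 ∨ b = φ (x s)) ∧ (c = 1 ∨ c = φ (x q)) ∧ (d = 1 ∨ d = φ (x (sm s q))) ∧
      e = a * b * c * d := by
  obtain ⟨l, a, ha, e1, hl⟩ := overG φ hinj htt hφ hc he (P := fun b => b < 48 ∧ F s b = true ∧ F q b = true)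
    (fun b hb => h b hb.1 hb.2.1 hb.2.2)
  obtain ⟨b, c, d, hb, hc', hd, rfl⟩ := rig120 hs hq hp (g := l) fun b h1 h2 h3 => hl b ⟨h1, h2, h3⟩
  refine ⟨a, φ b, φ c, φ d, ha, ?_, ?_, ?_, by rw [e1, map_mul, map_mul]; simp only [mul_assoc]⟩
  · rcases hb with rfl | rfl
    · exact Or.inl (map_one _)
    · exact Or.inr rfl
  · rcases hc' with rfl | rfl
    · exact Or.inl (map_one _)
    · exact Or.inr rfl
  · rcases hd with rfl | rfl
    · exact Or.inl (map_one _)
    · exact Or.inr rfl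

end Over

end Cfsg.Agent.FourTwo.PairRig
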