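import Cfsg.Agent.FourTwo.Base
import Cfsg.Agent.ChevalleyStructure.TwF4.WeylDih
import Cfsg.Agent.S1035
import Cfsg.Agent.S1042
import Cfsg.Agent.S1100
import Cfsg.Agent.S0310
import Cfsg.Agent.S0311

/-!
The Bruhat decomposition of `F₄(2)`, concretely:

* `U`, `N`: the positive unipotent subgroup, the monomial subgroup (the Weyl group, as `H = 1`);
* `exists_nf`, `nf_unique`: normal forms of the elements of `U`;
* `exists_perm`: `w ∈ N` permutes the 48 root elements, `eq_one_of_fix`: faithfulness, relative to a list of roots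
  separating all roots;
* `bruhat`: `g = u w v`;
* `chain`: an element centralising a chain of positive root elements;
* `cent_short`, `cent_long`: the centralisers of `x 44` and of `x 47`.
-/

set_option autoImplicit false

namespace Cfsg.Agent.FourTwo.BN

open Cfsg.Lie Cfsg.Agent.ChevalleyStructure.TwF4.Rel Cfsg.Agent.ChevalleyStructure.TwF4.Tables
open Cfsg.Agent.ChevalleyStructure.TwF4.NStruct Cfsg.Agent.ChevalleyStructure.TwF4.NRoot
open Cfsg.Agent.ChevalleyStructure.TwF4.WeylDih Cfsg.Agent.ChevalleyStructure.TwF4.Torus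
open Cfsg.Agent.ChevalleyStructure.F4TwU Cfsg.Agent.ChevalleyStructure.F4NTab
open Cfsg.Agent.FourTwo.Base hiding bar bar_lt

/-! ### the subgroups -/

/-- the positive unipotent subgroup -/
def U : Subgroup LL := (chevF4.posUnipotent (ZMod 2)).subgroupOf (chevF4.group (ZMod 2))

/-- the negative unipotent subgroup -/
def V : Subgroup LL := (chevF4.negUnipotent (ZMod 2)).subgroupOf (chevF4.group (ZMod 2))

/-- the monomial subgroup -/
def N : Subgroup LL := (chevF4.monomialSubgroup (ZMod 2)).subgroupOf (chevF4.group (ZMod 2))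

theorem mem_U {g : LL} : g ∈ U ↔ (g : GL chevF4.Idx (ZMod 2)) ∈ chevF4.posUnipotent (ZMod 2) := Subgroup.mem_subgroupOf

theorem mem_V {g : LL} : g ∈ V ↔ (g : GL chevF4.Idx (ZMod 2)) ∈ chevF4.negUnipotent (ZMod 2) := Subgroup.mem_subgroupOf

theorem mem_N {g : LL} : g ∈ N ↔ (g : GL chevF4.Idx (ZMod 2)) ∈ chevF4.monomialSubgroup (ZMod 2) :=
  Subgroup.mem_subgroupOf

theorem x_mem_U {r : ℕ} (h : 24 ≤ r) (h' : r < 48) : x r ∈ U := mem_U.2 (X_mem_pos ⟨h, h'⟩ 1)

theorem x_mem_V {r : ℕ} (h : r < 24) : x r ∈ V := mem_V.2 (X_mem_neg h 1)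

theorem n_mem_N {i : ℕ} (hi : i < 4) : n i ∈ N := mem_N.2 (Wm_le_N (nG_mem_Wm (sp_lt hi)))

/-! ### normal forms -/

theorem wrd_eq_wd (l : List ℕ) (t : ℕ → ZMod 2) :
    wrd l t = ((wd (l.filter fun r => decide (t r = 1)) : LL) : GL chevF4.Idx (ZMod 2)) := by
  induction l with
  | nil => rfl
  | cons r l ih =>
    rw [wrd_cons, ih]
    rcases zmod_cases (t r) with h | h
    · rw [h, X_zero, one_mul, List.filter_cons_of_neg (by simp [h])]
    · rw [h, List.filter_cons_of_pos (by simp [h]), wd_cons]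
      rfl

/-- Every element of `U` is an increasing product of root elements. -/
theorem exists_nf {u : LL} (hu : u ∈ U) : ∃ S : ℕ → Bool, u = wd ((posList 24).filter S) := by
  obtain ⟨t, ht⟩ := exists_word (mem_U.1 hu)
  exact ⟨fun r => decide (t r = 1), Subtype.ext (by rw [ht, wrd_eq_wd])⟩

theorem wd_filter_eq (l : List ℕ) (S : ℕ → Bool) :
    ((wd (l.filter S) : LL) : GL chevF4.Idx (ZMod 2)) = wrd l (fun r => if S r then 1 else 0) := by
  rw [wrd_eq_wd]
  congr 2
  apply List.filter_congr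
  intro r _
  cases S r <;> simp

/-- uniqueness of the normal form, relative to an increasing list of positive roots -/
theorem nf_unique {l : List ℕ} (hl : ∀ r ∈ l, 24 ≤ r ∧ r < 48) (hs : l.Pairwise (· < ·)) {S S' : ℕ → Bool}
    (h : wd (l.filter S) = wd (l.filter S')) : ∀ r ∈ l, S r = S' r := by
  have h1 : wrd l (fun r => if S r then (1 : ZMod 2) else 0) = wrd l (fun r => if S' r then 1 else 0) := by
    rw [← wd_filter_eq, ← wd_filter_eq, h]
  intro r hr
  have h2 := word_unique _ _ l hl hs h1 r hr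
  cases h3 : S r <;> cases h4 : S' r <;> simp [h3, h4] at h2 ⊢

/-- uniqueness of the normal form in `U` -/
theorem nf_unique' {S S' : ℕ → Bool} (h : wd ((posList 24).filter S) = wd ((posList 24).filter S')) :
    ∀ r, 24 ≤ r → r < 48 → S r = S' r := fun r hr hr' =>
  nf_unique (fun _ h => mem_posList.1 h) (pairwise_posList 24) h r (mem_posList.2 ⟨hr, hr'⟩)

theorem wd_mem {H : Subgroup LL} {w : List ℕ} (h : ∀ r ∈ w, x r ∈ H) : wd w ∈ H := by
  induction w with
  | nil => exact one_mem _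
  | cons r w ih =>
    rw [wd_cons]
    exact mul_mem (h r List.mem_cons_self) (ih fun s hs => h s (List.mem_cons_of_mem _ hs))

theorem wd_mem_U {w : List ℕ} (h : ∀ r ∈ w, 24 ≤ r ∧ r < 48) : wd w ∈ U :=
  wd_mem fun r hr => x_mem_U (h r hr).1 (h r hr).2

theorem U_eq_closure : U = Subgroup.closure {g : LL | ∃ r, 24 ≤ r ∧ r < 48 ∧ g = x r} := by
  apply le_antisymm
  · intro u hu
    obtain ⟨S, rfl⟩ := exists_nf hu
    refine wd_mem fun r hr => Subgroup.subset_closure ⟨r, ?_, ?_, rfl⟩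
    · exact (mem_posList.1 (List.mem_filter.1 hr).1).1
    · exact (mem_posList.1 (List.mem_filter.1 hr).1).2
  · rw [Subgroup.closure_le]
    rintro _ ⟨r, h, h', rfl⟩
    exact x_mem_U h h'

theorem U_inf_V : U ⊓ V = ⊥ := by
  rw [eq_bot_iff]
  rintro g ⟨h1, h2⟩
  have h := (Cfsg.Agent.S1037.result (F := ZMod 2) chevF4 inListF4).1
  have h3 : (g : GL chevF4.Idx (ZMod 2)) ∈ chevF4.borelSubgroup (ZMod 2) ⊓ chevF4.negUnipotent (ZMod 2) :=
    ⟨Subgroup.mem_sup_left (mem_U.1 h1), mem_V.1 h2⟩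
  rw [h, Subgroup.mem_bot] at h3
  exact Subgroup.mem_bot.2 (Subtype.ext h3)

/-- a root element in `U` is positive -/
theorem pos_of_mem_U {r : ℕ} (hr : r < 48) (h : x r ∈ U) : 24 ≤ r := by
  by_contra h'
  have h1 : x r ∈ U ⊓ V := ⟨h, x_mem_V (by omega)⟩
  rw [U_inf_V, Subgroup.mem_bot] at h1
  -- the opposite root element is a conjugate
  have h2 : n 0 ≠ 1 ∨ True := Or.inr trivial
  have h3 : (wd [47 - r] : LL) ≠ 1 := by
    intro h4
    have h5 : wd ((posList 24).filter fun s => decide (s = 47 - r)) = wd ((posList 24).filter fun _ => false) := by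
      have e : (posList 24).filter (fun s => decide (s = 47 - r)) = [47 - r] := by
        have : ∀ q < 24, (posList 24).filter (fun s => decide (s = 47 - q)) = [47 - q] := by decide
        exact this r (by omega)
      rw [e, h4, List.filter_false]
      rfl
    have h6 := nf_unique' h5 (47 - r) (by omega) (by omega)
    simp at h6
  apply h3
  rw [wd_one]
  -- `x r = 1` forces `x (-r) = 1`: the Weyl reflection
  have h4 : ∃ w : LL, w * x r * w⁻¹ = x (47 - r) := by
    have hw : nG (ZMod 2) (47 - r) ∈ chevF4.group (ZMod 2) := mul_mem (mul_mem (X_mem _) (X_mem _)) (X_mem _)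
    refine ⟨⟨nG (ZMod 2) (47 - r), hw⟩, ?_⟩
    have h5 := mono_mul_X (K := ZMod 2) (nG_mem_Wm (show 47 - r < 48 by omega)) (mono_nG (by omega)) (⟨r, hr⟩ : R) 1
    have h6 : (reflP (47 - r) (by omega) (⟨r, hr⟩ : R)).val = 47 - r := by
      rw [reflP_val]
      have : ((List.range 48).all fun r => wt (47 - r) r == 47 - r) = true := by decide +kernel
      simpa using all_of this hr
    rw [h6] at h5
    apply Subtype.ext
    show nG (ZMod 2) (47 - r) * X r 1 * (nG (ZMod 2) (47 - r))⁻¹ = X (47 - r) 1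
    rw [h5, mul_inv_cancel_right]
  obtain ⟨w, hw⟩ := h4
  rw [← hw, h1, mul_one, mul_inv_cancel]

theorem x_ne_one {r : ℕ} (hr : r < 48) : x r ≠ 1 := by
  intro h
  by_cases hr' : 24 ≤ r
  · have h5 : wd ((posList 24).filter fun s => decide (s = r)) = wd ((posList 24).filter fun _ => false) := by
      have e : (posList 24).filter (fun s => decide (s = r)) = [r] := by
        have : ∀ q < 24, (posList 24).filter (fun s => decide (s = q + 24)) = [q + 24] := by decide
        have := this (r - 24) (by omega)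
        rwa [Nat.sub_add_cancel hr'] at this
      rw [e, wd_one, h, List.filter_false]
      rfl
    have h6 := nf_unique' h5 r hr' hr
    simp at h6
  · exact hr' (pos_of_mem_U hr (h ▸ one_mem _))

/-! ### the Weyl group -/

theorem T_eq_one (c : Fin 4 → (ZMod 2)ˣ) : T c = (1 : GL chevF4.Idx (ZMod 2)) := by
  have : c = 1 := funext fun i => Subsingleton.elim _ _
  rw [this, map_one]

theorem diag_eq_bot : chevF4.diagonalSubgroup (ZMod 2) = ⊥ := by
  rw [diagonal_eq_range, eq_bot_iff]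
  rintro _ ⟨c, rfl⟩
  exact Subgroup.mem_bot.2 (T_eq_one c)

theorem borel_eq : chevF4.borelSubgroup (ZMod 2) = chevF4.posUnipotent (ZMod 2) := by
  unfold ChevalleyDatum.borelSubgroup
  rw [diag_eq_bot, sup_bot_eq]

theorem mem_Wm {w : LL} (hw : w ∈ N) : (w : GL chevF4.Idx (ZMod 2)) ∈ Wm (ZMod 2) := by
  obtain ⟨w', hw', c, hc⟩ := (mem_N_iff _).1 (mem_N.1 hw)
  rw [hc, T_eq_one, mul_one]
  exact hw'

/-- The elements of `N` permute the root elements. -/
theorem exists_perm {w : LL} (hw : w ∈ N) : ∃ σ : Equiv.Perm R, Mono (w : GL chevF4.Idx (ZMod 2)) σ ∧ σ ∈ carSub ∧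
    ∀ r : R, w * x r.val * w⁻¹ = x (σ r).val := by
  obtain ⟨σ, hσ, h⟩ := exists_mono_conj (mem_Wm hw)
  refine ⟨σ, hσ, hσ.car, fun r => ?_⟩
  have h1 : w * x r.val = x (σ r).val * w := Subtype.ext (h r 1)
  rw [h1, mul_inv_cancel_right]

/-- the roots in the list separate the roots -/
def sepB (l : List ℕ) : Bool := (List.range 48).all fun r => (List.range 48).all fun s =>
  r == s || !(l.all fun p => ct p r == ct p s)

theorem perm_eq_one {σ : Equiv.Perm R} (hσ : σ ∈ carSub) {l : List ℕ} (hl : ∀ p ∈ l, p < 48) (hs : sepB l = true)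
    (h : ∀ p ∈ l, ∀ hp : p < 48, (σ (⟨p, hp⟩ : R)).val = p) : σ = 1 := by
  ext s
  have h1 := all_of (all_of hs (σ s).2) s.2
  rw [Bool.or_eq_true] at h1
  rcases h1 with h1 | h1
  · simpa using h1
  · exfalso
    rw [Bool.not_eq_true', ← Bool.not_eq_true, List.all_eq_true] at h1
    apply h1
    intro p hp
    have h2 := hσ (⟨p, hl p hp⟩ : R) s
    rw [h p hp (hl p hp)] at h2
    simpa using h2

/-- words in the `n i` -/
def nw (w : List ℕ) : LL := (w.map n).prod

/-- their action on the roots -/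
def act (w : List ℕ) (r : ℕ) : ℕ := w.foldr refl r

theorem nw_mem_N {w : List ℕ} (hw : ∀ i ∈ w, i < 4) : nw w ∈ N := by
  induction w with
  | nil => exact one_mem _
  | cons i w ih =>
    have : nw (i :: w) = n i * nw w := by simp [nw]
    rw [this]
    exact mul_mem (n_mem_N (hw i List.mem_cons_self)) (ih fun j hj => hw j (List.mem_cons_of_mem _ hj))

theorem nw_conj_aux {w : List ℕ} (hw : ∀ i ∈ w, i < 4) {r : ℕ} (hr : r < 48) :
    act w r < 48 ∧ nw w * x r * (nw w)⁻¹ = x (act w r) := by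
  induction w with
  | nil => exact ⟨hr, by simp [nw, act]⟩
  | cons i w ih =>
    obtain ⟨h1, h2⟩ := ih fun j hj => hw j (List.mem_cons_of_mem _ hj)
    have hi := hw i List.mem_cons_self
    have e : nw (i :: w) = n i * nw w := by simp [nw]
    refine ⟨refl_lt i _ hi h1, ?_⟩
    have e2 : act (i :: w) r = refl i (act w r) := rfl
    rw [e, e2, ← n_conj hi h1, ← h2]
    group

theorem act_lt {w : List ℕ} (hw : ∀ i ∈ w, i < 4) {r : ℕ} (hr : r < 48) : act w r < 48 := (nw_conj_aux hw hr).1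

theorem nw_conj {w : List ℕ} (hw : ∀ i ∈ w, i < 4) {r : ℕ} (hr : r < 48) :
    nw w * x r * (nw w)⁻¹ = x (act w r) := (nw_conj_aux hw hr).2

/-- a word for the longest element -/
def w0L : List ℕ := [0, 1, 2, 3, 0, 1, 2, 3, 0, 1, 2, 3, 0, 1, 2, 3, 0, 1, 2, 3, 0, 1, 2, 3]

theorem w0L_lt : ∀ i ∈ w0L, i < 4 := by decide

theorem act_w0 : ∀ r < 48, act w0L r = 47 - r := by decide +kernel

/-- the longest element `w₀ = -1` -/
def w0 : LL := nw w0L

theorem w0_mem : w0 ∈ N := nw_mem_N w0L_lt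

theorem w0_conj {r : ℕ} (hr : r < 48) : w0 * x r * w0⁻¹ = x (47 - r) := by
  rw [← act_w0 r hr]
  exact nw_conj w0L_lt hr

theorem x_inj_pos {r s : ℕ} (hr : 24 ≤ r) (hr' : r < 48) (hs : 24 ≤ s) (hs' : s < 48) (h : x r = x s) : r = s := by
  have e : ∀ r, 24 ≤ r → r < 48 → (posList 24).filter (fun s => decide (s = r)) = [r] := by
    intro r hr hr'
    have : ∀ q < 24, (posList 24).filter (fun s => decide (s = q + 24)) = [q + 24] := by decide
    have := this (r - 24) (by omega)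
    rwa [Nat.sub_add_cancel hr] at this
  have h5 : wd ((posList 24).filter fun q => decide (q = r)) = wd ((posList 24).filter fun q => decide (q = s)) := by
    rw [e r hr hr', e s hs hs', wd_one, wd_one, h]
  have h6 := nf_unique' h5 r hr hr'
  simpa using h6

/-- the 48 root elements are distinct -/
theorem x_inj {r s : ℕ} (hr : r < 48) (hs : s < 48) (h : x r = x s) : r = s := by
  by_cases h1 : 24 ≤ r
  · exact x_inj_pos h1 hr (pos_of_mem_U hs (h ▸ x_mem_U h1 hr)) hs h
  · by_cases h2 : 24 ≤ s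
    · exact x_inj_pos (pos_of_mem_U hr (h ▸ x_mem_U h2 hs)) hr h2 hs h
    · have h3 : x (47 - r) = x (47 - s) := by rw [← w0_conj hr, ← w0_conj hs, h]
      have := x_inj_pos (by omega) (by omega) (by omega) (by omega) h3
      omega

theorem eq_one_of_perm {w : LL} (hm : Mono (w : GL chevF4.Idx (ZMod 2)) 1) : w = 1 := Subtype.ext hm.eq_one

/-- An element of `N` fixing a separating list of root elements is trivial. -/
theorem eq_one_of_fix {w : LL} (hw : w ∈ N) {l : List ℕ} (hl : ∀ p ∈ l, p < 48) (hs : sepB l = true)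
    (h : ∀ p ∈ l, w * x p * w⁻¹ = x p) : w = 1 := by
  obtain ⟨σ, hm, hc, hσ⟩ := exists_perm hw
  have h1 : σ = 1 := perm_eq_one hc hl hs fun p hp hp' => by
    have h2 := hσ (⟨p, hp'⟩ : R)
    rw [h p hp] at h2
    exact (x_inj hp' (σ _).2 h2).symm
  rw [h1] at hm
  exact eq_one_of_perm hm

theorem sep_simple : sepB [33, 27, 25, 24] = true := by decide +kernel

/-! ### Bruhat decomposition -/

theorem pos_le_group : chevF4.posUnipotent (ZMod 2) ≤ chevF4.group (ZMod 2) := by
  refine (Subgroup.closure_le _).2 ?_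
  rintro g ⟨r, t, hr, hg⟩
  exact Subgroup.subset_closure ⟨⟨r, (isPos_iff.1 hr).2⟩, t, by
    rw [hg]
    show chevF4.x (ZMod 2) r t = chevF4.xMat (ZMod 2) ⟨r, _⟩ t
    rw [ChevalleyDatum.x, dif_pos (show r < chevF4.nroots from (isPos_iff.1 hr).2)]⟩

/-- The positive root elements carried by `w` to negative ones. -/
def Uw (w : LL) : Subgroup LL := Subgroup.closure {g | ∃ r, 24 ≤ r ∧ r < 48 ∧ w * x r * w⁻¹ ∈ V ∧ g = x r}

theorem Uw_le (w : LL) : Uw w ≤ U := by
  unfold Uw
  rw [Subgroup.closure_le]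
  rintro _ ⟨r, h, h', -, rfl⟩
  exact x_mem_U h h'

/-- the sharp Bruhat decomposition -/
theorem bruhat_sharp (g : LL) : ∃ u ∈ U, ∃ w ∈ N, ∃ v ∈ Uw w, g = u * w * v := by
  obtain ⟨b, hb, m, hm, u, hu, hg⟩ := (Cfsg.Agent.S1100.result (F := ZMod 2) chevF4 inListF4).1 g g.2
  rw [borel_eq] at hb
  have hsub : Subgroup.closure {y : GL chevF4.Idx (ZMod 2) | ∃ (r : ℕ) (t : ZMod 2), chevF4.IsPosRoot r ∧
      (chevF4.rootSubgroup (ZMod 2) r).map (MulAut.conj m).toMonoidHom ≤ chevF4.negUnipotent (ZMod 2) ∧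
        (y : Matrix chevF4.Idx chevF4.Idx (ZMod 2)) = chevF4.x (ZMod 2) r t} ≤ chevF4.group (ZMod 2) := by
    refine le_trans ?_ pos_le_group
    apply Subgroup.closure_mono
    rintro y ⟨r, t, hr, -, hy⟩
    exact ⟨r, t, hr, hy⟩
  have hu' := hsub hu
  have hb' := pos_le_group hb
  have hm' : m ∈ chevF4.group (ZMod 2) := by
    have e : m = b⁻¹ * (g : GL chevF4.Idx (ZMod 2)) * u⁻¹ := by rw [hg]; group
    rw [e]
    exact mul_mem (mul_mem (inv_mem hb') g.2) (inv_mem hu')
  have key : Subgroup.closure {y : GL chevF4.Idx (ZMod 2) | ∃ (r : ℕ) (t : ZMod 2),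
      chevF4.IsPosRoot r ∧ (chevF4.rootSubgroup (ZMod 2) r).map (MulAut.conj m).toMonoidHom ≤
        chevF4.negUnipotent (ZMod 2) ∧ (y : Matrix chevF4.Idx chevF4.Idx (ZMod 2)) = chevF4.x (ZMod 2) r t} ≤
      (Uw ⟨m, hm'⟩).map (chevF4.group (ZMod 2)).subtype := by
    rw [Subgroup.closure_le]
    rintro y ⟨r, t, hr, hn, hy⟩
    have hy' : y = X r t := (eq_X_iff y r t).2 hy
    rcases zmod_cases t with rfl | rfl
    · rw [hy', X_zero]
      exact one_mem _
    · refine ⟨x r, Subgroup.subset_closure ⟨r, (isPos_iff.1 hr).1, (isPos_iff.1 hr).2, ?_, rfl⟩, ?_⟩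
      · rw [mem_V]
        exact hn ⟨X r 1, Subgroup.subset_closure ⟨1, rfl⟩, rfl⟩
      · rw [hy']
        rfl
  obtain ⟨v, hv, hvu⟩ := key hu
  refine ⟨⟨b, hb'⟩, hb, ⟨m, hm'⟩, hm, v, hv, Subtype.ext ?_⟩
  rw [hg, ← hvu]
  rfl

/-- the Bruhat decomposition -/
theorem bruhat (g : LL) : ∃ u ∈ U, ∃ w ∈ N, ∃ v ∈ U, g = u * w * v := by
  obtain ⟨u, hu, w, hw, v, hv, hg⟩ := bruhat_sharp g
  exact ⟨u, hu, w, hw, v, Uw_le w hv, hg⟩

end Cfsg.Agent.FourTwo.BN
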