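import Cfsg.Agent.FourTwo.RankInv
import Cfsg.Agent.FourTwo.BN

/-!
Fact (F4) on `L = F₄(2)`: no short root element is conjugate to an element of the group generated by
the positive long root elements.  Invariant: the rank of `g - 1` on the quotient of the adjoint
module by the short ideal is 6 for short root elements, 10 for long root elements and at least 7
(in fact 10) for every nontrivial product of positive long root elements.
-/

set_option autoImplicit false
set_option linter.unusedSectionVars false

namespace Cfsg.Agent.FourTwo.LongShort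

open Cfsg.Lie Cfsg.Agent.ChevalleyStructure.TwF4.Bits Cfsg.Agent.ChevalleyStructure.TwF4.Tables
  Cfsg.Agent.ChevalleyStructure.TwF4.Rel Cfsg.Agent.ChevalleyStructure.F4TwU
  Cfsg.Agent.FourTwo.RankInv Cfsg.Agent.FourTwo.Base Cfsg.Agent.FourTwo.BN

/-- long roots (indices `< 48`) -/
def isLong (r : ℕ) : Bool := maskJ.testBit (4 + r)

set_option maxRecDepth 100000 in
theorem chk_roots : ((List.range 48).all fun r =>
    Nat.beq (rkM maskJ (wordM [r])) (bif tb maskJ (4 + r) then 10 else 6) &&
    Nat.beq (rkM maskI (wordM [r])) (bif tb maskJ (4 + r) then 6 else 10)) = true := by decide +kernel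

section Field

variable (K : Type*) [Field K] [CharP K 2]

theorem X_mem_pres (r : ℕ) (t : K) : X r t ∈ pres K := by
  constructor
  · exact x_block r t
  · have h : (X r t : GL chevF4.Idx K)⁻¹ = X r t := by
      rw [inv_eq_iff_mul_eq_one, X_mul_self]
    rw [h]
    exact x_block r t

theorem wX_mem_pres (w : List ℕ) : wX K w ∈ pres K := by
  induction w with
  | nil => exact (pres K).one_mem
  | cons r w ih =>
    have h1 : wX K (r :: w) = X r 1 * wX K w := by simp [wX]
    rw [h1]
    exact (pres K).mul_mem (X_mem_pres K r 1) ih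

/-- ranks of root elements -/
theorem r_root {r : ℕ} (hr : r < 48) : rJ (X r (1 : K)) = (if isLong r then 10 else 6) ∧
    rI (X r (1 : K)) = (if isLong r then 6 else 10) := by
  have h := chk_roots
  rw [List.all_eq_true] at h
  have h1 := h r (List.mem_range.2 hr)
  rw [Bool.and_eq_true, Nat.beq_eq, Nat.beq_eq, tb_eq] at h1
  have e : (X r (1 : K)) = wX K [r] := by simp [wX]
  have hw : ∀ a ∈ [r], a < 48 := by simpa using hr
  rw [e, rJ_wX _ hw, rI_wX _ hw, h1.1, h1.2]
  unfold isLong
  cases maskJ.testBit (4 + r) <;> exact ⟨rfl, rfl⟩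

end Field

/-! ### the check of all products of long positive root elements -/

/-- evaluate the argument first -/
@[reducible] def force {α : Type} (n : ℕ) (f : ℕ → α) : α :=
  Nat.rec (f 0) (fun k _ => f (Nat.succ k)) n

theorem force_eq {α : Type} (n : ℕ) (f : ℕ → α) : force n f = f n := by
  cases n <;> rfl

/-- reduce all entries -/
def mapRed (r : ℕ) (l : List ℕ) : List ℕ :=
  List.rec [] (fun x _ ih => force (red r x) fun y => y :: ih) l

theorem mapRed_eq (r : ℕ) (l : List ℕ) : mapRed r l = l.map (red r) := by
  induction l with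
  | nil => rfl
  | cons x l ih =>
    change force (red r x) (fun y => y :: mapRed r l) = _
    rw [force_eq, ih]
    rfl

/-- are there at least `k` pivots? -/
def geR : ℕ → ℕ → List ℕ → Bool
  | 0, _, _ => true
  | _ + 1, 0, _ => false
  | _ + 1, _ + 1, [] => false
  | k + 1, n + 1, r :: l => bif Nat.beq r 0 then geR (k + 1) n l else geR k n (mapRed r l)

theorem geR_spec (k n : ℕ) : ∀ l : List ℕ, geR k n l = true → k ≤ rkF n l := by
  induction n generalizing k with
  | zero =>
    intro l h
    cases k with
    | zero => exact Nat.zero_le _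
    | succ k => exact absurd h (by simp [geR])
  | succ n ih =>
    intro l h
    cases k with
    | zero => exact Nat.zero_le _
    | succ k =>
      cases l with
      | nil => exact absurd h (by simp [geR])
      | cons r l =>
        change (bif Nat.beq r 0 then geR (k + 1) n l else geR k n (mapRed r l)) = true at h
        change k + 1 ≤ bif Nat.beq r 0 then rkF n l else Nat.succ (rkF n (l.map (red r)))
        cases hb : Nat.beq r 0
        · rw [hb] at h
          rw [mapRed_eq] at h
          exact Nat.succ_le_succ (ih k _ h)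
        · rw [hb] at h
          exact ih (k + 1) _ h

/-- masked rows of `M - 1`, evaluated -/
def rowsG (m M : ℕ) (L : List ℕ) : List ℕ :=
  List.rec [] (fun n _ ih => force (Nat.land (rowN (Nat.xor M idN) n) m) fun y => y :: ih) L

theorem rowsG_eq (m M : ℕ) (L : List ℕ) : rowsG m M L = rowsM m M L := by
  induction L with
  | nil => rfl
  | cons n L ih =>
    change force _ (fun y => y :: rowsG m M L) = _
    rw [force_eq, ih]
    rfl

/-- the rows used for the lowest root `r` -/
def rowsFor (r : ℕ) : List ℕ :=
  match r with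
  | 24 => [3, 5, 10, 21, 26, 28, 30]
  | 25 => [2, 6, 9, 20, 27, 29, 30]
  | 26 => [2, 6, 10, 21, 28, 29, 30]
  | 30 => [2, 8, 9, 25, 27, 34, 35]
  | 31 => [2, 8, 10, 26, 28, 34, 35]
  | 32 => [3, 9, 10, 29, 30, 34, 35]
  | 41 => [2, 19, 20, 25, 27, 45, 46]
  | 42 => [2, 19, 21, 26, 28, 45, 46]
  | 43 => [3, 20, 21, 29, 30, 45, 46]
  | 45 => [3, 25, 26, 34, 35, 45, 46]
  | 46 => [2, 27, 29, 34, 36, 45, 47]
  | 47 => [2, 28, 30, 35, 36, 46, 47]
  | _ => []

/-- check of one element with lowest root `r` -/
def chkR (r M : ℕ) : Bool := geR 7 7 (rowsG maskJ M (rowsFor r))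

/-- check of all products of the roots in the list (in decreasing order) times `M` -/
def T (l : List ℕ) : ℕ → Bool :=
  List.rec (motive := fun _ => ℕ → Bool) (fun _ => true)
    (fun r _ ih M => ih M && force (stepM r M) fun M' => chkR r M' && ih M') l

theorem T_cons (r : ℕ) (l : List ℕ) (M : ℕ) :
    T (r :: l) M = (T l M && (chkR r (stepM r M) && T l (stepM r M))) := by
  change (T l M && force (stepM r M) fun M' => chkR r M' && T l M') = _
  rw [force_eq]

/-- long positive roots below 47, decreasing -/
def LD : List ℕ := [46, 45, 43, 42, 41, 32, 31, 30, 26, 25, 24]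

set_option maxRecDepth 100000 in
theorem T_one : T LD (wordM []) = true := by decide +kernel

set_option maxRecDepth 100000 in
theorem T_two : (chkR 47 (wordM [47]) && T LD (wordM [47])) = true := by decide +kernel

/-- the last root of a nonempty word is checked -/
theorem T_spec : ∀ (l : List ℕ) (v : List ℕ), T l (wordM v) = true → ∀ u : List ℕ, u.Sublist l → u ≠ [] →
    ∃ r ∈ u, chkR r (wordM (u.reverse ++ v)) = true
  | [], v, _, u, hu, hne => absurd (List.sublist_nil.1 hu) hne
  | r :: l, v, h, u, hu, hne => by
    rw [T_cons, Bool.and_eq_true, Bool.and_eq_true] at h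
    cases hu with
    | cons _ hu => exact T_spec l v h.1 u hu hne
    | cons_cons _ hu =>
      rename_i u'
      by_cases h0 : u' = []
      · subst h0
        exact ⟨r, List.mem_cons_self, h.2.1⟩
      · obtain ⟨s, hs, hs'⟩ := T_spec l (r :: v) h.2.2 u' hu h0
        refine ⟨s, List.mem_cons_of_mem _ hs, ?_⟩
        rw [List.reverse_cons, List.append_assoc]
        exact hs'

theorem rowsFor_ok : ((47 :: LD).all fun r => (rowsFor r).all fun n => Nat.blt n 52 && maskJ.testBit n) = true ∧
    ((47 :: LD).all fun r => Nat.beq (rowsFor r).length 7) = true := by decide +kernel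

theorem chkR_spec {K : Type*} [Field K] [CharP K 2] {r : ℕ} (hr : r ∈ 47 :: LD) {w : List ℕ}
    (hw : ∀ a ∈ w, a < 48) (h : chkR r (wordM w) = true) : 7 ≤ rJ (wX K w) := by
  unfold chkR at h
  rw [rowsG_eq] at h
  have h1 := geR_spec _ _ _ h
  have h2 := rowsFor_ok
  rw [List.all_eq_true, List.all_eq_true] at h2
  have h3 := h2.1 r hr
  have h4 := h2.2 r hr
  rw [List.all_eq_true] at h3
  rw [Nat.beq_eq] at h4
  have h5 := rank_blk_ge (K := K) maskJ (wordM w) (rowsFor r) (by
    intro n hn
    have := h3 n hn
    rw [Bool.and_eq_true] at this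
    exact ⟨by simpa [Nat.blt_eq] using this.1, this.2⟩)
  rw [h4] at h5
  unfold rJ
  rw [coe_wX, ← sem_wordM w hw]
  exact h1.trans h5

theorem LD_lt : ∀ a ∈ 47 :: LD, a < 48 := by decide

/-- **rank of products of long positive root elements** -/
theorem seven_le_rJ {K : Type*} [Field K] [CharP K 2] {u : List ℕ} (hu : u.Sublist (47 :: LD)) (hne : u ≠ []) :
    7 ≤ rJ (wX K u.reverse) := by
  have hlt : ∀ a ∈ u.reverse, a < 48 := fun a ha => LD_lt a (hu.subset (List.mem_reverse.1 ha))
  cases hu with
  | cons _ hu =>
    obtain ⟨r, hr, h⟩ := T_spec LD [] T_one u hu hne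
    rw [List.append_nil] at h
    exact chkR_spec (List.mem_cons_of_mem _ (hu.subset hr)) hlt h
  | cons_cons _ hu =>
    rename_i u'
    have h2 := T_two
    rw [Bool.and_eq_true] at h2
    by_cases h0 : u' = []
    · subst h0
      exact chkR_spec List.mem_cons_self hlt h2.1
    · obtain ⟨r, hr, h⟩ := T_spec LD [47] h2.2 u' hu h0
      rw [List.reverse_cons]
      rw [List.reverse_cons] at hlt
      exact chkR_spec (List.mem_cons_of_mem _ (hu.subset hr)) hlt h

/-! ### in the group `LL` -/

theorem coe_wd' (w : List ℕ) : ((wd w : LL) : GL chevF4.Idx (ZMod 2)) = wX (ZMod 2) w := by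
  induction w with
  | nil => rfl
  | cons r w ih =>
    have h1 : wX (ZMod 2) (r :: w) = X r 1 * wX (ZMod 2) w := by simp [wX]
    rw [wd_cons, h1, ← ih]
    rfl

theorem long_filter (S : ℕ → Bool) (hS : ∀ r, S r = true → isLong r = true) :
    (((posList 24).filter S).reverse).Sublist (47 :: LD) := by
  have h1 : (posList 24).filter S = ((posList 24).filter isLong).filter S := by
    rw [List.filter_filter]
    apply List.filter_congr
    intro r _
    cases h : S r
    · simp
    · simp [hS r h]
  have h2 : (posList 24).filter isLong = (47 :: LD).reverse := by decide +kernel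
  rw [h1, h2, ← List.filter_reverse, List.reverse_reverse]
  exact List.filter_sublist

/-- **(F4)** no short root element is conjugate to a product of positive long root elements -/
theorem short_not_long {s : ℕ} (hs : s < 48) (hs' : isLong s = false) (g : LL) {S : ℕ → Bool}
    (hS : ∀ r, S r = true → isLong r = true) : g * x s * g⁻¹ ≠ wd ((posList 24).filter S) := by
  intro h
  have hx : x s ≠ 1 := x_ne_one hs
  have h1 : rJ ((g : GL chevF4.Idx (ZMod 2)) * X s 1 * (g : GL chevF4.Idx (ZMod 2))⁻¹) = rJ (X s (1 : ZMod 2)) :=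
    rJ_conj (group_le_pres g.2) (X_mem_pres _ s 1)
  have h2 : ((g : GL chevF4.Idx (ZMod 2)) * X s 1 * (g : GL chevF4.Idx (ZMod 2))⁻¹) =
      wX (ZMod 2) ((posList 24).filter S) := by
    rw [← coe_wd', ← h]
    rfl
  have hne : ((posList 24).filter S).reverse ≠ [] := by
    intro h0
    rw [List.reverse_eq_nil_iff] at h0
    rw [h0, wd_nil] at h
    apply hx
    have : x s = g⁻¹ * (g * x s * g⁻¹) * g := by group
    rw [this, h]
    group
  have h3 := seven_le_rJ (K := ZMod 2) (long_filter S hS) hne
  rw [List.reverse_reverse, ← h2, h1, (r_root (ZMod 2) hs).1, hs'] at h3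
  simp at h3

end Cfsg.Agent.FourTwo.LongShort
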