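import Cfsg.Agent.FourTwo.Par

/-!
Centralisers in `F₄(2)`:

* `card_RG`: the order of the subgroup of a closed set of positive roots;
* `chain`, `mem_U_of_chain`: elements centralising a chain of positive root elements;
* `parabolic_eq`: the subgroups containing `U`;
* `cent_short`, `cent_long`: the centralisers of `x 44` and of `x 47` are `Ps`, `Pl`.
-/

set_option autoImplicit false

namespace Cfsg.Agent.FourTwo.Cent

open Cfsg.Lie Cfsg.Agent.ChevalleyStructure.TwF4.Rel Cfsg.Agent.ChevalleyStructure.TwF4.Tables
open Cfsg.Agent.ChevalleyStructure.TwF4.Torus (all_of)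
open Cfsg.Agent.ChevalleyStructure.TwF4.NStruct (R)
open Cfsg.Agent.ChevalleyStructure.F4TwU
open Cfsg.Agent.FourTwo.Base hiding bar bar_lt
open Cfsg.Agent.FourTwo.Comm Cfsg.Agent.FourTwo.BN Cfsg.Agent.FourTwo.Par

/-! ### orders -/

theorem nodup_posList : (posList 24).Nodup := (pairwise_posList 24).imp (fun h => Nat.ne_of_lt h)

/-- the roots in `P` -/
abbrev PL (P : ℕ → Bool) : Type := {r : ℕ // r ∈ (posList 24).filter P}

/-- extension by zero -/
def ext0 {P : ℕ → Bool} (f : PL P → Bool) (r : ℕ) : Bool :=
  if h : r ∈ (posList 24).filter P then f ⟨r, h⟩ else false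

theorem ext0_imp {P : ℕ → Bool} {f : PL P → Bool} {r : ℕ} (h : ext0 f r = true) : P r = true := by
  unfold ext0 at h
  split_ifs at h with h1
  exact (List.mem_filter.1 h1).2

theorem card_RG {P : ℕ → Bool} (h : closedB P = true) :
    Nat.card (RG P) = 2 ^ ((posList 24).filter P).length := by
  classical
  let f : (PL P → Bool) → RG P := fun S => ⟨wd ((posList 24).filter (ext0 S)), (mem_RG_iff h _).2
    fun r _ _ hr => ext0_imp hr⟩
  have hf : Function.Bijective f := by
    constructor
    · intro S S' hS
      have h1 : wd ((posList 24).filter (ext0 S)) = wd ((posList 24).filter (ext0 S')) := congrArg Subtype.val hS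
      funext ⟨r, hr⟩
      have h2 := mem_posList.1 (List.mem_filter.1 hr).1
      have h3 := nf_unique' h1 r h2.1 h2.2
      unfold ext0 at h3
      rwa [dif_pos hr, dif_pos hr] at h3
    · rintro ⟨g, hg⟩
      obtain ⟨S, rfl⟩ := nf_RG h hg
      refine ⟨fun r => S r.1, Subtype.ext ?_⟩
      show wd _ = wd _
      congr 1
      apply List.filter_congr
      intro r hr
      unfold ext0
      by_cases hp : P r = true
      · rw [dif_pos (List.mem_filter.2 ⟨hr, hp⟩)]
        simp [hp]
      · rw [dif_neg (fun h => hp (List.mem_filter.1 h).2)]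
        simp [hp]
  rw [← Nat.card_congr (Equiv.ofBijective f hf)]
  have hfin : Fintype (PL P) := Fintype.subtype ((posList 24).filter P).toFinset (by intro r; simp)
  have hc : Fintype.card (PL P) = ((posList 24).filter P).length := by
    rw [← List.toFinset_card_of_nodup (nodup_posList.filter P)]
    exact Fintype.card_of_subtype _ (by intro r; simp)
  rw [Nat.card_eq_fintype_card, Fintype.card_fun, Fintype.card_bool, hc]

/-! ### chains -/

/-- the positive roots -/
def posP (r : ℕ) : Bool := decide (24 ≤ r)

theorem U_eq : U = RG posP := U_eq_RG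

/-- all commutators of a positive root element with `x a` lie in `RG l.contains` -/
def cenB (l : List ℕ) (a : ℕ) : Bool :=
  (List.range 48).all fun r => !posP r || r == a || cmAll l.contains r a

/-- a chain of positive roots (highest term last) -/
def chainB : List ℕ → Bool
  | [] => true
  | a :: l => chainB l && (normB posP l.contains && (cenB l a && (decide (24 ≤ a) && (decide (a < 48) &&
      (!l.contains a && closedB l.contains)))))

theorem conj_cen {l : List ℕ} (hN : normB posP l.contains = true) {a : ℕ} (ha : 24 ≤ a) (ha' : a < 48)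
    (hc : cenB l a = true) {u : LL} (hu : u ∈ U) : ∃ z ∈ RG l.contains, u * x a = x a * z * u := by
  rw [U_eq] at hu
  have step : ∀ r < 48, posP r = true → ∀ y ∈ RG posP, (∃ z ∈ RG l.contains, y * x a = x a * z * y) →
      ∃ z ∈ RG l.contains, (x r * y) * x a = x a * z * (x r * y) := by
    rintro r hr hp y - ⟨z, hz, e⟩
    have h1 : ∃ z' ∈ RG l.contains, x r * x a = x a * z' * x r := by
      by_cases e1 : r = a
      · exact ⟨1, one_mem _, by rw [e1, mul_one]⟩
      · have h2 := all_of hc hr
        rw [hp, Bool.not_true, Bool.false_or, Bool.or_eq_true, beq_iff_eq] at h2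
        rcases h2 with h2 | h2
        · exact absurd h2 e1
        · have hp' : 24 ≤ r := by simpa [posP] using hp
          refine ⟨wd (cmg r a), wd_mem_RG fun p hp => ?_, comm_all hr ha' e1 (by omega)⟩
          unfold cmAll at h2
          rw [List.all_eq_true] at h2
          exact ⟨(cmg_gt hp' hr ha ha' p hp).2.2, h2 p hp⟩
    obtain ⟨z', hz', e'⟩ := h1
    refine ⟨z' * (x r * z * (x r)⁻¹), mul_mem hz' (conj_mem hN (x_mem_RG hr hp) hz), ?_⟩
    rw [mul_assoc, e, ← mul_assoc, ← mul_assoc, e']
    group
  unfold RG at hu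
  refine Subgroup.closure_induction_left (p := fun (u : LL) _ => ∃ z ∈ RG l.contains, u * x a = x a * z * u)
    ?_ ?_ ?_ hu
  · exact ⟨1, one_mem _, by rw [one_mul, mul_one, mul_one]⟩
  · rintro _ ⟨r, hr, hp, rfl⟩ y hy ih
    exact step r hr hp y hy ih
  · rintro _ ⟨r, hr, hp, rfl⟩ y hy ih
    rw [Base.x_inv]
    exact step r hr hp y hy ih

theorem chain : ∀ {l : List ℕ}, chainB l = true → ∀ {g u w v : LL}, u ∈ U → w ∈ N → v ∈ U → g = u * w * v →
    (∀ a ∈ l, g * x a = x a * g) → ∀ a ∈ l, w * x a * w⁻¹ = x a
  | [], _, _, _, _, _, _, _, _, _, _ => fun a ha => absurd ha List.not_mem_nil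
  | a :: l, h, g, u, w, v, hu, hw, hv, hg, hcom => by
    unfold chainB at h
    simp only [Bool.and_eq_true, decide_eq_true_eq, Bool.not_eq_true'] at h
    obtain ⟨h1, hN, hc, ha, ha', hal, hcl⟩ := h
    have ih := chain h1 hu hw hv hg fun b hb => hcom b (List.mem_cons_of_mem _ hb)
    have hZ : ∀ z ∈ RG l.contains, w * z = z * w := by
      have : RG l.contains ≤ Subgroup.centralizer {w} := RG_le fun r hr hp => by
        have h2 := ih r (by simpa using hp)
        rw [Subgroup.mem_centralizer_singleton_iff, ← h2]
        nth_rw 2 [h2]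
        rw [← h2]
        group
      intro z hz
      have := this hz
      rw [Subgroup.mem_centralizer_singleton_iff] at this
      exact this.symm
    intro b hb
    rcases List.mem_cons.1 hb with rfl | hb
    · obtain ⟨z, hz, e1⟩ := conj_cen hN ha ha' hc hv
      obtain ⟨z', hz', e2⟩ := conj_cen hN ha ha' hc (inv_mem hu)
      have e3 := hcom b List.mem_cons_self
      have e5 : w * x b * z = x b * z' * w := by
        have e6 : u * w * (x b * z * v) = x b * (u * w * v) := by rw [← e1, ← hg, ← e3, hg]; group
        calc w * x b * z = u⁻¹ * (u * w * (x b * z * v)) * v⁻¹ := by group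
          _ = u⁻¹ * x b * u * w := by rw [e6]; group
          _ = x b * z' * w := by rw [e2]; group
      have e4 : w * x b * w⁻¹ = x b * (z' * z⁻¹) := by
        calc w * x b * w⁻¹ = w * x b * z * (z⁻¹ * w⁻¹) := by group
          _ = x b * z' * (w * z⁻¹ * w⁻¹) := by rw [e5]; group
          _ = x b * z' * (z⁻¹ * w * w⁻¹) := by rw [hZ _ (inv_mem hz)]
          _ = _ := by group
      obtain ⟨σ, -, -, hσ⟩ := exists_perm hw
      have e7 := hσ (⟨b, ha'⟩ : R)
      change w * x b * w⁻¹ = x (σ ⟨b, ha'⟩).val at e7
      generalize hc' : (σ (⟨b, ha'⟩ : R)).val = c at e7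
      have hc48 : c < 48 := hc' ▸ (σ (⟨b, ha'⟩ : R)).2
      rw [e7]
      rw [e7] at e4
      have hzz : z' * z⁻¹ ∈ RG l.contains := mul_mem hz' (inv_mem hz)
      have hZU : RG l.contains ≤ U := RG_le_U hcl
      have hcU : x c ∈ U := e4 ▸ mul_mem (x_mem_U ha ha') (hZU hzz)
      have hc24 := pos_of_mem_U hc48 hcU
      have e8 : x b * x c ∈ RG l.contains := by
        rw [e4, ← mul_assoc, Base.x_mul_self, one_mul]
        exact hzz
      rcases lt_trichotomy b c with hlt | heq | hgt
      · exact absurd (mul_not_mem_RG hcl ha hc48 hlt e8).1 (by rw [hal]; decide)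
      · rw [heq]
      · have e9 : x c * x b ∈ RG l.contains := by
          have := inv_mem e8
          rwa [mul_inv_rev, Base.x_inv, Base.x_inv] at this
        exact absurd (mul_not_mem_RG hcl hc24 ha' hgt e9).2 (by rw [hal]; decide)
    · exact ih b hb

/-- An element centralising a chain which separates the roots lies in `U`. -/
theorem mem_U_of_chain {l : List ℕ} (hl : chainB l = true) (hs : sepB l = true) {g : LL}
    (h : ∀ a ∈ l, g * x a = x a * g) : g ∈ U := by
  have hlt : ∀ {l : List ℕ}, chainB l = true → ∀ p ∈ l, p < 48 := by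
    intro l
    induction l with
    | nil => exact fun _ p hp => absurd hp List.not_mem_nil
    | cons a l ih =>
      intro h p hp
      unfold chainB at h
      simp only [Bool.and_eq_true, decide_eq_true_eq] at h
      rcases List.mem_cons.1 hp with rfl | hp
      · exact h.2.2.2.2.1
      · exact ih h.1 p hp
  obtain ⟨u, hu, w, hw, v, hv, rfl⟩ := bruhat g
  have h1 := chain hl hu hw hv rfl h
  have h2 : w = 1 := eq_one_of_fix hw (hlt hl) hs h1
  rw [h2, mul_one]
  exact mul_mem hu hv

/-! ### the subgroups containing `U` -/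

theorem simple_eq : ∀ i < 4, chevF4.simple i = sp i := by decide

theorem parabolic_eq {H : Subgroup LL} (hU : U ≤ H) :
    H = U ⊔ Subgroup.closure {g | ∃ i < 4, n i ∈ H ∧ g = n i} := by
  obtain ⟨P, hB, -, hS⟩ := Cfsg.Agent.S1042.result (F := ZMod 2) chevF4 inListF4
  have hB' : P.B = U := by rw [hB, borel_eq]; rfl
  obtain ⟨J, hJ, hH⟩ := Cfsg.Agent.S0311.result P H (by rw [hB']; exact hU)
  apply le_antisymm
  · nth_rw 1 [hH]
    unfold Cfsg.BNPair.parabolic
    rw [hB']
    refine sup_le_sup_left (Subgroup.closure_mono ?_) _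
    intro j hj
    have h1 := hJ hj
    rw [hS] at h1
    obtain ⟨i, hi, hji⟩ := h1
    have hi' : i < 4 := hi
    have h2 : j = n i := by
      apply Subtype.ext
      apply Units.ext
      rw [hji, simple_eq i hi', Cfsg.Agent.ChevalleyStructure.TwF4.Torus.nMat_eq
        (Cfsg.Agent.ChevalleyStructure.TwF4.NRoot.sp_lt hi')]
      rfl
    refine ⟨i, hi', ?_, h2⟩
    rw [← h2, hH]
    exact Subgroup.mem_sup_right (Subgroup.subset_closure hj)
  · refine sup_le hU ?_
    rw [Subgroup.closure_le]
    rintro _ ⟨i, -, hi, rfl⟩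
    exact hi

/-! ### the two centralisers -/

/-- the roots `b` with `(b, e₁) ≥ 0` -/
def psP (r : ℕ) : Bool := decide (15 ≤ r)

/-- the roots `b` with `(b, e₁ + e₂) ≥ 0` -/
def plP (r : ℕ) : Bool := decide (24 ≤ r) || [6, 10, 12, 13, 14, 17, 19, 20, 22].contains r

/-- the centraliser of the short root element `x 44` -/
def Ps : Subgroup LL := RG psP

/-- the centraliser of the long root element `x 47` -/
def Pl : Subgroup LL := RG plP

theorem n_mem_RG {P : ℕ → Bool} {i : ℕ} (hi : i < 4) (h1 : P (sp i) = true) (h2 : P (47 - sp i) = true) :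
    n i ∈ RG P := by
  rw [n_eq_wd]
  have := Cfsg.Agent.ChevalleyStructure.TwF4.NRoot.sp_lt hi
  refine wd_mem_RG fun r hr => ?_
  simp only [List.mem_cons, List.not_mem_nil, or_false] at hr
  rcases hr with rfl | rfl | rfl
  · exact ⟨this, h1⟩
  · exact ⟨by omega, h2⟩
  · exact ⟨this, h1⟩

theorem cent_aux {z : ℕ} (hz : z < 48) {P : ℕ → Bool} (hP : posP z = true)
    (h1 : ((List.range 48).all fun r => !posP r || P r) = true)
    (h2 : ((List.range 48).all fun r => !P r || r == z || (r + z != 47 && cmg r z == [])) = true)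
    (h3 : ((List.range 4).all fun i => !(refl i z == z) || (P (sp i) && P (47 - sp i))) = true) :
    Subgroup.centralizer {x z} = RG P := by
  apply le_antisymm
  · have hU : U ≤ Subgroup.centralizer {x z} := by
      rw [U_eq]
      refine RG_le fun r hr hp => ?_
      have h4 := all_of h1 hr
      rw [hp, Bool.not_true, Bool.false_or] at h4
      have h5 := all_of h2 hr
      rw [h4, Bool.not_true, Bool.false_or, Bool.or_eq_true, beq_iff_eq] at h5
      rw [Subgroup.mem_centralizer_singleton_iff]
      rcases h5 with rfl | h5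
      · rfl
      · simp only [Bool.and_eq_true, bne_iff_ne, ne_eq, beq_iff_eq] at h5
        exact comm_one hr hz h5.1 h5.2
    rw [parabolic_eq hU]
    refine sup_le ?_ ?_
    · rw [U_eq]
      refine RG_mono fun r hr hp => ?_
      have h4 := all_of h1 hr
      rwa [hp, Bool.not_true, Bool.false_or] at h4
    · rw [Subgroup.closure_le]
      rintro _ ⟨i, hi, hn, rfl⟩
      rw [Subgroup.mem_centralizer_singleton_iff] at hn
      have h4 := n_mul_x hi hz
      rw [hn] at h4
      have h5 : refl i z = z := (x_inj hz (refl_lt i z hi hz) (mul_right_cancel h4)).symm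
      have h6 := all_of h3 hi
      rw [h5] at h6
      simp only [beq_self_eq_true, Bool.not_true, Bool.false_or, Bool.and_eq_true] at h6
      exact n_mem_RG hi h6.1 h6.2
  · refine RG_le fun r hr hp => ?_
    have h5 := all_of h2 hr
    rw [hp, Bool.not_true, Bool.false_or, Bool.or_eq_true, beq_iff_eq] at h5
    rw [Subgroup.mem_centralizer_singleton_iff]
    rcases h5 with rfl | h5
    · rfl
    · simp only [Bool.and_eq_true, bne_iff_ne, ne_eq, beq_iff_eq] at h5
      exact comm_one hr hz h5.1 h5.2

theorem cent_short : Subgroup.centralizer {x 44} = Ps :=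
  cent_aux (by decide) (by decide) (by decide +kernel) (by decide +kernel) (by decide +kernel)

theorem cent_long : Subgroup.centralizer {x 47} = Pl :=
  cent_aux (by decide) (by decide) (by decide +kernel) (by decide +kernel) (by decide +kernel)

end Cfsg.Agent.FourTwo.Cent
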