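import Cfsg.Agent.FourTwo.UCode
import Cfsg.Agent.S1100
import Cfsg.Agent.S1037
import Cfsg.Agent.S1024
import Cfsg.Agent.ChevalleyStructure.TwF4.NRoot

/-!
# Centralizers in `F₄(2)`: the two base facts

`L = chevF4.group (ZMod 2)`, roots are the indices `< 48`, positive roots `24, …, 47`, `44 = e₁`, `47 = e₁ + e₂`.
* `centW`: an element of `L` commuting with `x₄₁, …, x₄₇` (= `W_s`, `s = 44`) lies in `⟨x₃₃, …, x₄₇⟩` (= `Q_s`);
* `centC`: an element of `L` commuting with `x₃₃, …, x₄₀` lies in `⟨x₄₁, …, x₄₇⟩`.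
`NN j` is the normal subgroup of `U` generated by the `x_{24+i}`, `i ≥ j`; its elements are the `el (h * 2 ^ j)`.
-/

set_option autoImplicit false

namespace Cfsg.Agent.FourTwo.CentW

open Cfsg.Lie Cfsg.Agent.ChevalleyStructure.TwF4.Rel Cfsg.Agent.ChevalleyStructure.TwF4.NStruct
open Cfsg.Agent.ChevalleyStructure.F4NTab
open Cfsg.Agent.FourTwo.UCode (el wel elR bt mulU conjU invU lets cs)

/-- the ambient linear group -/
abbrev GG : Type := GL chevF4.Idx (ZMod 2)

/-- the element with code `e` -/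
abbrev E (e : ℕ) : GG := el (ZMod 2) e

/-- root elements -/
abbrev Y (r : ℕ) : GG := X r (1 : ZMod 2)

theorem Y_eq (j : ℕ) : Y (24 + j) = UCode.x (ZMod 2) j := rfl

theorem Y_mul_self (r : ℕ) : Y r * Y r = 1 := X_mul_self r 1

theorem Y_inv (r : ℕ) : (Y r)⁻¹ = Y r := X_inv r 1

/-! ### Codes -/

theorem el_add (a b j : ℕ) (ha : a < 2 ^ j) (hj : j ≤ 24) : E (a + b * 2 ^ j) = E a * E (b * 2 ^ j) := by
  have hl : ∀ e, E e = elR (ZMod 2) e 0 j * elR (ZMod 2) e j (24 - j) := by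
    intro e
    have h := UCode.elR_add (ZMod 2) e 0 j (24 - j)
    rw [zero_add, show j + (24 - j) = 24 by omega] at h
    exact h
  have h1 : elR (ZMod 2) a j (24 - j) = 1 := UCode.elR_zero _ fun i hi _ =>
    Nat.testBit_lt_two_pow (lt_of_lt_of_le ha (Nat.pow_le_pow_right (by norm_num) hi))
  have h2 : elR (ZMod 2) (b * 2 ^ j) 0 j = 1 := by
    refine UCode.elR_zero _ fun i _ hi => ?_
    rw [Nat.testBit_mul_two_pow]
    have : ¬ j ≤ i := by omega
    simp [this]
  have h3 : elR (ZMod 2) (a + b * 2 ^ j) 0 j = elR (ZMod 2) a 0 j := by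
    refine UCode.elR_congr _ fun i _ hi => ?_
    have e1 : (a + b * 2 ^ j) % 2 ^ j = a := by
      rw [Nat.add_mul_mod_self_right, Nat.mod_eq_of_lt ha]
    have e2 : ((a + b * 2 ^ j) % 2 ^ j).testBit i = (a + b * 2 ^ j).testBit i := by
      rw [Nat.testBit_mod_two_pow]
      have : i < j := by omega
      simp [this]
    rw [← e2, e1]
  have h4 : elR (ZMod 2) (a + b * 2 ^ j) j (24 - j) = elR (ZMod 2) (b * 2 ^ j) j (24 - j) := by
    refine UCode.elR_congr _ fun i hi _ => ?_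
    have e1 : a + b * 2 ^ j = 2 ^ j * b + a := by ring
    rw [e1, Nat.testBit_two_pow_mul_add _ ha, Nat.testBit_mul_two_pow]
    have h5 : ¬ i < j := by omega
    have h6 : j ≤ i := hi
    simp [h5, h6]
  rw [hl (a + b * 2 ^ j), hl a, hl (b * 2 ^ j), h1, h2, h3, h4, mul_one, one_mul]

theorem E_pow (j : ℕ) (hj : j < 24) : E (2 ^ j) = Y (24 + j) := by
  have h := UCode.colW_spec (ZMod 2) [j] (by simpa using hj)
  rw [UCode.wel_singleton] at h
  rw [Y_eq, ← h]
  have h1 : ((List.range 24).all fun j => decide (UCode.colW [j] = 2 ^ j)) = true := by decide +kernel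
  rw [List.all_eq_true] at h1
  rw [of_decide_eq_true (h1 j (List.mem_range.2 hj))]

theorem eq_mod_of_E {a b : ℕ} (h : E a = E b) : a % 2 ^ 24 = b % 2 ^ 24 := by
  refine Nat.eq_of_testBit_eq fun j => ?_
  rw [Nat.testBit_mod_two_pow, Nat.testBit_mod_two_pow]
  by_cases hj : j < 24
  · rw [UCode.testBit_of_el (ZMod 2) h hj]
  · simp [hj]

/-! ### The normal series `NN j` of `U` -/

/-- the subgroup generated by the `x_{24+i}`, `j ≤ i < 24` -/
def NN (j : ℕ) : Subgroup GG := Subgroup.closure {g | ∃ i, j ≤ i ∧ i < 24 ∧ g = Y (24 + i)}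

theorem Y_mem_NN {j i : ℕ} (h1 : j ≤ i) (h2 : i < 24) : Y (24 + i) ∈ NN j := Subgroup.subset_closure ⟨i, h1, h2, rfl⟩

theorem NN_anti {i j : ℕ} (h : i ≤ j) : NN j ≤ NN i := by
  unfold NN
  apply Subgroup.closure_mono
  rintro g ⟨k, hk, hk', rfl⟩
  exact ⟨k, le_trans h hk, hk', rfl⟩

theorem wel_mem_NN {j : ℕ} (w : List ℕ) (h : ∀ c ∈ w, j ≤ c ∧ c < 24) : wel (ZMod 2) w ∈ NN j := by
  induction w with
  | nil => exact one_mem _
  | cons c w ih =>
    rw [UCode.wel_cons]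
    exact mul_mem (Y_mem_NN (h c List.mem_cons_self).1 (h c List.mem_cons_self).2)
      (ih fun d hd => h d (List.mem_cons_of_mem _ hd))

/-- the commutator of two positive root elements, first form -/
theorem conj_gt {i k : ℕ} (hik : i < k) (hk : k < 24) :
    Y (24 + k) * Y (24 + i) * (Y (24 + k))⁻¹ = Y (24 + i) * wel (ZMod 2) (cs k i) := by
  have h := UCode.comm_x (ZMod 2) hik hk
  rw [← Y_eq, ← Y_eq] at h
  rw [h, mul_inv_cancel_right]

theorem conj_lt {i k : ℕ} (hki : k < i) (hi : i < 24) :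
    Y (24 + k) * Y (24 + i) * (Y (24 + k))⁻¹ = wel (ZMod 2) (cs i k) * Y (24 + i) := by
  have h := UCode.comm_x (ZMod 2) hki hi
  rw [← Y_eq, ← Y_eq] at h
  have h1 : Y (24 + k) * Y (24 + i) * Y (24 + k) = wel (ZMod 2) (cs i k) * Y (24 + i) := by
    rw [mul_assoc, h, ← mul_assoc, ← mul_assoc, Y_mul_self, one_mul]
  rw [Y_inv, h1]

theorem cs_mem {i k : ℕ} (hik : i < k) (hk : k < 24) : wel (ZMod 2) (cs k i) ∈ NN (k + 1) :=
  wel_mem_NN _ fun c hc => ⟨((UCode.cs_facts hik hk).1 c hc).1, ((UCode.cs_facts hik hk).1 c hc).2⟩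

theorem conj_mem_NN_gen {j i k : ℕ} (hj : j ≤ i) (hi : i < 24) (hk : k < 24) :
    Y (24 + k) * Y (24 + i) * (Y (24 + k))⁻¹ ∈ NN j := by
  rcases lt_trichotomy i k with h | h | h
  · rw [conj_gt h hk]
    exact mul_mem (Y_mem_NN hj hi) (NN_anti (by omega) (cs_mem h hk))
  · subst h
    rw [mul_inv_cancel_right]
    exact Y_mem_NN hj hi
  · rw [conj_lt h hi]
    exact mul_mem (NN_anti (by omega) (cs_mem h hi)) (Y_mem_NN hj hi)

theorem conj_closure {G : Type*} [Group G] {S : Set G} {H : Subgroup G} {u : G} (h : ∀ s ∈ S, u * s * u⁻¹ ∈ H) {g : G}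
    (hg : g ∈ Subgroup.closure S) : u * g * u⁻¹ ∈ H := by
  induction hg using Subgroup.closure_induction with
  | mem x hx => exact h x hx
  | one => simp
  | mul x y _ _ hx hy =>
    have e : u * (x * y) * u⁻¹ = (u * x * u⁻¹) * (u * y * u⁻¹) := by group
    rw [e]; exact mul_mem hx hy
  | inv x _ hx =>
    have e : u * x⁻¹ * u⁻¹ = (u * x * u⁻¹)⁻¹ := by group
    rw [e]; exact inv_mem hx

theorem conj_mem_of_gen {j : ℕ} {u : GG} (hu : ∀ i, j ≤ i → i < 24 → u * Y (24 + i) * u⁻¹ ∈ NN j) {g : GG}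
    (hg : g ∈ NN j) : u * g * u⁻¹ ∈ NN j := by
  refine conj_closure ?_ hg
  rintro g ⟨i, hi, hi', rfl⟩
  exact hu i hi hi'

/-- conjugation by elements of `U` -/
theorem conj_mem_NN {j : ℕ} {u g : GG} (hu : u ∈ NN 0) (hg : g ∈ NN j) : u * g * u⁻¹ ∈ NN j := by
  have h : ∀ u ∈ NN 0, ∀ g ∈ NN j, u * g * u⁻¹ ∈ NN j := by
    intro u hu
    unfold NN at hu
    induction hu using Subgroup.closure_induction_left with
    | one => intro g hg; simpa using hg
    | mul_left x hx y hy ih =>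
      obtain ⟨k, _, hk, rfl⟩ := hx
      intro g hg
      have := conj_mem_of_gen (j := j) (u := Y (24 + k)) (fun i hi hi' => conj_mem_NN_gen hi hi' hk) (ih g hg)
      have e : Y (24 + k) * y * g * (Y (24 + k) * y)⁻¹ = Y (24 + k) * (y * g * y⁻¹) * (Y (24 + k))⁻¹ := by group
      rw [e]; exact this
    | inv_mul_cancel x hx y hy ih =>
      obtain ⟨k, _, hk, rfl⟩ := hx
      intro g hg
      have := conj_mem_of_gen (j := j) (u := Y (24 + k)) (fun i hi hi' => conj_mem_NN_gen hi hi' hk) (ih g hg)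
      rw [Y_inv]
      have e : Y (24 + k) * y * g * (Y (24 + k) * y)⁻¹ = Y (24 + k) * (y * g * y⁻¹) * (Y (24 + k))⁻¹ := by group
      rw [e]; exact this
  exact h u hu g hg

theorem comm_mem_gen {i k : ℕ} (hi : i < 24) (hk : k < 24) :
    Y (24 + k) * Y (24 + i) * (Y (24 + k))⁻¹ * (Y (24 + i))⁻¹ ∈ NN (i + 1) := by
  rcases lt_trichotomy i k with h | h | h
  · rw [conj_gt h hk]
    exact conj_mem_NN (Y_mem_NN (Nat.zero_le _) hi) (NN_anti (by omega) (cs_mem h hk))
  · subst h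
    rw [mul_inv_cancel_right, mul_inv_cancel]
    exact one_mem _
  · rw [conj_lt h hi, mul_inv_cancel_right]
    exact cs_mem h hi

/-- `[U, x_{24+i}] ≤ NN (i+1)` -/
theorem comm_mem {i : ℕ} (hi : i < 24) {u : GG} (hu : u ∈ NN 0) :
    u * Y (24 + i) * u⁻¹ * (Y (24 + i))⁻¹ ∈ NN (i + 1) := by
  have key : ∀ k, k < 24 → ∀ y : GG, y * Y (24 + i) * y⁻¹ * (Y (24 + i))⁻¹ ∈ NN (i + 1) →
      (Y (24 + k) * y) * Y (24 + i) * (Y (24 + k) * y)⁻¹ * (Y (24 + i))⁻¹ ∈ NN (i + 1) := by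
    intro k hk y hy
    have e : (Y (24 + k) * y) * Y (24 + i) * (Y (24 + k) * y)⁻¹ * (Y (24 + i))⁻¹ =
        (Y (24 + k) * (y * Y (24 + i) * y⁻¹ * (Y (24 + i))⁻¹) * (Y (24 + k))⁻¹) *
          (Y (24 + k) * Y (24 + i) * (Y (24 + k))⁻¹ * (Y (24 + i))⁻¹) := by group
    rw [e]
    exact mul_mem (conj_mem_NN (Y_mem_NN (Nat.zero_le _) hk) hy) (comm_mem_gen hi hk)
  unfold NN at hu
  induction hu using Subgroup.closure_induction_left with
  | one => simp
  | mul_left x hx y hy ih =>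
    obtain ⟨k, _, hk, rfl⟩ := hx
    exact key k hk y ih
  | inv_mul_cancel x hx y hy ih =>
    obtain ⟨k, _, hk, rfl⟩ := hx
    rw [Y_inv]
    exact key k hk y ih

theorem NN_24 {j : ℕ} (hj : 24 ≤ j) : NN j = ⊥ := by
  unfold NN
  rw [Subgroup.closure_eq_bot_iff]
  rintro g ⟨i, hi, hi', _⟩
  omega

theorem mem_NN_cases {j : ℕ} (hj : j < 24) {g : GG} (hg : g ∈ NN j) : g ∈ NN (j + 1) ∨ Y (24 + j) * g ∈ NN (j + 1) := by
  have hY : Y (24 + j) ∈ NN 0 := Y_mem_NN (Nat.zero_le _) hj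
  have key : ∀ i, j ≤ i → i < 24 → ∀ y : GG, (y ∈ NN (j + 1) ∨ Y (24 + j) * y ∈ NN (j + 1)) →
      (Y (24 + i) * y ∈ NN (j + 1) ∨ Y (24 + j) * (Y (24 + i) * y) ∈ NN (j + 1)) := by
    intro i hi hi' y hy
    rcases Nat.lt_or_ge j i with h | h
    · have h1 : Y (24 + i) ∈ NN (j + 1) := Y_mem_NN h hi'
      rcases hy with hy | hy
      · exact Or.inl (mul_mem h1 hy)
      · right
        have e : Y (24 + j) * (Y (24 + i) * y) =
            (Y (24 + j) * Y (24 + i) * (Y (24 + j))⁻¹) * (Y (24 + j) * y) := by group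
        rw [e]
        exact mul_mem (conj_mem_NN hY h1) hy
    · have : i = j := by omega
      subst this
      rcases hy with hy | hy
      · right
        rw [← mul_assoc, Y_mul_self, one_mul]
        exact hy
      · exact Or.inl hy
  unfold NN at hg
  induction hg using Subgroup.closure_induction_left with
  | one => exact Or.inl (one_mem _)
  | mul_left x hx y hy ih =>
    obtain ⟨i, hi, hi', rfl⟩ := hx
    exact key i hi hi' y ih
  | inv_mul_cancel x hx y hy ih =>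
    obtain ⟨i, hi, hi', rfl⟩ := hx
    rw [Y_inv]
    exact key i hi hi' y ih

/-- elements of `NN j` have codes divisible by `2 ^ j` -/
theorem exists_code_NN : ∀ (k j : ℕ), j + k = 24 → ∀ g ∈ NN j, ∃ h, h < 2 ^ k ∧ g = E (h * 2 ^ j)
  | 0, j, hjk, g, hg => by
    rw [NN_24 (by omega), Subgroup.mem_bot] at hg
    exact ⟨0, by norm_num, by rw [hg, Nat.zero_mul]; exact (UCode.el_zero _).symm⟩
  | k + 1, j, hjk, g, hg => by
    rcases mem_NN_cases (by omega) hg with h0 | h0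
    · obtain ⟨h, hh, rfl⟩ := exists_code_NN k (j + 1) (by omega) g h0
      refine ⟨2 * h, by rw [pow_succ]; omega, ?_⟩
      congr 1
      rw [pow_succ]; ring
    · obtain ⟨h, hh, hg'⟩ := exists_code_NN k (j + 1) (by omega) _ h0
      refine ⟨1 + 2 * h, by rw [pow_succ]; omega, ?_⟩
      have e1 : (1 + 2 * h) * 2 ^ j = 2 ^ j + h * 2 ^ (j + 1) := by rw [pow_succ]; ring
      rw [e1, el_add (2 ^ j) h (j + 1) (Nat.pow_lt_pow_right (by norm_num) (by omega)) (by omega), ← hg',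
        E_pow j (by omega), ← mul_assoc, Y_mul_self, one_mul]

theorem E_mem_NN (h j : ℕ) : E (h * 2 ^ j) ∈ NN j := by
  rw [E, ← UCode.wel_lets]
  refine wel_mem_NN _ fun c hc => ?_
  rw [UCode.mem_lets, Nat.testBit_mul_two_pow] at hc
  refine ⟨?_, hc.1⟩
  by_contra h1
  have h2 : ¬ j ≤ c := h1
  simp [h2] at hc

theorem pos_eq : chevF4.posUnipotent (ZMod 2) = NN 0 := by
  apply le_antisymm
  · intro g hg
    obtain ⟨e, _, rfl⟩ := UCode.exists_code hg
    have := E_mem_NN e 0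
    rwa [pow_zero, mul_one] at this
  · unfold NN
    rw [Subgroup.closure_le]
    rintro g ⟨i, _, hi, rfl⟩
    exact UCode.x_mem_pos (ZMod 2) hi

/-! ### Root elements and codes -/

theorem diag_bot : chevF4.diagonalSubgroup (ZMod 2) = ⊥ := by
  rw [Cfsg.Agent.ChevalleyStructure.TwF4.Torus.diagonal_eq_range, eq_bot_iff]
  rintro g ⟨c, rfl⟩
  have : c = 1 := Subsingleton.elim _ _
  rw [this, map_one]
  exact one_mem _

theorem borel_eq : chevF4.borelSubgroup (ZMod 2) = chevF4.posUnipotent (ZMod 2) := by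
  unfold ChevalleyDatum.borelSubgroup
  rw [diag_bot, sup_bot_eq]

theorem Y_ne_one {r : ℕ} (hr : r < 48) : Y r ≠ 1 := by
  intro h
  have h1 := (Cfsg.Agent.S1024.result (F := ZMod 2) chevF4 (by simp) r hr 1).1 (by
    have := congrArg Units.val h
    simpa using this)
  exact absurd h1 (by decide)

theorem neg_tab : ((List.range 24).all fun r => decide (chevF4.IsNegRoot r)) = true := by decide +kernel

theorem Y_mem_neg {r : ℕ} (hr : r < 24) : Y r ∈ chevF4.negUnipotent (ZMod 2) := by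
  have h := neg_tab
  rw [List.all_eq_true] at h
  exact Subgroup.subset_closure ⟨r, 1, of_decide_eq_true (h r (List.mem_range.2 hr)), rfl⟩

theorem le_of_Y_mem {r : ℕ} (hr : r < 48) (h : Y r ∈ NN 0) : 24 ≤ r := by
  by_contra h1
  have h2 : Y r ∈ chevF4.borelSubgroup (ZMod 2) ⊓ chevF4.negUnipotent (ZMod 2) := by
    rw [borel_eq, pos_eq]
    exact ⟨h, Y_mem_neg (by omega)⟩
  rw [(Cfsg.Agent.S1037.result (F := ZMod 2) chevF4 (by simp)).1, Subgroup.mem_bot] at h2
  exact Y_ne_one hr h2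

/-- a root element in the coset of `x_{24+j}` is `x_{24+j}` -/
theorem eq_of_Y_coset {c j : ℕ} (hc : c < 48) (hj : j < 24) (h : Y c * (Y (24 + j))⁻¹ ∈ NN (j + 1)) : c = 24 + j := by
  have h1 : Y c ∈ NN 0 := by
    have := mul_mem (NN_anti (Nat.zero_le _) h) (Y_mem_NN (Nat.zero_le j) hj : Y (24 + j) ∈ NN 0)
    rwa [inv_mul_cancel_right] at this
  have h2 := le_of_Y_mem hc h1
  obtain ⟨i, rfl⟩ : ∃ i, c = 24 + i := ⟨c - 24, by omega⟩
  have h3 : (Y (24 + j))⁻¹ * Y (24 + i) ∈ NN (j + 1) := by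
    have h4 := conj_mem_NN (u := (Y (24 + j))⁻¹) (inv_mem (Y_mem_NN (Nat.zero_le j) hj)) h
    rw [inv_inv] at h4
    have e : (Y (24 + j))⁻¹ * (Y (24 + i) * (Y (24 + j))⁻¹) * Y (24 + j) = (Y (24 + j))⁻¹ * Y (24 + i) := by group
    rwa [e] at h4
  obtain ⟨b, hb, hb'⟩ := exists_code_NN (24 - (j + 1)) (j + 1) (by omega) _ h3
  have h5 : E (2 ^ i) = E (2 ^ j + b * 2 ^ (j + 1)) := by
    rw [el_add _ _ (j + 1) (Nat.pow_lt_pow_right (by norm_num) (by omega)) (by omega), ← hb', E_pow j hj,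
      E_pow i (by omega), mul_inv_cancel_left]
  have h6 := UCode.testBit_of_el (ZMod 2) h5 hj
  have h7 : (2 ^ j + b * 2 ^ (j + 1)).testBit j = true := by
    have e1 : 2 ^ j + b * 2 ^ (j + 1) = 2 ^ (j + 1) * b + 2 ^ j := by ring
    rw [e1, Nat.testBit_two_pow_mul_add _ (Nat.pow_lt_pow_right (by norm_num) (by omega))]
    simp
  rw [h7, Nat.testBit_two_pow] at h6
  have := of_decide_eq_true h6
  omega

/-! ### Bruhat decomposition -/

theorem exists_bruhat {g : GG} (hg : g ∈ chevF4.group (ZMod 2)) :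
    ∃ (u v w : GG) (σ : Equiv.Perm R), u ∈ NN 0 ∧ v ∈ NN 0 ∧ w ∈ Wm (ZMod 2) ∧ Mono w σ ∧ g = u * w * v := by
  obtain ⟨b, hb, n, hn, b', hb', rfl⟩ := Cfsg.Agent.S1100.exists_bruhat (D := chevF4) (F := ZMod 2) (by simp) hg
  rw [borel_eq, pos_eq] at hb hb'
  obtain ⟨w, hw, c, rfl⟩ := (mem_N_iff n).1 hn
  obtain ⟨σ, hσ⟩ := exists_mono hw
  have : c = 1 := Subsingleton.elim _ _
  subst this
  exact ⟨b, b', w, σ, hb, hb', hw, hσ, by rw [map_one, mul_one]⟩

theorem w_conj {w : GG} {σ : Equiv.Perm R} (hw : w ∈ Wm (ZMod 2)) (hσ : Mono w σ) (r : R) :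
    w * Y r.val * w⁻¹ = Y (σ r).val := by
  rw [Cfsg.Agent.ChevalleyStructure.TwF4.NRoot.mono_mul_X hw hσ, mul_inv_cancel_right]

/-- the root with index `r` -/
def rt (r : ℕ) (hr : r < 48) : R := ⟨r, hr⟩

/-- The chain lemma. -/
theorem chain {u v w : GG} {σ : Equiv.Perm R} (hu : u ∈ NN 0) (hv : v ∈ NN 0) (hw : w ∈ Wm (ZMod 2))
    (hσ : Mono w σ) {j : ℕ} (hj : j < 24) (hc : u * w * v * Y (24 + j) = Y (24 + j) * (u * w * v))
    (hs : ∀ (i : ℕ) (hi : i < 24), j < i → 24 + j < (σ (rt (24 + i) (by omega))).val) :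
    σ (rt (24 + j) (by omega)) = rt (24 + j) (by omega) := by
  have hv' := comm_mem hj hv
  have hu' := comm_mem hj (inv_mem hu)
  rw [inv_inv] at hu'
  have hwN : ∀ g ∈ NN (j + 1), w * g * w⁻¹ ∈ NN (j + 1) := by
    intro g hg
    refine conj_mem_of_gen (fun i hi hi' => ?_) hg
    have h1 := hs i hi' (by omega)
    have h2 := w_conj hw hσ (rt (24 + i) (by omega))
    change w * Y (24 + i) * w⁻¹ = _ at h2
    rw [h2]
    have h3 := (σ (rt (24 + i) (by omega))).2
    change (σ (rt (24 + i) (by omega))).val < 48 at h3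
    obtain ⟨m, hm⟩ : ∃ m, (σ (rt (24 + i) (by omega))).val = 24 + m := ⟨(σ (rt (24 + i) (by omega))).val - 24, by omega⟩
    rw [hm]
    exact Y_mem_NN (by omega) (by omega)
  have h4 := w_conj hw hσ (rt (24 + j) (by omega))
  change w * Y (24 + j) * w⁻¹ = _ at h4
  have h5 : w * (v * Y (24 + j) * v⁻¹) * w⁻¹ = u⁻¹ * Y (24 + j) * u := by
    calc w * (v * Y (24 + j) * v⁻¹) * w⁻¹ = u⁻¹ * (u * w * v * Y (24 + j)) * (v⁻¹ * w⁻¹) := by group
      _ = _ := by rw [hc]; group
  have h6 : Y (σ (rt (24 + j) (by omega))).val * (Y (24 + j))⁻¹ ∈ NN (j + 1) := by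
    have e : Y (σ (rt (24 + j) (by omega))).val * (Y (24 + j))⁻¹ =
        (w * (v * Y (24 + j) * v⁻¹ * (Y (24 + j))⁻¹) * w⁻¹)⁻¹ * (u⁻¹ * Y (24 + j) * u * (Y (24 + j))⁻¹) := by
      rw [← h5, ← h4]; group
    rw [e]
    exact mul_mem (inv_mem (hwN _ hv')) hu'
  exact Fin.ext (eq_of_Y_coset (σ (rt (24 + j) (by omega))).2 hj h6)

/-! ### The Weyl group element fixes the roots of a spanning set -/

theorem ct_tab44 : ((List.range 48).all fun c => (decide (ct 44 c = 2) == decide (41 ≤ c)) &&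
    (decide (ct 44 c = 1) == decide (33 ≤ c ∧ c ≤ 40))) = true := by decide +kernel

theorem span_W : ((List.range 48).all fun c => (List.range 48).all fun d => decide (c = d) ||
    !((List.range 7).all fun k => decide (ct (41 + k) c = ct (41 + k) d))) = true := by decide +kernel

theorem span_C : ((List.range 48).all fun c => (List.range 48).all fun d => decide (c = d) ||
    !((List.range 8).all fun k => decide (ct (33 + k) c = ct (33 + k) d))) = true := by decide +kernel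

theorem perm_eq_one {a n : ℕ} (ha : a + n ≤ 48)
    (htab : ((List.range 48).all fun c => (List.range 48).all fun d => decide (c = d) ||
      !((List.range n).all fun k => decide (ct (a + k) c = ct (a + k) d))) = true)
    {w : GG} {σ : Equiv.Perm R} (hσ : Mono w σ)
    (hf : ∀ (k : ℕ) (hk : k < n), σ (rt (a + k) (by omega)) = rt (a + k) (by omega)) : w = 1 := by
  have h1 : σ = 1 := by
    ext c
    rw [List.all_eq_true] at htab
    have h2 := htab (σ c).val (List.mem_range.2 (σ c).2)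
    rw [List.all_eq_true] at h2
    have h3 := h2 c.val (List.mem_range.2 c.2)
    rw [Bool.or_eq_true] at h3
    rcases h3 with h3 | h3
    · exact of_decide_eq_true h3
    · exfalso
      have h4 : ((List.range n).all fun k => decide (ct (a + k) (σ c).val = ct (a + k) c.val)) = true := by
        rw [List.all_eq_true]
        intro k hk
        rw [List.mem_range] at hk
        apply decide_eq_true
        have h5 := hσ.car (rt (a + k) (by omega)) c
        rw [hf k hk] at h5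
        exact h5
      rw [h4] at h3
      exact Bool.noConfusion h3
  subst h1
  exact hσ.eq_one

end Cfsg.Agent.FourTwo.CentW
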