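import Cfsg.Agent.FourTwo.UMod

/-!
# Certificate for the conjugacy classes of involutions of `U`, and their fusion in `F₄(2)`

`levels` describes a search tree.  Level `k` treats the elements `u` of `U` (as codes) whose square
has zero bits `< k`: up to conjugation in `U` the low `k` bits of `u` form one of the listed codes `r`.
A tag `0` means that both `r` and `r + 2 ^ k` have square with nonzero bit `k`, tag `c + 2` that
`c` conjugates `r + 2 ^ k` to `r` (modulo the bits above `k`), tag `1` keeps both.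
`fus` gives the fusion of the final list of representatives to four of them.
-/

set_option autoImplicit false

namespace Cfsg.Agent.FourTwo.InvCert

open Cfsg.Agent.FourTwo.UCode Cfsg.Agent.FourTwo.UMod

/-- check of a node of level `k` -/
def nodeOK (k : ℕ) (r : ℕ) (tag : ℕ) : Bool :=
  match tag with
  | 0 => !(Nat.beq (Nat.mod (mulU r r) (2 ^ (k + 1))) 0) &&
      !(Nat.beq (Nat.mod (mulU (r + 2 ^ k) (r + 2 ^ k)) (2 ^ (k + 1))) 0)
  | 1 => true
  | c + 2 => Nat.beq (Nat.mod (conjU c (r + 2 ^ k)) (2 ^ (k + 1))) r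

/-- check of a level -/
def levOK (k : ℕ) (l : List (ℕ × ℕ)) : Bool := l.all fun p => nodeOK k p.1 p.2 && Nat.blt p.1 (2 ^ k)

/-- codes of the next level -/
def nxt (k : ℕ) : List (ℕ × ℕ) → List ℕ
  | [] => []
  | (_, 0) :: l => nxt k l
  | (r, 1) :: l => r :: (r + 2 ^ k) :: nxt k l
  | (r, _ + 2) :: l => r :: nxt k l

def lev0 : List (ℕ × ℕ) := [
  (0, 1)]

def lev1 : List (ℕ × ℕ) := [
  (0, 1), (1, 1)]

def lev2 : List (ℕ × ℕ) := [
  (0, 1), (2, 3), (1, 4), (3, 0)]

def lev3 : List (ℕ × ℕ) := [
  (0, 1), (4, 1), (2, 1), (1, 1)]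

def lev4 : List (ℕ × ℕ) := [
  (0, 1), (8, 4), (4, 1), (12, 4), (2, 10), (10, 0), (1, 1), (9, 1)]

def lev5 : List (ℕ × ℕ) := [
  (0, 1), (16, 3), (8, 6), (4, 10), (20, 10), (12, 0), (2, 1), (1, 18), (17, 0), (9, 18), (25, 0)]

def lev6 : List (ℕ × ℕ) := [
  (0, 1), (32, 1), (16, 1), (8, 1), (4, 1), (20, 1), (2, 1), (34, 1), (1, 1), (9, 1)]

def lev7 : List (ℕ × ℕ) := [
  (0, 1), (64, 3), (32, 1), (96, 3), (16, 1), (80, 1), (8, 1), (72, 3), (4, 1), (68, 3), (20, 11),
  (84, 1), (2, 1), (66, 1), (34, 1), (98, 1), (1, 66), (65, 0), (9, 66), (73, 0)]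

def lev8 : List (ℕ × ℕ) := [
  (0, 1), (128, 4), (64, 6), (32, 1), (160, 4), (96, 6), (16, 1), (144, 4), (80, 6), (208, 6),
  (8, 1), (136, 1), (72, 1), (4, 66), (132, 66), (68, 0), (20, 66), (84, 0), (212, 0), (2, 130),
  (130, 0), (66, 130), (194, 0), (34, 130), (162, 0), (98, 130), (226, 0), (1, 1), (9, 86)]

def lev9 : List (ℕ × ℕ) := [
  (0, 1), (256, 1), (128, 1), (64, 1), (32, 1), (288, 1), (160, 1), (96, 1), (16, 1), (272, 1),
  (144, 1), (80, 1), (208, 1), (8, 1), (264, 1), (136, 1), (392, 1), (72, 1), (328, 1), (4, 1),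
  (132, 1), (20, 1), (2, 1), (66, 1), (34, 1), (98, 1), (1, 1), (257, 1), (9, 1)]

def lev10 : List (ℕ × ℕ) := [
  (0, 1), (512, 10), (256, 1), (768, 10), (128, 1), (640, 10), (64, 1), (576, 10), (32, 1),
  (544, 10), (288, 1), (800, 10), (160, 1), (672, 10), (96, 1), (608, 10), (16, 1), (528, 10),
  (272, 1), (784, 10), (144, 1), (656, 10), (80, 1), (592, 10), (208, 1), (720, 10), (8, 514),
  (520, 0), (264, 514), (776, 0), (136, 514), (648, 0), (392, 514), (904, 0), (72, 514), (584, 0),
  (328, 514), (840, 0), (4, 1), (516, 1), (132, 1), (644, 1), (20, 1), (532, 1), (2, 1), (514, 1),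
  (66, 1), (578, 1), (34, 1), (546, 1), (98, 1), (610, 1), (1, 1), (513, 10), (257, 1), (769, 10),
  (9, 514), (521, 0)]

def lev11 : List (ℕ × ℕ) := [
  (0, 1), (1024, 4), (512, 18), (256, 1), (1280, 4), (768, 18), (128, 1), (1152, 1), (640, 18),
  (64, 1), (1088, 4), (576, 18), (32, 1), (1056, 4), (544, 18), (288, 1), (1312, 4), (800, 18),
  (160, 1), (1184, 1), (672, 18), (96, 1), (1120, 4), (608, 18), (16, 514), (1040, 514), (528, 0),
  (272, 514), (1296, 514), (784, 0), (144, 514), (1168, 514), (656, 0), (80, 514), (1104, 514),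
  (592, 0), (208, 514), (1232, 514), (720, 0), (8, 1), (264, 1), (136, 1), (392, 1), (72, 1),
  (328, 1), (4, 1), (1028, 4), (516, 18), (1540, 18), (132, 1), (1156, 68), (644, 18), (1668, 18),
  (20, 514), (1044, 514), (532, 0), (1556, 0), (2, 1026), (1026, 0), (514, 1026), (1538, 0),
  (66, 1026), (1090, 0), (578, 1026), (1602, 0), (34, 1026), (1058, 0), (546, 1026), (1570, 0),
  (98, 1026), (1122, 0), (610, 1026), (1634, 0), (1, 1), (1025, 1), (513, 1), (257, 1), (1281, 1),
  (769, 1), (9, 1)]

def lev12 : List (ℕ × ℕ) := [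
  (0, 1), (2048, 3), (1024, 6), (512, 34), (256, 1), (2304, 3), (1280, 6), (768, 34), (128, 1),
  (2176, 3), (1152, 6), (3200, 6), (640, 34), (64, 1), (2112, 1), (1088, 1), (576, 34), (32, 514),
  (2080, 514), (1056, 514), (544, 0), (288, 514), (2336, 514), (1312, 514), (800, 0), (160, 514),
  (2208, 514), (1184, 514), (3232, 514), (672, 0), (96, 514), (2144, 514), (1120, 514), (608, 0),
  (16, 1), (1040, 6), (272, 1), (1296, 6), (144, 1), (1168, 6), (80, 1), (1104, 1), (208, 1),
  (1232, 520), (8, 1), (2056, 3), (264, 1), (2312, 3), (136, 1), (2184, 3), (392, 1), (2440, 3),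
  (72, 1), (2120, 1), (328, 1), (2376, 1), (4, 1026), (2052, 1026), (1028, 0), (516, 1026),
  (1540, 0), (132, 1026), (2180, 1026), (1156, 0), (644, 1026), (1668, 0), (20, 1026), (1044, 0),
  (2, 1), (514, 34), (66, 1), (578, 34), (34, 514), (546, 0), (98, 514), (610, 0), (1, 2050),
  (2049, 0), (1025, 2050), (3073, 0), (513, 2050), (2561, 0), (257, 2050), (2305, 0), (1281, 2050),
  (3329, 0), (769, 2050), (2817, 0), (9, 2050), (2057, 0)]

def lev13 : List (ℕ × ℕ) := [
  (0, 1), (4096, 1), (2048, 10), (1024, 18), (512, 66), (256, 1), (4352, 1), (2304, 10),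
  (1280, 18), (768, 66), (128, 1), (4224, 1), (2176, 10), (1152, 18), (3200, 18), (640, 66),
  (64, 514), (4160, 514), (2112, 514), (6208, 514), (1088, 514), (5184, 514), (576, 0), (32, 1),
  (2080, 10), (1056, 18), (288, 1), (2336, 10), (1312, 18), (160, 1), (2208, 10), (1184, 18),
  (3232, 18), (96, 1), (2144, 10), (1120, 18), (16, 1026), (4112, 1026), (1040, 0), (272, 1026),
  (4368, 1026), (1296, 0), (144, 1026), (4240, 1026), (1168, 0), (80, 1026), (4176, 1026),
  (1104, 0), (5200, 0), (208, 1026), (4304, 1026), (1232, 0), (8, 2050), (4104, 2050), (2056, 0),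
  (264, 2050), (4360, 2050), (2312, 0), (136, 2050), (4232, 2050), (2184, 0), (392, 2050),
  (4488, 2050), (2440, 0), (72, 2050), (4168, 2050), (2120, 0), (6216, 0), (328, 2050),
  (4424, 2050), (2376, 0), (6472, 0), (4, 1), (2052, 1), (516, 1), (132, 1), (2180, 1), (644, 68),
  (20, 1), (2, 1), (4098, 1), (514, 66), (66, 514), (4162, 514), (578, 0), (34, 1), (98, 1),
  (1, 1), (1025, 1), (513, 1), (257, 1), (1281, 1), (769, 1), (9, 1)]

def lev14 : List (ℕ × ℕ) := [
  (0, 1), (8192, 3), (4096, 10), (12288, 10), (2048, 1), (1024, 34), (512, 130), (256, 1),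
  (8448, 3), (4352, 10), (12544, 10), (2304, 1), (1280, 34), (768, 130), (128, 514), (8320, 514),
  (4224, 514), (12416, 514), (2176, 514), (1152, 514), (3200, 514), (640, 0), (64, 1), (4160, 10),
  (2112, 1), (6208, 522), (1088, 34), (5184, 34), (32, 1026), (8224, 1026), (2080, 1026),
  (1056, 0), (288, 1026), (8480, 1026), (2336, 1026), (1312, 0), (160, 1026), (8352, 1026),
  (2208, 1026), (1184, 0), (3232, 0), (96, 1026), (8288, 1026), (2144, 1026), (1120, 0), (16, 1),
  (4112, 10), (272, 1), (4368, 10), (144, 1), (4240, 10), (80, 1), (4176, 10), (208, 1),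
  (4304, 10), (8, 4098), (4104, 0), (264, 4098), (4360, 0), (136, 4098), (4232, 0), (392, 4098),
  (4488, 0), (72, 4098), (4168, 0), (328, 4098), (4424, 0), (4, 1), (8196, 3), (2052, 1),
  (10244, 1027), (516, 130), (8708, 130), (132, 514), (8324, 514), (2180, 514), (10372, 514),
  (644, 0), (20, 1), (8212, 1), (2, 1), (8194, 1), (4098, 1), (12290, 1), (514, 1), (66, 1),
  (4162, 1), (34, 1), (8226, 1), (98, 1), (8290, 1), (1, 8194), (8193, 0), (1025, 8194), (9217, 0),
  (513, 8194), (8705, 0), (257, 8194), (8449, 0), (1281, 8194), (9473, 0), (769, 8194), (8961, 0),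
  (9, 8194), (8201, 0)]

def lev15 : List (ℕ × ℕ) := [
  (0, 1), (16384, 4), (8192, 6), (4096, 18), (12288, 18), (2048, 34), (18432, 34), (1024, 1),
  (512, 258), (256, 514), (16640, 514), (8448, 514), (4352, 514), (12544, 514), (2304, 514),
  (18688, 514), (1280, 514), (768, 0), (128, 1), (8320, 6), (4224, 18), (12416, 18), (2176, 34),
  (1152, 1), (3200, 546), (64, 1), (16448, 4), (4160, 18), (2112, 34), (18496, 34), (6208, 34),
  (1088, 1), (5184, 530), (32, 2050), (8224, 2050), (2080, 0), (288, 2050), (8480, 2050),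
  (2336, 0), (160, 2050), (8352, 2050), (2208, 0), (96, 2050), (8288, 2050), (2144, 0), (16, 4098),
  (16400, 4098), (4112, 0), (272, 4098), (16656, 4098), (4368, 0), (144, 4098), (16528, 4098),
  (4240, 0), (80, 4098), (16464, 4098), (4176, 0), (208, 4098), (16592, 4098), (4304, 0), (8, 1),
  (264, 1), (136, 1), (392, 1), (72, 1), (328, 1), (4, 8194), (16388, 8194), (8196, 0),
  (2052, 8194), (18436, 8194), (10244, 0), (516, 8194), (8708, 0), (132, 8194), (8324, 0),
  (2180, 8194), (10372, 0), (20, 8194), (16404, 8194), (8212, 0), (24596, 0), (2, 16386),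
  (16386, 0), (8194, 16386), (24578, 0), (4098, 16386), (20482, 0), (12290, 16386), (28674, 0),
  (514, 16386), (16898, 0), (66, 16386), (16450, 0), (4162, 16386), (20546, 0), (34, 16386),
  (16418, 0), (8226, 16386), (24610, 0), (98, 16386), (16482, 0), (8290, 16386), (24674, 0),
  (1, 1), (1025, 1), (513, 258), (257, 514), (1281, 514), (769, 0), (9, 1)]

def lev16 : List (ℕ × ℕ) := [
  (0, 1), (32768, 10), (16384, 18), (8192, 34), (4096, 66), (12288, 66), (2048, 130), (18432, 130),
  (1024, 258), (33792, 258), (512, 1), (256, 1026), (16640, 1026), (8448, 1026), (4352, 1026),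
  (12544, 1026), (2304, 1026), (18688, 1026), (1280, 0), (128, 2050), (32896, 2050), (8320, 2050),
  (4224, 2050), (12416, 2050), (2176, 0), (1152, 2050), (33920, 2050), (3200, 0), (64, 4098),
  (32832, 4098), (16448, 4098), (4160, 0), (2112, 4098), (18496, 4098), (6208, 0), (1088, 4098),
  (33856, 4098), (5184, 0), (32, 8194), (8224, 0), (288, 8194), (8480, 0), (160, 8194), (8352, 0),
  (96, 8194), (8288, 0), (16, 16386), (16400, 0), (272, 16386), (16656, 0), (144, 16386),
  (16528, 0), (80, 16386), (16464, 0), (208, 16386), (16592, 0), (8, 32770), (32776, 0),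
  (264, 32770), (33032, 0), (136, 32770), (32904, 0), (392, 32770), (33160, 0), (72, 32770),
  (32840, 0), (328, 32770), (33096, 0), (4, 1), (16388, 18), (2052, 130), (18436, 130), (516, 1),
  (132, 2050), (2180, 0), (20, 16386), (16404, 0), (2, 1), (8194, 34), (4098, 66), (12290, 66),
  (514, 1), (66, 4098), (4162, 0), (34, 8194), (8226, 0), (98, 8194), (8290, 0), (1, 1),
  (32769, 10), (1025, 258), (33793, 258), (513, 1), (257, 1026), (1281, 0), (9, 32770), (32777, 0)]

def lev17 : List (ℕ × ℕ) := [
  (0, 1), (65536, 1), (32768, 1), (16384, 1), (8192, 1), (4096, 1), (12288, 1), (2048, 1),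
  (18432, 1), (1024, 1), (33792, 1), (512, 1), (66048, 1), (256, 1), (16640, 1), (8448, 1),
  (4352, 1), (12544, 1), (2304, 1), (18688, 1), (128, 1), (32896, 1), (8320, 1), (4224, 1),
  (12416, 1), (1152, 1), (33920, 1), (64, 1), (32832, 1), (16448, 1), (2112, 522), (18496, 522),
  (1088, 530), (33856, 530), (32, 1), (288, 1), (160, 1), (96, 1), (16, 1), (272, 1), (144, 1),
  (80, 1), (208, 1), (8, 1), (264, 1), (136, 1), (392, 1), (72, 1), (328, 1), (4, 1), (65540, 1),
  (16388, 1), (2052, 1), (18436, 1), (516, 1), (66052, 1), (132, 1), (20, 1), (2, 1), (65538, 1),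
  (8194, 1), (4098, 1), (12290, 1), (514, 1042), (66050, 1042), (66, 1), (34, 1), (98, 1), (1, 1),
  (65537, 1), (32769, 1), (1025, 1), (33793, 1), (513, 1), (66049, 1), (257, 1), (9, 1)]

def lev18 : List (ℕ × ℕ) := [
  (0, 1), (131072, 3), (65536, 1), (196608, 3), (32768, 1), (163840, 3), (16384, 1), (147456, 3),
  (8192, 1), (139264, 1), (4096, 1), (135168, 3), (12288, 1), (143360, 11), (2048, 1), (133120, 1),
  (18432, 1), (149504, 1), (1024, 1), (132096, 3), (33792, 1), (164864, 3), (512, 1), (131584, 3),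
  (66048, 1), (197120, 3), (256, 1), (131328, 3), (16640, 1), (147712, 3), (8448, 1), (139520, 1),
  (4352, 1), (135424, 3), (12544, 1), (143616, 11), (2304, 1), (133376, 1), (18688, 1),
  (149760, 1), (128, 1), (131200, 3), (32896, 1), (163968, 3), (8320, 515), (139392, 1),
  (4224, 522), (135296, 522), (12416, 522), (143488, 522), (1152, 546), (132224, 546),
  (33920, 546), (164992, 546), (64, 1), (131136, 1), (32832, 1), (163904, 1), (16448, 1),
  (147520, 1), (2112, 1), (18496, 1), (1088, 1), (33856, 1), (32, 1), (131104, 3), (288, 1),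
  (131360, 3), (160, 1), (131232, 3), (96, 1), (131168, 1), (16, 1), (131088, 1), (272, 1),
  (131344, 1), (144, 1), (131216, 1), (80, 1), (131152, 1), (208, 1), (131280, 1), (8, 1),
  (131080, 3), (264, 1), (131336, 3), (136, 1), (131208, 3), (392, 1), (131464, 3), (72, 1),
  (131144, 1), (328, 1), (131400, 1), (4, 1), (131076, 3), (65540, 1), (196612, 3), (16388, 1),
  (147460, 3), (2052, 1027), (133124, 1), (18436, 1027), (149508, 1), (516, 1058), (131588, 1058),
  (66052, 1058), (197124, 1058), (132, 1), (131204, 3), (20, 1), (131092, 1), (2, 1), (131074, 1),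
  (65538, 1), (196610, 1), (8194, 1), (139266, 1), (4098, 1), (135170, 1), (12290, 1), (143362, 1),
  (514, 1), (66050, 1), (66, 1), (131138, 1), (34, 1), (131106, 1), (98, 1), (131170, 1),
  (1, 131074), (131073, 0), (65537, 131074), (196609, 0), (32769, 131074), (163841, 0),
  (1025, 131074), (132097, 0), (33793, 131074), (164865, 0), (513, 131074), (131585, 0),
  (66049, 131074), (197121, 0), (257, 131074), (131329, 0), (9, 131074), (131081, 0)]

def lev19 : List (ℕ × ℕ) := [
  (0, 1), (262144, 4), (131072, 6), (65536, 1), (327680, 4), (196608, 6), (32768, 1), (294912, 4),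
  (163840, 6), (16384, 1), (278528, 1), (147456, 6), (8192, 1), (270336, 4), (139264, 1),
  (401408, 4), (4096, 1), (266240, 4), (135168, 6), (12288, 1), (274432, 4), (143360, 22),
  (2048, 1), (264192, 4), (133120, 6), (395264, 6), (18432, 1), (280576, 36), (149504, 6),
  (411648, 6), (1024, 1), (263168, 1), (132096, 1), (33792, 1), (295936, 1), (164864, 1), (512, 1),
  (262656, 4), (131584, 6), (66048, 1), (328192, 4), (197120, 6), (256, 1), (262400, 4),
  (131328, 6), (16640, 516), (278784, 1), (147712, 6), (8448, 518), (270592, 518), (139520, 1),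
  (401664, 4), (4352, 530), (266496, 530), (135424, 530), (12544, 530), (274688, 530),
  (143616, 530), (2304, 546), (264448, 546), (133376, 546), (395520, 546), (18688, 546),
  (280832, 546), (149760, 546), (411904, 546), (128, 1), (262272, 1), (131200, 6), (32896, 1),
  (295040, 1), (163968, 6), (8320, 1), (139392, 1), (401536, 1), (4224, 1), (135296, 6),
  (12416, 1), (143488, 22), (1152, 1), (132224, 1), (33920, 1), (164992, 1), (64, 1), (262208, 4),
  (131136, 1), (393280, 4), (32832, 1), (294976, 4), (163904, 1), (426048, 4), (16448, 1),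
  (278592, 1), (147520, 1), (409664, 1), (2112, 1), (264256, 4), (18496, 1), (280640, 36),
  (1088, 1), (263232, 1), (33856, 1), (296000, 1), (32, 1), (262176, 4), (131104, 6), (288, 1),
  (262432, 4), (131360, 6), (160, 1), (262304, 1), (131232, 6), (96, 1), (262240, 4), (131168, 1),
  (393312, 4), (16, 1), (262160, 4), (131088, 6), (393232, 6), (272, 1), (262416, 4), (131344, 6),
  (393488, 6), (144, 1), (262288, 1), (131216, 6), (393360, 6), (80, 1), (262224, 4), (131152, 1),
  (393296, 4), (208, 1), (262352, 8), (131280, 8), (393424, 1), (8, 1), (262152, 1), (131080, 1),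
  (264, 1), (262408, 1), (131336, 1), (136, 1), (262280, 1), (131208, 1), (392, 1), (262536, 1),
  (131464, 1), (72, 1), (262216, 1), (131144, 1), (393288, 1), (328, 1), (262472, 1), (131400, 1),
  (393544, 1), (4, 131074), (262148, 131074), (131076, 0), (65540, 131074), (327684, 131074),
  (196612, 0), (16388, 131074), (278532, 131074), (147460, 0), (2052, 131074), (133124, 0),
  (395268, 0), (18436, 131074), (149508, 0), (411652, 0), (516, 131074), (131588, 0),
  (66052, 131074), (197124, 0), (132, 131074), (262276, 131074), (131204, 0), (20, 131074),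
  (262164, 131074), (131092, 0), (393236, 0), (2, 262146), (262146, 0), (131074, 262146),
  (393218, 0), (65538, 262146), (327682, 0), (196610, 262146), (458754, 0), (8194, 262146),
  (270338, 0), (139266, 262146), (401410, 0), (4098, 262146), (266242, 0), (135170, 262146),
  (397314, 0), (12290, 262146), (274434, 0), (143362, 262146), (405506, 0), (514, 262146),
  (262658, 0), (66050, 262146), (328194, 0), (66, 262146), (262210, 0), (131138, 262146),
  (393282, 0), (34, 262146), (262178, 0), (131106, 262146), (393250, 0), (98, 262146), (262242, 0),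
  (131170, 262146), (393314, 0), (1, 1), (65537, 1), (32769, 1), (1025, 133126), (33793, 133126),
  (513, 2082), (66049, 2082), (257, 1), (9, 1)]

def lev20 : List (ℕ × ℕ) := [
  (0, 1), (524288, 10), (262144, 18), (131072, 34), (65536, 514), (589824, 514), (327680, 514),
  (196608, 514), (32768, 1026), (557056, 1026), (294912, 1026), (163840, 1026), (16384, 2050),
  (540672, 2050), (278528, 2050), (802816, 2050), (147456, 2050), (8192, 4098), (532480, 4098),
  (270336, 4098), (139264, 4098), (663552, 4098), (401408, 4098), (4096, 8194), (528384, 8194),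
  (266240, 8194), (135168, 8194), (12288, 0), (536576, 0), (274432, 0), (143360, 0), (2048, 16386),
  (526336, 16386), (264192, 16386), (133120, 16386), (395264, 16386), (18432, 0), (542720, 0),
  (280576, 0), (149504, 0), (411648, 0), (1024, 32770), (525312, 32770), (263168, 32770),
  (787456, 32770), (132096, 32770), (656384, 32770), (33792, 0), (558080, 0), (295936, 0),
  (820224, 0), (164864, 0), (689152, 0), (512, 65538), (524800, 65538), (262656, 65538),
  (131584, 65538), (66048, 0), (590336, 0), (328192, 0), (197120, 0), (256, 1), (524544, 10),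
  (262400, 18), (131328, 34), (16640, 2050), (278784, 2050), (803072, 2050), (147712, 2050),
  (8448, 4098), (270592, 4098), (139520, 4098), (663808, 4098), (401664, 4098), (4352, 8194),
  (266496, 8194), (135424, 8194), (12544, 0), (274688, 0), (143616, 0), (2304, 16386),
  (264448, 16386), (133376, 16386), (395520, 16386), (18688, 0), (280832, 0), (149760, 0),
  (411904, 0), (128, 1), (524416, 10), (262272, 18), (786560, 18), (131200, 34), (32896, 1026),
  (557184, 1026), (295040, 1026), (819328, 1026), (163968, 1026), (8320, 4098), (532608, 4098),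
  (139392, 4098), (663680, 4098), (401536, 4098), (925824, 4098), (4224, 8194), (528512, 8194),
  (135296, 8194), (12416, 0), (536704, 0), (143488, 0), (1152, 32770), (525440, 32770),
  (132224, 32770), (656512, 32770), (33920, 0), (558208, 0), (164992, 0), (689280, 0), (64, 1),
  (524352, 10), (262208, 18), (131136, 34), (655424, 34), (393280, 34), (32832, 1026),
  (557120, 1026), (294976, 1026), (163904, 1026), (688192, 1026), (426048, 1026), (16448, 2050),
  (540736, 2050), (278592, 2050), (802880, 2050), (147520, 2050), (671808, 2050), (409664, 2050),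
  (933952, 2050), (2112, 16386), (526400, 16386), (264256, 16386), (18496, 0), (542784, 0),
  (280640, 0), (1088, 32770), (525376, 32770), (263232, 32770), (787520, 32770), (33856, 0),
  (558144, 0), (296000, 0), (820288, 0), (32, 131074), (524320, 131074), (262176, 131074),
  (131104, 0), (288, 131074), (524576, 131074), (262432, 131074), (131360, 0), (160, 131074),
  (524448, 131074), (262304, 131074), (786592, 131074), (131232, 0), (96, 131074),
  (524384, 131074), (262240, 131074), (131168, 0), (655456, 0), (393312, 0), (16, 262146),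
  (524304, 262146), (262160, 0), (131088, 262146), (393232, 0), (272, 262146), (524560, 262146),
  (262416, 0), (131344, 262146), (393488, 0), (144, 262146), (524432, 262146), (262288, 0),
  (786576, 0), (131216, 262146), (393360, 0), (80, 262146), (524368, 262146), (262224, 0),
  (131152, 262146), (655440, 262146), (393296, 0), (208, 262146), (524496, 262146), (262352, 0),
  (131280, 262146), (393424, 0), (917712, 0), (8, 524290), (524296, 0), (262152, 524290),
  (786440, 0), (131080, 524290), (655368, 0), (264, 524290), (524552, 0), (262408, 524290),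
  (786696, 0), (131336, 524290), (655624, 0), (136, 524290), (524424, 0), (262280, 524290),
  (786568, 0), (131208, 524290), (655496, 0), (392, 524290), (524680, 0), (262536, 524290),
  (786824, 0), (131464, 524290), (655752, 0), (72, 524290), (524360, 0), (262216, 524290),
  (786504, 0), (131144, 524290), (655432, 0), (393288, 524290), (917576, 0), (328, 524290),
  (524616, 0), (262472, 524290), (786760, 0), (131400, 524290), (655688, 0), (393544, 524290),
  (917832, 0), (4, 1), (262148, 18), (65540, 514), (327684, 514), (16388, 2050), (278532, 2050),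
  (2052, 16386), (18436, 0), (516, 65538), (66052, 0), (132, 1), (262276, 18), (20, 262146),
  (262164, 0), (2, 1), (131074, 34), (65538, 514), (196610, 514), (8194, 4098), (139266, 4098),
  (4098, 8194), (135170, 8194), (12290, 0), (143362, 0), (514, 65538), (66050, 0), (66, 1),
  (131138, 34), (34, 131074), (131106, 0), (98, 131074), (131170, 0), (1, 1), (524289, 10),
  (65537, 514), (589825, 514), (32769, 1026), (557057, 1026), (1025, 32770), (33793, 0),
  (513, 65538), (66049, 0), (257, 1), (524545, 10), (9, 524290), (524297, 0)]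

def lev21 : List (ℕ × ℕ) := [
  (0, 1), (1048576, 1), (524288, 1), (262144, 66), (131072, 130), (65536, 1), (589824, 522),
  (327680, 66), (196608, 130), (32768, 1), (557056, 1), (294912, 66), (163840, 130), (16384, 1),
  (540672, 2058), (278528, 66), (802816, 66), (147456, 130), (8192, 1), (532480, 4106),
  (270336, 66), (139264, 130), (663552, 130), (401408, 130), (4096, 1), (528384, 1), (266240, 1),
  (135168, 130), (2048, 1), (526336, 1), (264192, 66), (133120, 1), (395264, 66), (1024, 1),
  (525312, 32778), (263168, 66), (787456, 66), (132096, 130), (656384, 130), (512, 1), (524800, 1),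
  (262656, 1), (131584, 1), (256, 1), (1048832, 1), (524544, 1), (262400, 66), (131328, 130),
  (16640, 1042), (278784, 66), (803072, 66), (147712, 130), (8448, 1058), (270592, 66),
  (139520, 130), (663808, 130), (401664, 130), (4352, 1090), (266496, 1), (135424, 130),
  (2304, 1154), (264448, 1154), (133376, 1), (395520, 66), (128, 131074), (1048704, 131074),
  (524416, 131074), (262272, 131074), (786560, 131074), (131200, 0), (32896, 131074),
  (557184, 131074), (295040, 131074), (819328, 131074), (163968, 0), (8320, 131074),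
  (532608, 131074), (139392, 0), (663680, 0), (401536, 0), (925824, 0), (4224, 131074),
  (528512, 131074), (135296, 0), (1152, 131074), (525440, 131074), (132224, 0), (656512, 0),
  (64, 262146), (1048640, 262146), (524352, 262146), (262208, 0), (131136, 262146),
  (655424, 262146), (393280, 0), (32832, 262146), (557120, 262146), (294976, 0), (163904, 262146),
  (688192, 262146), (426048, 0), (16448, 262146), (540736, 262146), (278592, 0), (802880, 0),
  (147520, 262146), (671808, 262146), (409664, 0), (933952, 0), (2112, 262146), (526400, 262146),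
  (264256, 0), (1088, 262146), (525376, 262146), (263232, 0), (787520, 0), (32, 1),
  (524320, 131082), (262176, 66), (288, 1), (524576, 131082), (262432, 66), (160, 1), (524448, 1),
  (262304, 66), (786592, 66), (96, 262146), (524384, 262146), (262240, 0), (16, 1),
  (524304, 262154), (131088, 130), (272, 1), (524560, 262154), (131344, 130), (144, 131074),
  (524432, 131074), (131216, 0), (80, 1), (524368, 1), (131152, 130), (655440, 130), (208, 131074),
  (524496, 131074), (131280, 0), (8, 1), (262152, 66), (131080, 130), (264, 33794),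
  (262408, 33794), (131336, 33794), (136, 131074), (262280, 131074), (131208, 0), (392, 131074),
  (262536, 131074), (131464, 0), (72, 262146), (262216, 0), (131144, 262146), (393288, 0),
  (328, 262146), (262472, 0), (131400, 262146), (393544, 0), (4, 1), (1048580, 1), (262148, 1),
  (65540, 1), (327684, 1), (16388, 1), (278532, 1), (2052, 1), (516, 1), (132, 1), (1048708, 1),
  (262276, 1), (20, 1), (2, 1), (1048578, 1), (131074, 1), (65538, 1), (196610, 1), (8194, 1),
  (139266, 1), (4098, 1), (135170, 1), (514, 1), (66, 1), (1048642, 1), (131138, 1), (34, 1),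
  (98, 1), (1, 1), (1048577, 1), (524289, 1), (65537, 1), (589825, 522), (32769, 1), (557057, 1),
  (1025, 8226), (513, 139394), (257, 1), (1048833, 1), (524545, 1), (9, 12290)]

def lev22 : List (ℕ × ℕ) := [
  (0, 1), (2097152, 4), (1048576, 1), (3145728, 4), (524288, 66), (2621440, 66), (262144, 1),
  (131072, 258), (65536, 1), (2162688, 4), (589824, 66), (327680, 530), (196608, 258), (32768, 1),
  (2129920, 4), (557056, 66), (2654208, 66), (294912, 1042), (163840, 258), (16384, 1),
  (2113536, 1), (540672, 66), (278528, 1), (802816, 2122), (147456, 258), (8192, 1), (2105344, 4),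
  (532480, 66), (270336, 4114), (139264, 258), (663552, 258), (401408, 258), (4096, 1),
  (2101248, 4), (528384, 1), (2625536, 4), (266240, 1), (2363392, 1), (135168, 258), (2048, 1),
  (2099200, 4), (526336, 66), (2623488, 66), (264192, 16402), (133120, 258), (2230272, 258),
  (395264, 258), (1024, 1), (2098176, 1), (525312, 66), (263168, 1), (787456, 32842), (132096, 1),
  (656384, 66), (512, 1), (2097664, 4), (524800, 1), (2621952, 4), (262656, 1), (2359808, 1),
  (131584, 1), (2228736, 4), (256, 131074), (2097408, 131074), (1048832, 131074),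
  (3145984, 131074), (524544, 131074), (2621696, 131074), (262400, 131074), (131328, 0),
  (16640, 131074), (278784, 131074), (803072, 131074), (147712, 0), (8448, 131074),
  (270592, 131074), (139520, 0), (663808, 0), (401664, 0), (4352, 131074), (266496, 131074),
  (2363648, 131074), (135424, 0), (2304, 131074), (264448, 131074), (133376, 0), (2230528, 0),
  (395520, 0), (128, 1), (1048704, 1), (524416, 66), (262272, 1), (786560, 131138), (32896, 2058),
  (557184, 66), (295040, 1042), (819328, 131138), (8320, 2082), (532608, 66), (4224, 2114),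
  (528512, 1), (1152, 133378), (525440, 133378), (64, 524290), (1048640, 524290), (524352, 0),
  (131136, 524290), (655424, 0), (32832, 524290), (557120, 0), (163904, 524290), (688192, 0),
  (16448, 524290), (540736, 0), (147520, 524290), (671808, 0), (2112, 524290), (526400, 0),
  (1088, 524290), (525376, 0), (32, 1), (2097184, 4), (524320, 66), (262176, 131090), (288, 1),
  (2097440, 4), (524576, 66), (262432, 1), (160, 1), (2097312, 1), (524448, 66), (2621600, 66),
  (262304, 131154), (786592, 1), (96, 524290), (524384, 0), (16, 1), (2097168, 4), (524304, 66),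
  (131088, 258), (272, 131074), (2097424, 131074), (524560, 131074), (131344, 0), (144, 18434),
  (524432, 18434), (80, 524290), (2097232, 524290), (524368, 0), (2621520, 0), (131152, 524290),
  (655440, 0), (208, 524290), (524496, 0), (8, 1), (2097160, 1), (262152, 524370), (131080, 258),
  (264, 131074), (262408, 131074), (131336, 0), (136, 1), (262280, 655378), (392, 164866),
  (262536, 164866), (72, 1), (131144, 258), (328, 131074), (131400, 0), (4, 1), (2097156, 4),
  (1048580, 1), (3145732, 4), (262148, 1), (2359300, 131076), (65540, 1), (2162692, 4),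
  (327684, 530), (2424836, 530), (16388, 8196), (2113540, 1), (278532, 139268), (2375684, 1),
  (2052, 8226), (2099204, 8226), (516, 139522), (2097668, 139522), (132, 1), (2097284, 68),
  (1048708, 1), (3145860, 68), (262276, 131140), (2359428, 1), (20, 12290), (2097172, 12290),
  (2, 2097154), (2097154, 0), (1048578, 2097154), (3145730, 0), (131074, 2097154), (2228226, 0),
  (65538, 2097154), (2162690, 0), (196610, 2097154), (2293762, 0), (8194, 2097154), (2105346, 0),
  (139266, 2097154), (2236418, 0), (4098, 2097154), (2101250, 0), (135170, 2097154), (2232322, 0),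
  (514, 2097154), (2097666, 0), (66, 2097154), (2097218, 0), (1048642, 2097154), (3145794, 0),
  (131138, 2097154), (2228290, 0), (34, 2097154), (2097186, 0), (98, 2097154), (2097250, 0),
  (1, 1), (2097153, 1), (1048577, 1), (3145729, 1), (524289, 1), (2621441, 1), (65537, 1),
  (2162689, 1), (589825, 1), (32769, 1), (2129921, 1), (557057, 1), (2654209, 1), (1025, 1),
  (513, 1), (257, 1), (2097409, 1), (1048833, 1), (3145985, 1), (524545, 1), (2621697, 1), (9, 1)]

def lev23 : List (ℕ × ℕ) := [
  (0, 1), (4194304, 3), (2097152, 6), (1048576, 1), (5242880, 3), (3145728, 6), (524288, 130),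
  (2621440, 130), (262144, 258), (4456448, 258), (131072, 1), (65536, 1), (4259840, 3),
  (2162688, 6), (589824, 130), (327680, 258), (196608, 546), (32768, 1), (4227072, 3),
  (2129920, 6), (557056, 130), (2654208, 130), (294912, 258), (163840, 1058), (16384, 1),
  (4210688, 3), (2113536, 6), (6307840, 6), (540672, 130), (278528, 258), (4472832, 258),
  (802816, 258), (147456, 2082), (8192, 1), (4202496, 1), (2105344, 1), (532480, 130),
  (270336, 258), (139264, 1), (663552, 4234), (401408, 4370), (4096, 1), (4198400, 3),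
  (2101248, 6), (528384, 130), (4722688, 130), (2625536, 130), (266240, 258), (4460544, 258),
  (2363392, 258), (6557696, 258), (135168, 8226), (2048, 1), (4196352, 1), (2099200, 6),
  (526336, 1), (2623488, 6), (264192, 258), (133120, 1), (2230272, 1), (395264, 16658), (1024, 1),
  (4195328, 3), (2098176, 1), (6292480, 3), (525312, 130), (263168, 1), (4457472, 3),
  (787456, 130), (132096, 1), (4326400, 1), (656384, 32906), (512, 1), (4194816, 3), (2097664, 6),
  (524800, 1), (4719104, 3), (2621952, 6), (262656, 1), (4456960, 3), (2359808, 6), (6554112, 6),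
  (131584, 1), (4325888, 1), (2228736, 1), (256, 262146), (2097408, 262146), (1048832, 262146),
  (3145984, 262146), (524544, 262146), (2621696, 262146), (262400, 0), (16640, 262146),
  (278784, 0), (803072, 0), (8448, 262146), (270592, 0), (4352, 262146), (266496, 0), (2363648, 0),
  (2304, 262146), (264448, 0), (128, 524290), (4194432, 524290), (1048704, 524290),
  (5243008, 524290), (524416, 0), (262272, 524290), (4456576, 524290), (786560, 0),
  (32896, 524290), (557184, 0), (295040, 524290), (819328, 0), (8320, 524290), (532608, 0),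
  (4224, 524290), (528512, 0), (4722816, 0), (1152, 524290), (525440, 0), (64, 1), (1048640, 1),
  (131136, 1), (32832, 4106), (163904, 1058), (16448, 4114), (147520, 2082), (2112, 528514),
  (1088, 266498), (32, 1), (4194336, 3), (2097184, 6), (524320, 130), (262176, 258), (288, 262146),
  (4194592, 262146), (2097440, 262146), (524576, 262146), (262432, 0), (4456736, 0), (160, 524290),
  (4194464, 524290), (2097312, 524290), (6291616, 524290), (524448, 0), (2621600, 0),
  (262304, 524290), (786592, 0), (4980896, 0), (96, 12290), (16, 1), (4194320, 1), (2097168, 6),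
  (524304, 130), (131088, 262434), (272, 1), (2097424, 6), (524560, 130), (144, 524290),
  (524432, 0), (80, 1), (2097232, 1), (131152, 786594), (208, 542722), (8, 1), (4194312, 3),
  (2097160, 1), (6291464, 3), (262152, 258), (131080, 524450), (264, 262146), (262408, 0),
  (136, 1), (4194440, 3), (262280, 258), (392, 262146), (262536, 0), (72, 1), (4194376, 1),
  (131144, 786722), (328, 295938), (4, 2097154), (4194308, 2097154), (2097156, 0),
  (1048580, 2097154), (5242884, 2097154), (3145732, 0), (262148, 2097154), (4456452, 2097154),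
  (2359300, 0), (65540, 2097154), (4259844, 2097154), (2162692, 0), (327684, 2097154),
  (2424836, 0), (16388, 2097154), (2113540, 0), (6307844, 0), (278532, 2097154), (2375684, 0),
  (6569988, 0), (2052, 2097154), (2099204, 0), (516, 2097154), (2097668, 0), (132, 2097154),
  (4194436, 2097154), (2097284, 0), (1048708, 2097154), (5243012, 2097154), (3145860, 0),
  (262276, 2097154), (2359428, 0), (6553732, 0), (20, 2097154), (2097172, 0), (2, 1), (1048578, 1),
  (131074, 1), (65538, 1), (196610, 546), (8194, 2113542), (139266, 2375686), (4098, 16402),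
  (135170, 8226), (514, 278786), (66, 1), (1048642, 1), (131138, 2359430), (34, 18434),
  (98, 12290), (1, 4194306), (4194305, 0), (2097153, 4194306), (6291457, 0), (1048577, 4194306),
  (5242881, 0), (3145729, 4194306), (7340033, 0), (524289, 4194306), (4718593, 0),
  (2621441, 4194306), (6815745, 0), (65537, 4194306), (4259841, 0), (2162689, 4194306),
  (6356993, 0), (589825, 4194306), (4784129, 0), (32769, 4194306), (4227073, 0),
  (2129921, 4194306), (6324225, 0), (557057, 4194306), (4751361, 0), (2654209, 4194306),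
  (6848513, 0), (1025, 4194306), (4195329, 0), (513, 4194306), (4194817, 0), (257, 4194306),
  (4194561, 0), (2097409, 4194306), (6291713, 0), (1048833, 4194306), (5243137, 0),
  (3145985, 4194306), (7340289, 0), (524545, 4194306), (4718849, 0), (2621697, 4194306),
  (6816001, 0), (9, 4194306), (4194313, 0)]

/-- representatives of the `U`-classes of elements with square `1` -/
def reps : List ℕ := [
  0, 8388608, 4194304, 2097152, 1048576, 9437184, 5242880, 3145728, 524288, 2621440, 262144,
  4456448, 131072, 8519680, 65536, 8454144, 4259840, 2162688, 589824, 327680, 196608, 32768,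
  8421376, 4227072, 2129920, 557056, 2654208, 294912, 163840, 16384, 8404992, 4210688, 2113536,
  6307840, 540672, 278528, 4472832, 802816, 147456, 8192, 8396800, 4202496, 12591104, 2105344,
  10493952, 532480, 270336, 139264, 8527872, 663552, 401408, 4096, 8392704, 4198400, 2101248,
  528384, 4722688, 2625536, 266240, 4460544, 2363392, 6557696, 135168, 2048, 8390656, 4196352,
  12584960, 2099200, 526336, 8914944, 2623488, 264192, 133120, 8521728, 2230272, 10618880, 395264,
  1024, 8389632, 4195328, 2098176, 10486784, 6292480, 525312, 263168, 8651776, 4457472, 787456,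
  132096, 8520704, 4326400, 12715008, 656384, 512, 8389120, 4194816, 2097664, 524800, 8913408,
  4719104, 2621952, 262656, 8651264, 4456960, 2359808, 6554112, 131584, 8520192, 4325888, 12714496,
  2228736, 10617344, 256, 2097408, 1048832, 3145984, 524544, 2621696, 16640, 8448, 4352, 2304, 128,
  4194432, 1048704, 5243008, 262272, 4456576, 32896, 295040, 8320, 4224, 1152, 64, 8388672,
  1048640, 9437248, 131136, 8519744, 32832, 163904, 16448, 147520, 2112, 1088, 32, 8388640,
  4194336, 2097184, 524320, 262176, 288, 4194592, 2097440, 524576, 160, 4194464, 2097312, 6291616,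
  262304, 96, 16, 8388624, 4194320, 12582928, 2097168, 524304, 131088, 272, 8388880, 2097424,
  524560, 144, 80, 8388688, 2097232, 10485840, 131152, 208, 8, 8388616, 4194312, 2097160, 10485768,
  6291464, 262152, 131080, 264, 136, 8388744, 4194440, 262280, 392, 72, 8388680, 4194376, 12582984,
  131144, 328, 4, 4194308, 1048580, 5242884, 262148, 4456452, 65540, 4259844, 327684, 16388,
  278532, 2052, 516, 132, 4194436, 1048708, 5243012, 262276, 20, 2, 8388610, 1048578, 9437186,
  131074, 8519682, 65538, 8454146, 196610, 8194, 139266, 4098, 135170, 514, 66, 8388674, 1048642,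
  9437250, 131138, 34, 98, 1, 2097153, 1048577, 3145729, 524289, 2621441, 65537, 2162689, 589825,
  32769, 2129921, 557057, 2654209, 1025, 513, 257, 2097409, 1048833, 3145985, 524545, 2621697, 9]

/-- entries `(r, c, i, c', r')`: conjugate `r` by `c`, then by `n_i`, then by `c'`, get `r'` -/
def fus : List (ℕ × ℕ × ℕ × ℕ × ℕ) := [
  (65536, 0, 0, 0, 1048576), (4194304, 0, 3, 0, 8388608), (5242880, 0, 3, 0, 9437184),
  (8454144, 0, 0, 0, 9437184), (589824, 0, 0, 0, 1048832), (3145984, 520, 0, 512, 1048832),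
  (1048704, 0, 2, 0, 1048832), (32768, 0, 1, 0, 65536), (2097152, 0, 2, 0, 4194304),
  (3145728, 0, 2, 0, 5242880), (4259840, 0, 0, 0, 5242880), (8421376, 0, 1, 0, 8454144),
  (327680, 0, 2, 0, 589824), (2129920, 0, 1, 0, 589824), (2654208, 0, 1, 520, 589824),
  (2621696, 8, 1, 0, 3145984), (5243008, 0, 2, 0, 3145984), (1048640, 0, 3, 0, 1048704),
  (1048580, 0, 1, 0, 1048704), (16384, 0, 2, 0, 32768), (524288, 0, 1, 0, 2097152),
  (2621440, 8, 1, 0, 3145728), (2162688, 0, 0, 0, 3145728), (4227072, 0, 1, 0, 4259840),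
  (8404992, 0, 2, 0, 8421376), (196608, 0, 3, 0, 327680), (294912, 0, 1, 0, 327680),
  (4210688, 0, 2, 0, 2129920), (6307840, 0, 2, 2, 2129920), (4472832, 0, 2, 0, 2654208),
  (4456576, 0, 2, 0, 2621696), (9437248, 0, 3, 0, 5243008), (5242884, 0, 1, 0, 5243008),
  (1048578, 0, 1, 0, 1048640), (65540, 0, 0, 0, 1048580), (1048577, 0, 2, 0, 1048580),
  (8192, 0, 3, 0, 16384), (4096, 0, 1, 0, 16384), (262144, 0, 2, 0, 524288),
  (256, 0, 0, 0, 524288), (4456448, 0, 2, 0, 2621440), (2097408, 0, 0, 0, 2621440),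
  (557056, 0, 1, 0, 2162688), (2113536, 0, 2, 0, 4227072), (4202496, 0, 3, 0, 8404992),
  (8392704, 0, 1, 0, 8404992), (163840, 0, 1, 0, 196608), (540672, 0, 2, 0, 294912),
  (802816, 0, 2, 2, 294912), (32896, 0, 0, 0, 294912), (8396800, 0, 3, 0, 4210688),
  (12591104, 0, 3, 1, 4210688), (4198400, 0, 1, 0, 4210688), (10493952, 0, 3, 0, 6307840),
  (4722688, 0, 1, 0, 6307840), (8527872, 0, 3, 0, 4472832), (4460544, 0, 1, 0, 4472832),
  (8519744, 0, 3, 0, 4456576), (4456452, 0, 1, 0, 4456576), (9437186, 0, 1, 0, 9437248),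
  (4259844, 0, 0, 0, 5242884), (3145729, 0, 2, 0, 5242884), (65538, 0, 0, 0, 1048578),
  (65537, 0, 2, 0, 65540), (2048, 0, 1, 0, 8192), (32, 0, 0, 0, 4096), (131072, 0, 3, 0, 262144),
  (128, 0, 0, 0, 262144), (8519680, 0, 3, 0, 4456448), (4194432, 0, 0, 0, 4456448),
  (524544, 0, 1, 0, 2097408), (278528, 0, 2, 0, 557056), (2105344, 0, 3, 0, 2113536),
  (528384, 0, 1, 0, 2113536), (4196352, 0, 1, 0, 4202496), (8388640, 0, 0, 0, 8392704),
  (147456, 0, 2, 0, 163840), (32832, 0, 0, 0, 163840), (532480, 0, 3, 0, 540672),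
  (2101248, 0, 1, 0, 540672), (2625536, 8192, 1, 8, 540672), (16640, 0, 0, 0, 540672),
  (663552, 0, 3, 0, 802816), (2363392, 0, 1, 0, 802816), (6557696, 0, 1, 2120, 802816),
  (295040, 514, 0, 128, 802816), (8390656, 0, 1, 0, 8396800), (12584960, 0, 1, 0, 12591104),
  (4194336, 0, 0, 0, 4198400), (8914944, 0, 1, 0, 10493952), (4194592, 0, 0, 0, 4722688),
  (8521728, 0, 1, 0, 8527872), (4194464, 0, 0, 0, 4460544), (8519682, 0, 1, 0, 8519744),
  (4194436, 0, 0, 0, 4456452), (2621441, 0, 2, 0, 4456452), (8454146, 0, 0, 0, 9437186),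
  (2162689, 0, 2, 0, 4259844), (32769, 0, 1, 0, 65537), (1024, 0, 2, 0, 2048), (16, 0, 0, 0, 2048),
  (64, 0, 0, 0, 131072), (4, 0, 1, 0, 128), (8388672, 0, 0, 0, 8519680),
  (4194308, 0, 1, 0, 4194432), (262272, 0, 2, 0, 524544), (139264, 0, 3, 0, 278528),
  (266240, 0, 1, 0, 278528), (526336, 0, 1, 0, 2105344), (288, 0, 0, 0, 528384),
  (2098176, 0, 2, 0, 4196352), (4194320, 0, 0, 0, 4196352), (270336, 0, 3, 0, 147456),
  (401408, 0, 3, 1, 147456), (135168, 0, 1, 0, 147456), (16448, 0, 0, 0, 147456),
  (2099200, 0, 1, 0, 532480), (2623488, 0, 1, 4104, 532480), (8448, 0, 0, 0, 532480),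
  (2097184, 0, 0, 0, 2101248), (2097440, 0, 0, 0, 2625536), (4352, 0, 1, 0, 16640),
  (2230272, 0, 1, 0, 663552), (10618880, 16384, 1, 136, 663552), (163904, 516, 0, 64, 663552),
  (2097312, 0, 0, 0, 2363392), (6291616, 0, 0, 0, 6557696), (327684, 0, 1, 0, 295040),
  (8389632, 0, 2, 0, 8390656), (8388624, 0, 0, 0, 8390656), (10486784, 0, 2, 0, 12584960),
  (12582928, 0, 0, 0, 12584960), (8651776, 0, 2, 0, 8914944), (8388880, 0, 0, 0, 8914944),
  (8520704, 0, 2, 0, 8521728), (8388688, 0, 0, 0, 8521728), (8388674, 0, 0, 0, 8519682),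
  (2097409, 0, 2, 0, 4194436), (557057, 0, 1, 0, 2162689), (16388, 0, 2, 0, 32769),
  (2129921, 3, 2, 8194, 32769), (512, 0, 1, 0, 1024), (8, 0, 0, 0, 1024), (2, 0, 1, 0, 64),
  (1, 0, 2, 0, 4), (8388610, 0, 1, 0, 8388672), (2097153, 0, 2, 0, 4194308),
  (131136, 0, 3, 0, 262272), (262148, 0, 1, 0, 262272), (133120, 0, 1, 0, 139264),
  (160, 0, 0, 0, 266240), (263168, 0, 2, 0, 526336), (272, 0, 0, 0, 526336),
  (524800, 0, 1, 0, 2098176), (2097160, 0, 0, 0, 2098176), (264192, 0, 1, 0, 270336),
  (8320, 0, 0, 0, 270336), (395264, 0, 1, 0, 401408), (147520, 513, 0, 64, 401408),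
  (96, 0, 0, 0, 135168), (4098, 0, 1, 0, 16448), (4195328, 0, 2, 0, 2099200),
  (6292480, 0, 2, 2, 2099200), (2097168, 0, 0, 0, 2099200), (4457472, 0, 2, 0, 2623488),
  (2097424, 0, 0, 0, 2623488), (2304, 0, 1, 0, 8448), (524320, 0, 1, 0, 2097184),
  (524576, 0, 1, 0, 2097440), (4224, 0, 2, 0, 4352), (4326400, 0, 2, 0, 2230272),
  (2097232, 0, 0, 0, 2230272), (12715008, 0, 2, 0, 10618880), (10485840, 0, 0, 0, 10618880),
  (196610, 0, 1, 0, 163904), (1048708, 131080, 1, 4, 2097312), (5243012, 8, 1, 131073, 6291616),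
  (589825, 0, 2, 0, 327684), (8389120, 0, 1, 0, 8389632), (8388616, 0, 0, 0, 8389632),
  (8913408, 0, 1, 0, 10486784), (10485768, 0, 0, 0, 10486784), (8651264, 0, 1, 0, 8651776),
  (8388744, 0, 0, 0, 8651776), (8520192, 0, 1, 0, 8520704), (8388680, 0, 0, 0, 8520704),
  (524545, 0, 1, 0, 2097409), (278532, 0, 2, 0, 557057), (2654209, 3, 2, 139266, 557057),
  (8194, 0, 3, 0, 16388), (524289, 0, 1, 0, 2097153), (131074, 0, 1, 0, 131136),
  (132, 0, 0, 0, 262148), (132096, 0, 2, 0, 133120), (80, 0, 0, 0, 133120),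
  (262656, 0, 1, 0, 263168), (136, 0, 0, 0, 263168), (525312, 0, 2, 0, 264192),
  (787456, 0, 2, 2, 264192), (144, 0, 0, 0, 264192), (2052, 0, 1, 0, 8320),
  (656384, 0, 2, 0, 395264), (208, 0, 0, 0, 395264), (135170, 0, 1, 0, 147520), (34, 0, 1, 0, 96),
  (4194816, 0, 1, 0, 4195328), (4194312, 0, 0, 0, 4195328), (4719104, 0, 1, 0, 6292480),
  (6291464, 0, 0, 0, 6292480), (524304, 0, 1, 0, 2097168), (4456960, 0, 1, 0, 4457472),
  (4194440, 0, 0, 0, 4457472), (524560, 0, 1, 0, 2097424), (1152, 0, 2, 0, 2304),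
  (262176, 0, 2, 0, 524320), (262304, 0, 2, 0, 524576), (2112, 0, 3, 0, 4224),
  (4325888, 0, 1, 0, 4326400), (4194376, 0, 0, 0, 4326400), (1048642, 2097160, 1, 262144, 2097232),
  (12714496, 0, 1, 0, 12715008), (12582984, 0, 0, 0, 12715008), (9437250, 262152, 1, 2, 10485840),
  (1048833, 0, 2, 0, 1048708), (3145985, 0, 2, 0, 5243012), (262276, 0, 2, 0, 524545),
  (2621697, 131138, 2, 130, 524545), (139266, 0, 3, 0, 278532), (257, 0, 0, 0, 524289),
  (66, 0, 0, 0, 131074), (131584, 0, 1, 0, 132096), (72, 0, 0, 0, 132096),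
  (2097664, 0, 1, 0, 525312), (2621952, 0, 1, 32776, 525312), (264, 0, 0, 0, 525312),
  (2359808, 0, 1, 0, 787456), (6554112, 65538, 1, 8, 787456), (392, 0, 0, 0, 787456),
  (20, 0, 1, 0, 144), (1025, 0, 2, 0, 2052), (2228736, 0, 1, 0, 656384),
  (10617344, 65536, 1, 136, 656384), (328, 0, 0, 0, 656384), (98, 8, 1, 5, 208),
  (262152, 0, 2, 0, 524304), (262280, 0, 2, 0, 524560), (1088, 0, 3, 0, 1152),
  (516, 0, 1, 0, 1152), (131088, 0, 3, 0, 262176), (131152, 0, 3, 0, 262304),
  (131138, 0, 3, 0, 262276), (9, 0, 2, 0, 20), (513, 0, 1, 0, 1025), (131080, 0, 3, 0, 262152),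
  (131144, 0, 3, 0, 262280), (514, 0, 1, 0, 1088)]

/-! ### The tree -/

/-- up to conjugation in `U`, elements with square trivial modulo the bits `≥ k` are, modulo the bits `≥ k`,
among `R` -/
def P (k : ℕ) (R : List ℕ) : Prop :=
  ∀ u, mulU u u % 2 ^ k = 0 → ∃ c, ∃ r ∈ R, conjU c u % 2 ^ k = r

theorem conjU_mulU (c c' a : ℕ) : conjU (mulU c c') a % 2 ^ 24 = conjU c (conjU c' a) % 2 ^ 24 := by
  rw [← mod_24, el_conjU, el_conjU, el_conjU, el_mulU]
  group

theorem mod_of_24 {a b k : ℕ} (hk : k ≤ 24) (h : a % 2 ^ 24 = b % 2 ^ 24) :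
    a % 2 ^ k = b % 2 ^ k := by
  have h1 : 2 ^ k ∣ 2 ^ 24 := pow_dvd_pow 2 hk
  rw [← Nat.mod_mod_of_dvd a h1, h, Nat.mod_mod_of_dvd b h1]

theorem mem_nxt {k : ℕ} : ∀ (l : List (ℕ × ℕ)) (r tag : ℕ), (r, tag) ∈ l → tag ≠ 0 →
    r ∈ nxt k l ∧ (tag = 1 → r + 2 ^ k ∈ nxt k l)
  | [], _, _, h, _ => absurd h (by simp)
  | (s, 0) :: l, r, tag, h, ht => by
    rw [List.mem_cons] at h
    rcases h with h | h
    · rw [Prod.mk.injEq] at h
      exact absurd h.2 ht
    · exact mem_nxt l r tag h ht
  | (s, 1) :: l, r, tag, h, ht => by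
    rw [List.mem_cons] at h
    rcases h with h | h
    · rw [Prod.mk.injEq] at h
      obtain ⟨rfl, rfl⟩ := h
      exact ⟨by simp [nxt], fun _ => by simp [nxt]⟩
    · have h1 := mem_nxt (k := k) l r tag h ht
      exact ⟨by simp [nxt, h1.1], fun h2 => by simp [nxt, h1.2 h2]⟩
  | (s, c + 2) :: l, r, tag, h, ht => by
    rw [List.mem_cons] at h
    rcases h with h | h
    · rw [Prod.mk.injEq] at h
      obtain ⟨rfl, rfl⟩ := h
      exact ⟨by simp [nxt], fun h2 => by omega⟩
    · have h1 := mem_nxt (k := k) l r tag h ht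
      exact ⟨by simp [nxt, h1.1], fun h2 => by simp [nxt, h1.2 h2]⟩

theorem P_step {k : ℕ} (hk : k < 24) (l : List (ℕ × ℕ)) (R' : List ℕ) (hR : nxt k l = R')
    (hl : levOK k l = true) (h : P k (l.map Prod.fst)) : P (k + 1) R' := by
  subst hR
  intro u hu
  have hp : 2 ^ (k + 1) = 2 ^ k * 2 := pow_succ 2 k
  have hd : 2 ^ k ∣ 2 ^ (k + 1) := Dvd.intro _ hp.symm
  have hpos : 0 < 2 ^ k := Nat.two_pow_pos k
  have hu' : mulU u u % 2 ^ k = 0 := by
    rw [← Nat.mod_mod_of_dvd _ hd, hu, Nat.zero_mod]
  obtain ⟨c, r, hr, hc⟩ := h u hu'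
  obtain ⟨⟨r', tag⟩, hmem, hr'⟩ := List.mem_map.1 hr
  have hr'' : r' = r := hr'
  subst hr''
  -- the square of the conjugate
  have hsq : mulU (conjU c u) (conjU c u) % 2 ^ (k + 1) = 0 := by
    have h1 : mulU (conjU c u) (conjU c u) % 2 ^ 24 = conjU c (mulU u u) % 2 ^ 24 := by
      rw [← mod_24, el_mulU, el_conjU, el_conjU, el_mulU]
      group
    have h2 : conjU c (mulU u u) % 2 ^ (k + 1) = conjU c 0 % 2 ^ (k + 1) :=
      conjU_mod (by omega) c (by rw [hu, Nat.zero_mod])
    have h3 : conjU c 0 % 2 ^ 24 = 0 % 2 ^ 24 := by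
      rw [← mod_24, el_conjU, el_zero, mul_one, mul_inv_cancel]
    rw [mod_of_24 (by omega) h1, h2, mod_of_24 (by omega) h3, Nat.zero_mod]
  -- the low `k + 1` bits
  have hcase : conjU c u % 2 ^ (k + 1) = r' ∨ conjU c u % 2 ^ (k + 1) = r' + 2 ^ k := by
    have h1 : conjU c u % 2 ^ (k + 1) % 2 ^ k = r' := by rw [Nat.mod_mod_of_dvd _ hd, hc]
    have h2 : conjU c u % 2 ^ (k + 1) < 2 ^ k * 2 := by rw [hp]; exact Nat.mod_lt _ (by omega)
    generalize conjU c u % 2 ^ (k + 1) = y at h1 h2
    generalize 2 ^ k = z at *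
    have h3 := Nat.div_add_mod y z
    have h4 : y / z < 2 := Nat.div_lt_of_lt_mul h2
    have h5 : y / z = 0 ∨ y / z = 1 := by
      have h6 : ∀ w : ℕ, w < 2 → w = 0 ∨ w = 1 := by omega
      exact h6 _ h4
    rcases h5 with h5 | h5
    · left
      rw [h5] at h3
      omega
    · right
      rw [h5] at h3
      omega
  unfold levOK at hl
  rw [List.all_eq_true] at hl
  have hok := hl (r', tag) hmem
  rw [Bool.and_eq_true] at hok
  have hlt : r' < 2 ^ k := by
    have := hok.2
    rwa [Nat.blt_eq] at this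
  have hmod : ∀ y, y < 2 ^ k * 2 → y % 2 ^ (k + 1) = y := fun y hy => Nat.mod_eq_of_lt (by rw [hp]; exact hy)
  have hmm : ∀ y, mulU (conjU c u) (conjU c u) % 2 ^ (k + 1) = 0 → conjU c u % 2 ^ (k + 1) = y →
      y < 2 ^ k * 2 → mulU y y % 2 ^ (k + 1) = 0 := by
    intro y h1 h2 h3
    have h4 : conjU c u % 2 ^ (k + 1) = y % 2 ^ (k + 1) := by rw [hmod y h3, h2]
    rw [← mulU_mod (by omega) h4 h4, h1]
  match tag, hok, hmem with
  | 0, hok, hmem =>
    exfalso
    have h1 := hok.1
    unfold nodeOK at h1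
    rw [Bool.and_eq_true, Bool.not_eq_true', Bool.not_eq_true'] at h1
    rcases hcase with h2 | h2
    · have h3 := hmm _ hsq h2 (by omega)
      have h4 := h1.1
      change Nat.beq (mulU r' r' % 2 ^ (k + 1)) 0 = false at h4
      rw [h3] at h4
      exact Bool.noConfusion h4
    · have h3 := hmm _ hsq h2 (by omega)
      have h4 := h1.2
      change Nat.beq (mulU (r' + 2 ^ k) (r' + 2 ^ k) % 2 ^ (k + 1)) 0 = false at h4
      rw [h3] at h4
      exact Bool.noConfusion h4
  | 1, hok, hmem =>
    have h1 := mem_nxt (k := k) l r' 1 hmem (by omega)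
    rcases hcase with h2 | h2
    · exact ⟨c, r', h1.1, h2⟩
    · exact ⟨c, r' + 2 ^ k, h1.2 rfl, h2⟩
  | c0 + 2, hok, hmem =>
    have h1 := mem_nxt (k := k) l r' (c0 + 2) hmem (by omega)
    rcases hcase with h2 | h2
    · exact ⟨c, r', h1.1, h2⟩
    · refine ⟨mulU c0 c, r', h1.1, ?_⟩
      have h3 : conjU c u % 2 ^ (k + 1) = (r' + 2 ^ k) % 2 ^ (k + 1) := by
        rw [h2, hmod (r' + 2 ^ k) (by omega)]
      rw [mod_of_24 (by omega) (conjU_mulU c0 c u), conjU_mod (by omega) c0 h3]
      have h4 := hok.1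
      unfold nodeOK at h4
      exact Nat.eq_of_beq_eq_true h4

theorem P_0 : P 0 [0] := by
  intro u _
  refine ⟨0, 0, List.mem_singleton.2 rfl, ?_⟩
  rw [pow_zero, Nat.mod_one]

theorem ok_0 : levOK 0 lev0 = true := by decide +kernel

theorem nx_0 : nxt 0 lev0 = lev1.map Prod.fst := by decide +kernel

theorem P_1 : P 1 (lev1.map Prod.fst) := P_step (by omega) lev0 _ nx_0 ok_0 P_0

theorem ok_1 : levOK 1 lev1 = true := by decide +kernel

theorem nx_1 : nxt 1 lev1 = lev2.map Prod.fst := by decide +kernel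

theorem P_2 : P 2 (lev2.map Prod.fst) := P_step (by omega) lev1 _ nx_1 ok_1 P_1

theorem ok_2 : levOK 2 lev2 = true := by decide +kernel

theorem nx_2 : nxt 2 lev2 = lev3.map Prod.fst := by decide +kernel

theorem P_3 : P 3 (lev3.map Prod.fst) := P_step (by omega) lev2 _ nx_2 ok_2 P_2

theorem ok_3 : levOK 3 lev3 = true := by decide +kernel

theorem nx_3 : nxt 3 lev3 = lev4.map Prod.fst := by decide +kernel

theorem P_4 : P 4 (lev4.map Prod.fst) := P_step (by omega) lev3 _ nx_3 ok_3 P_3

theorem ok_4 : levOK 4 lev4 = true := by decide +kernel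

theorem nx_4 : nxt 4 lev4 = lev5.map Prod.fst := by decide +kernel

theorem P_5 : P 5 (lev5.map Prod.fst) := P_step (by omega) lev4 _ nx_4 ok_4 P_4

theorem ok_5 : levOK 5 lev5 = true := by decide +kernel

theorem nx_5 : nxt 5 lev5 = lev6.map Prod.fst := by decide +kernel

theorem P_6 : P 6 (lev6.map Prod.fst) := P_step (by omega) lev5 _ nx_5 ok_5 P_5

theorem ok_6 : levOK 6 lev6 = true := by decide +kernel

theorem nx_6 : nxt 6 lev6 = lev7.map Prod.fst := by decide +kernel

theorem P_7 : P 7 (lev7.map Prod.fst) := P_step (by omega) lev6 _ nx_6 ok_6 P_6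

theorem ok_7 : levOK 7 lev7 = true := by decide +kernel

theorem nx_7 : nxt 7 lev7 = lev8.map Prod.fst := by decide +kernel

theorem P_8 : P 8 (lev8.map Prod.fst) := P_step (by omega) lev7 _ nx_7 ok_7 P_7

theorem ok_8 : levOK 8 lev8 = true := by decide +kernel

theorem nx_8 : nxt 8 lev8 = lev9.map Prod.fst := by decide +kernel

theorem P_9 : P 9 (lev9.map Prod.fst) := P_step (by omega) lev8 _ nx_8 ok_8 P_8

theorem ok_9 : levOK 9 lev9 = true := by decide +kernel

theorem nx_9 : nxt 9 lev9 = lev10.map Prod.fst := by decide +kernel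

theorem P_10 : P 10 (lev10.map Prod.fst) := P_step (by omega) lev9 _ nx_9 ok_9 P_9

theorem ok_10 : levOK 10 lev10 = true := by decide +kernel

theorem nx_10 : nxt 10 lev10 = lev11.map Prod.fst := by decide +kernel

theorem P_11 : P 11 (lev11.map Prod.fst) := P_step (by omega) lev10 _ nx_10 ok_10 P_10

theorem ok_11 : levOK 11 lev11 = true := by decide +kernel

theorem nx_11 : nxt 11 lev11 = lev12.map Prod.fst := by decide +kernel

theorem P_12 : P 12 (lev12.map Prod.fst) := P_step (by omega) lev11 _ nx_11 ok_11 P_11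

theorem ok_12 : levOK 12 lev12 = true := by decide +kernel

theorem nx_12 : nxt 12 lev12 = lev13.map Prod.fst := by decide +kernel

theorem P_13 : P 13 (lev13.map Prod.fst) := P_step (by omega) lev12 _ nx_12 ok_12 P_12

theorem ok_13 : levOK 13 lev13 = true := by decide +kernel

theorem nx_13 : nxt 13 lev13 = lev14.map Prod.fst := by decide +kernel

theorem P_14 : P 14 (lev14.map Prod.fst) := P_step (by omega) lev13 _ nx_13 ok_13 P_13

theorem ok_14 : levOK 14 lev14 = true := by decide +kernel

theorem nx_14 : nxt 14 lev14 = lev15.map Prod.fst := by decide +kernel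

theorem P_15 : P 15 (lev15.map Prod.fst) := P_step (by omega) lev14 _ nx_14 ok_14 P_14

theorem ok_15 : levOK 15 lev15 = true := by decide +kernel

theorem nx_15 : nxt 15 lev15 = lev16.map Prod.fst := by decide +kernel

theorem P_16 : P 16 (lev16.map Prod.fst) := P_step (by omega) lev15 _ nx_15 ok_15 P_15

theorem ok_16 : levOK 16 lev16 = true := by decide +kernel

theorem nx_16 : nxt 16 lev16 = lev17.map Prod.fst := by decide +kernel

theorem P_17 : P 17 (lev17.map Prod.fst) := P_step (by omega) lev16 _ nx_16 ok_16 P_16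

theorem ok_17 : levOK 17 lev17 = true := by decide +kernel

theorem nx_17 : nxt 17 lev17 = lev18.map Prod.fst := by decide +kernel

theorem P_18 : P 18 (lev18.map Prod.fst) := P_step (by omega) lev17 _ nx_17 ok_17 P_17

theorem ok_18 : levOK 18 lev18 = true := by decide +kernel

theorem nx_18 : nxt 18 lev18 = lev19.map Prod.fst := by decide +kernel

theorem P_19 : P 19 (lev19.map Prod.fst) := P_step (by omega) lev18 _ nx_18 ok_18 P_18

theorem ok_19 : levOK 19 lev19 = true := by decide +kernel

theorem nx_19 : nxt 19 lev19 = lev20.map Prod.fst := by decide +kernel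

theorem P_20 : P 20 (lev20.map Prod.fst) := P_step (by omega) lev19 _ nx_19 ok_19 P_19

theorem ok_20 : levOK 20 lev20 = true := by decide +kernel

theorem nx_20 : nxt 20 lev20 = lev21.map Prod.fst := by decide +kernel

theorem P_21 : P 21 (lev21.map Prod.fst) := P_step (by omega) lev20 _ nx_20 ok_20 P_20

theorem ok_21 : levOK 21 lev21 = true := by decide +kernel

theorem nx_21 : nxt 21 lev21 = lev22.map Prod.fst := by decide +kernel

theorem P_22 : P 22 (lev22.map Prod.fst) := P_step (by omega) lev21 _ nx_21 ok_21 P_21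

theorem ok_22 : levOK 22 lev22 = true := by decide +kernel

theorem nx_22 : nxt 22 lev22 = lev23.map Prod.fst := by decide +kernel

theorem P_23 : P 23 (lev23.map Prod.fst) := P_step (by omega) lev22 _ nx_22 ok_22 P_22

theorem ok_23 : levOK 23 lev23 = true := by decide +kernel

theorem nx_23 : nxt 23 lev23 = reps := by decide +kernel

theorem P_24 : P 24 (reps) := P_step (by omega) lev23 _ nx_23 ok_23 P_23


/-- **`U`-classes of involutions**: every element of `U` with square `1` is conjugate in `U` to some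
element with code in `reps`. -/
theorem exists_rep {g : GL Cfsg.Lie.chevF4.Idx (ZMod 2)} (hg : g ∈ Cfsg.Lie.chevF4.posUnipotent (ZMod 2))
    (h2 : g * g = 1) : ∃ c, ∃ r ∈ reps, el (ZMod 2) c * g * (el (ZMod 2) c)⁻¹ = el (ZMod 2) r := by
  obtain ⟨u, _, rfl⟩ := exists_code hg
  have h3 : mulU u u % 2 ^ 24 = 0 := by
    have h4 : mulU u u % 2 ^ 24 = 0 % 2 ^ 24 := by
      rw [← mod_24, el_mulU, h2, el_zero]
    rw [h4, Nat.zero_mod]
  obtain ⟨c, r, hr, hc⟩ := P_24 u h3
  refine ⟨c, r, hr, ?_⟩
  rw [← el_conjU, mod_24, ← hc, Nat.mod_mod]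

/-! ### Fusion -/

/-- check of the list of fusions, given the list of numbers already treated -/
def fusOK : List (ℕ × ℕ × ℕ × ℕ × ℕ) → List ℕ → Bool
  | [], _ => true
  | e :: l, done => e.2.2.2.2 ∈ done && Nat.blt e.2.2.1 4 &&
      Nat.beq (Nat.land (conjU e.2.1 e.1) (2 ^ (Cfsg.Agent.ChevalleyStructure.TwF4.Rel.sp e.2.2.1 - 24))) 0 &&
      Nat.beq (conjU e.2.2.2.1 (reflU e.2.2.1 (conjU e.2.1 e.1))) e.2.2.2.2 && fusOK l (e.1 :: done)

/-- codes of the representatives of the four classes: `x_44`, `x_47`, `x_44 x_47`, `x_44 x_32` -/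
def targets : List ℕ := [1048576, 8388608, 9437184, 1048832]

theorem fusOK_fus : fusOK fus targets = true := by decide +kernel

theorem reps_sub : (reps.all fun r => Nat.beq r 0 || decide (r ∈ targets) ||
    decide (r ∈ fus.map fun e => e.1)) = true := by decide +kernel

/-- conjugate in the subgroup `G` -/
def Cj (G : Subgroup (GL Cfsg.Lie.chevF4.Idx (ZMod 2))) (a b : ℕ) : Prop :=
  ∃ g ∈ G, g * el (ZMod 2) a * g⁻¹ = el (ZMod 2) b

theorem Cj.trans {G : Subgroup (GL Cfsg.Lie.chevF4.Idx (ZMod 2))} {a b c : ℕ} (h : Cj G a b) (h' : Cj G b c) :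
    Cj G a c := by
  obtain ⟨g, hg, h1⟩ := h
  obtain ⟨g', hg', h2⟩ := h'
  refine ⟨g' * g, G.mul_mem hg' hg, ?_⟩
  rw [← h2, ← h1]
  group

open Cfsg.Agent.ChevalleyStructure.TwF4.Rel in
theorem fus_spec {G : Subgroup (GL Cfsg.Lie.chevF4.Idx (ZMod 2))}
    (hU : Cfsg.Lie.chevF4.posUnipotent (ZMod 2) ≤ G) (hn : ∀ i < 4, nG (ZMod 2) (sp i) ∈ G) :
    ∀ (l : List (ℕ × ℕ × ℕ × ℕ × ℕ)) (done : List ℕ), fusOK l done = true →
      (∀ r ∈ done, ∃ t ∈ targets, Cj G r t) → ∀ e ∈ l, ∃ t ∈ targets, Cj G e.1 t
  | [], _, _, _, e, he => absurd he (by simp)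
  | e :: l, done, h, hd, e', he' => by
    unfold fusOK at h
    rw [Bool.and_eq_true, Bool.and_eq_true, Bool.and_eq_true, Bool.and_eq_true] at h
    obtain ⟨⟨⟨⟨h1, h2⟩, h3⟩, h4⟩, h5⟩ := h
    have h1 := of_decide_eq_true h1
    have h2 : e.2.2.1 < 4 := by rwa [Nat.blt_eq] at h2
    have h3 : (conjU e.2.1 e.1).testBit (sp e.2.2.1 - 24) = false := by
      rw [land_pow_eq_zero, Bool.not_eq_true'] at h3
      exact h3
    have h4 := Nat.eq_of_beq_eq_true h4
    have key : ∃ t ∈ targets, Cj G e.1 t := by
      obtain ⟨t, ht, hct⟩ := hd _ h1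
      refine ⟨t, ht, Cj.trans ⟨el (ZMod 2) e.2.2.2.1 * nG (ZMod 2) (sp e.2.2.1) * el (ZMod 2) e.2.1,
        G.mul_mem (G.mul_mem (hU (el_mem _ _)) (hn _ h2)) (hU (el_mem _ _)), ?_⟩ hct⟩
      rw [← h4, el_conjU, el_reflU (ZMod 2) h2 h3, el_conjU]
      group
    rw [List.mem_cons] at he'
    rcases he' with rfl | he'
    · exact key
    · refine fus_spec hU hn l (e.1 :: done) h5 ?_ e' he'
      intro r hr
      rw [List.mem_cons] at hr
      rcases hr with rfl | hr
      · exact key
      · exact hd r hr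

open Cfsg.Agent.ChevalleyStructure.TwF4.Rel in
/-- **Involutions of `U`, up to conjugation in a group containing `U` and the `n_i`.** -/
theorem exists_target {G : Subgroup (GL Cfsg.Lie.chevF4.Idx (ZMod 2))}
    (hU : Cfsg.Lie.chevF4.posUnipotent (ZMod 2) ≤ G) (hn : ∀ i < 4, nG (ZMod 2) (sp i) ∈ G)
    {g : GL Cfsg.Lie.chevF4.Idx (ZMod 2)} (hg : g ∈ Cfsg.Lie.chevF4.posUnipotent (ZMod 2))
    (h2 : g * g = 1) (h1 : g ≠ 1) :
    ∃ y ∈ G, ∃ t ∈ targets, y * g * y⁻¹ = el (ZMod 2) t := by
  obtain ⟨c, r, hr, hc⟩ := exists_rep hg h2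
  have hs := reps_sub
  rw [List.all_eq_true] at hs
  have h3 := hs r hr
  rw [Bool.or_eq_true, Bool.or_eq_true] at h3
  have h4 : ∃ t ∈ targets, Cj G r t := by
    rcases h3 with (h3 | h3) | h3
    · exfalso
      have h5 := Nat.eq_of_beq_eq_true h3
      subst h5
      rw [el_zero, mul_inv_eq_one, mul_eq_left] at hc
      exact h1 hc
    · exact ⟨r, of_decide_eq_true h3, 1, G.one_mem, by simp⟩
    · obtain ⟨e, he, rfl⟩ := List.mem_map.1 (of_decide_eq_true h3)
      refine fus_spec hU hn fus targets fusOK_fus ?_ e he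
      intro t ht
      exact ⟨t, ht, 1, G.one_mem, by simp⟩
  obtain ⟨t, ht, y, hy, hyt⟩ := h4
  refine ⟨y * el (ZMod 2) c, G.mul_mem hy (hU (el_mem _ _)), t, ht, ?_⟩
  rw [← hyt, ← hc]
  group

end Cfsg.Agent.FourTwo.InvCert
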