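import Cfsg.Agent.FourTwo.Base
import Cfsg.Agent.FourTwo.InvCert
import Cfsg.Agent.S1062

/-!
# The involutions of `F₄(2)`

`US` is a Sylow `2`-subgroup of `LL`; every involution of `LL` is conjugate to one of
`x 44` (short root), `x 47` (long root), `x 44 * x 47`, `x 44 * x 32`.
-/

set_option autoImplicit false

namespace Cfsg.Agent.FourTwo.Classes

open Cfsg.Lie Cfsg.Agent.ChevalleyStructure.TwF4.Rel Cfsg.Agent.ChevalleyStructure.TwF4.Tables
open Cfsg.Agent.FourTwo.Base Cfsg.Agent.FourTwo.UCode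

theorem wel_mem_group (w : List ℕ) : wel (ZMod 2) w ∈ chevF4.group (ZMod 2) := by
  induction w with
  | nil => exact Subgroup.one_mem _
  | cons c w ih =>
    rw [wel_cons]
    exact Subgroup.mul_mem _ (X_mem _) ih

theorem el_mem_group (e : ℕ) : el (ZMod 2) e ∈ chevF4.group (ZMod 2) := by
  rw [← wel_lets]
  exact wel_mem_group _

theorem pos_le : chevF4.posUnipotent (ZMod 2) ≤ chevF4.group (ZMod 2) := by
  intro g hg
  obtain ⟨e, _, rfl⟩ := exists_code hg
  exact el_mem_group e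

/-- the element of `LL` with code `e` -/
def ec (e : ℕ) : LL := ⟨el (ZMod 2) e, el_mem_group e⟩

@[simp] theorem coe_ec (e : ℕ) : ((ec e : LL) : GL chevF4.Idx (ZMod 2)) = el (ZMod 2) e := rfl

theorem ec_mulU (a b : ℕ) : ec (mulU a b) = ec a * ec b := Subtype.ext (el_mulU _ a b)

theorem ec_invU (a : ℕ) : ec (invU a) = (ec a)⁻¹ := Subtype.ext (el_invU _ a)

theorem ec_conjU (c a : ℕ) : ec (conjU c a) = ec c * ec a * (ec c)⁻¹ := Subtype.ext (el_conjU _ c a)

theorem ec_zero : ec 0 = 1 := Subtype.ext (el_zero _)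

theorem ec_reflU {i a : ℕ} (hi : i < 4) (h : a.testBit (sp i - 24) = false) :
    ec (reflU i a) = n i * ec a * (n i)⁻¹ := Subtype.ext (el_reflU _ hi h)

theorem ec_inj {e e' : ℕ} (he : e < 2 ^ 24) (he' : e' < 2 ^ 24) (h : ec e = ec e') : e = e' := by
  have h1 : el (ZMod 2) e = el (ZMod 2) e' := by
    rw [← coe_ec, ← coe_ec, h]
  exact el_inj (ZMod 2) he he' h1

theorem coe_wd_eq_wel (w : List ℕ) :
    ((wd (w.map fun j => 24 + j) : LL) : GL chevF4.Idx (ZMod 2)) = wel (ZMod 2) w := by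
  induction w with
  | nil => rfl
  | cons c w ih =>
    rw [List.map_cons, wd_cons, wel_cons, ← ih]
    rfl

theorem wd_eq_ec (w : List ℕ) (h : ∀ c ∈ w, c < 24) : wd (w.map fun j => 24 + j) = ec (colW w) := by
  apply Subtype.ext
  rw [coe_wd_eq_wel, coe_ec, colW_spec _ _ h]

/-- the code of a product of positive root elements -/
theorem wd_eq_ec' (w : List ℕ) (h : (w.all fun r => decide (24 ≤ r ∧ r < 48)) = true) (e : ℕ)
    (he : colW (w.map fun r => r - 24) = e) : wd w = ec e := by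
  rw [List.all_eq_true] at h
  rw [← he, ← wd_eq_ec]
  · congr 1
    rw [List.map_map]
    conv_lhs => rw [← List.map_id w]
    apply List.map_congr_left
    intro r hr
    have := of_decide_eq_true (h r hr)
    show r = 24 + (r - 24)
    omega
  · intro c hc
    obtain ⟨r, hr, rfl⟩ := List.mem_map.1 hc
    have := of_decide_eq_true (h r hr)
    omega

theorem x_eq_ec {r : ℕ} (hr : 24 ≤ r) (hr' : r < 48) : x r = ec (2 ^ (r - 24)) := by
  have h := wd_eq_ec' [r] (by simp [hr, hr']) (2 ^ (r - 24)) ?_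
  · rwa [wd_one] at h
  · obtain ⟨j, rfl⟩ : ∃ j, r = 24 + j := ⟨r - 24, by omega⟩
    have hj : j < 24 := by omega
    have h1 : ∀ j < 24, colW ([24 + j].map fun r => r - 24) = 2 ^ (24 + j - 24) := by decide +kernel
    exact h1 j hj

/-- the subgroup `U` of `LL` -/
def UL : Subgroup LL := (chevF4.posUnipotent (ZMod 2)).subgroupOf (chevF4.group (ZMod 2))

theorem mem_UL {g : LL} : g ∈ UL ↔ (g : GL chevF4.Idx (ZMod 2)) ∈ chevF4.posUnipotent (ZMod 2) :=
  Subgroup.mem_subgroupOf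

theorem mem_UL_iff_ec {g : LL} : g ∈ UL ↔ ∃ e, e < 2 ^ 24 ∧ g = ec e := by
  rw [mem_UL]
  constructor
  · intro h
    obtain ⟨e, he, h1⟩ := exists_code h
    exact ⟨e, he, Subtype.ext h1⟩
  · rintro ⟨e, _, rfl⟩
    exact el_mem (ZMod 2) e

theorem ec_mem_UL (e : ℕ) : ec e ∈ UL := mem_UL.2 (el_mem (ZMod 2) e)

theorem x_mem_UL {r : ℕ} (hr : 24 ≤ r) (hr' : r < 48) : x r ∈ UL := by
  rw [x_eq_ec hr hr']
  exact ec_mem_UL _

theorem card_UL : Nat.card UL = 2 ^ 24 := by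
  rw [← card_pos]
  exact Nat.card_congr (Subgroup.subgroupOfEquivOfLe pos_le).toEquiv

theorem card_LL : Nat.card LL = 2 ^ 24 * ((2 ^ 2 - 1) * (2 ^ 6 - 1) * (2 ^ 8 - 1) * (2 ^ 12 - 1)) := by
  have h := Cfsg.Agent.S1062.result (F := ZMod 2) (q := 2) (ZMod.card 2)
  rw [show Nat.card LL = Nat.card ↥(chevF4.group (ZMod 2)) from rfl, h]
  simp only [mul_assoc]

instance finite_LL : Finite LL := Nat.finite_of_card_ne_zero (by rw [card_LL]; norm_num)

theorem isPGroup_UL : IsPGroup 2 UL := IsPGroup.of_card card_UL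

theorem index_UL : UL.index = (2 ^ 2 - 1) * (2 ^ 6 - 1) * (2 ^ 8 - 1) * (2 ^ 12 - 1) := by
  have h := UL.card_mul_index
  rw [card_UL, card_LL] at h
  exact Nat.eq_of_mul_eq_mul_left (by norm_num) h

/-- `U` as a Sylow `2`-subgroup -/
noncomputable def US : Sylow 2 LL := isPGroup_UL.toSylow (by
  rw [index_UL]
  norm_num)

theorem coe_US : (US : Subgroup LL) = UL := rfl

/-- every `2`-subgroup of `LL` is conjugate to a subgroup of `U` -/
theorem exists_conj_le {Q : Subgroup LL} (hQ : IsPGroup 2 Q) : ∃ y : LL, ∀ g ∈ Q, y * g * y⁻¹ ∈ UL := by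
  obtain ⟨S, hS⟩ := hQ.exists_le_sylow
  haveI : Fact (Nat.Prime 2) := ⟨Nat.prime_two⟩
  obtain ⟨y, hy⟩ := MulAction.exists_smul_eq LL S US
  refine ⟨y, fun g hg => ?_⟩
  rw [← coe_US, ← hy, Sylow.coe_subgroup_smul]
  exact ⟨g, hS hg, by simp⟩

theorem exists_conj_mem {g : LL} (h2 : g * g = 1) : ∃ y : LL, y * g * y⁻¹ ∈ UL := by
  have hQ : IsPGroup 2 (Subgroup.zpowers g) := by
    rintro ⟨h, hh⟩
    obtain ⟨k, rfl⟩ := Subgroup.mem_zpowers_iff.1 hh
    refine ⟨1, Subtype.ext ?_⟩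
    show (g ^ k) ^ (2 ^ 1) = 1
    rw [pow_one, sq, ← zpow_add, ← two_mul, zpow_mul]
    have h3 : g ^ (2 : ℤ) = 1 := by
      rw [zpow_two, h2]
    rw [h3, one_zpow]
  obtain ⟨y, hy⟩ := exists_conj_le hQ
  exact ⟨y, hy g (Subgroup.mem_zpowers g)⟩

theorem two_pow_20 : 2 ^ (44 - 24) = 1048576 := by norm_num
theorem two_pow_23 : 2 ^ (47 - 24) = 8388608 := by norm_num
theorem two_pow_8 : 2 ^ (32 - 24) = 256 := by norm_num
theorem mulU_a : mulU 1048576 8388608 = 9437184 := by decide +kernel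
theorem mulU_b : mulU 1048576 256 = 1048832 := by decide +kernel

theorem ec44 : x 44 = ec 1048576 := by rw [x_eq_ec (by omega) (by omega), two_pow_20]
theorem ec47 : x 47 = ec 8388608 := by rw [x_eq_ec (by omega) (by omega), two_pow_23]
theorem ec32 : x 32 = ec 256 := by rw [x_eq_ec (by omega) (by omega), two_pow_8]

/-- **The classes of involutions of `F₄(2)`.** -/
theorem exists_class {g : LL} (h2 : g * g = 1) (h1 : g ≠ 1) : ∃ y : LL,
    y * g * y⁻¹ = x 44 ∨ y * g * y⁻¹ = x 47 ∨ y * g * y⁻¹ = x 44 * x 47 ∨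
      y * g * y⁻¹ = x 44 * x 32 := by
  obtain ⟨y, hy⟩ := exists_conj_mem h2
  have h3 : (y * g * y⁻¹) * (y * g * y⁻¹) = 1 := by
    have : (y * g * y⁻¹) * (y * g * y⁻¹) = y * (g * g) * y⁻¹ := by group
    rw [this, h2, mul_one, mul_inv_cancel]
  have h4 : y * g * y⁻¹ ≠ 1 := by
    intro h
    rw [mul_inv_eq_one, mul_eq_left] at h
    exact h1 h
  have h3' : ((y * g * y⁻¹ : LL) : GL chevF4.Idx (ZMod 2)) * ((y * g * y⁻¹ : LL) : GL chevF4.Idx (ZMod 2)) = 1 := by
    rw [← Subgroup.coe_mul, h3, Subgroup.coe_one]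
  obtain ⟨z, hz, t, ht, hzt⟩ := InvCert.exists_target (G := chevF4.group (ZMod 2)) pos_le
    (fun i _ => nG_mem) (mem_UL.1 hy) h3' (fun h => h4 (Subtype.ext h))
  refine ⟨⟨z, hz⟩ * y, ?_⟩
  have h5 : (⟨z, hz⟩ * y) * g * (⟨z, hz⟩ * y)⁻¹ = ec t := by
    apply Subtype.ext
    rw [coe_ec, ← hzt]
    show z * y * g * (z * y)⁻¹ = z * (y * g * (y : GL chevF4.Idx (ZMod 2))⁻¹) * z⁻¹
    group
  rw [h5]
  rw [ec44, ec47, ec32, ← ec_mulU, ← ec_mulU, mulU_a, mulU_b]
  unfold InvCert.targets at ht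
  simp only [List.mem_cons, List.not_mem_nil, or_false] at ht
  rcases ht with rfl | rfl | rfl | rfl
  · exact Or.inl rfl
  · exact Or.inr (Or.inl rfl)
  · exact Or.inr (Or.inr (Or.inl rfl))
  · exact Or.inr (Or.inr (Or.inr rfl))

end Cfsg.Agent.FourTwo.Classes
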