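import Cfsg.Agent.FourTwo.Base

/-!
Commutators of all pairs of root elements of `F₄(2)`:
`comm_all : x r * x s = x s * wd (cmg r s) * x r` for `r ≠ ± s`, and `opp_all` (opposite root elements generate `S₃`).
-/

set_option autoImplicit false

namespace Cfsg.Agent.FourTwo.Comm

open Cfsg.Lie Cfsg.Agent.ChevalleyStructure.TwF4.Rel Cfsg.Agent.ChevalleyStructure.TwF4.Tables
open Cfsg.Agent.FourTwo.Base hiding bar bar_lt

/-- the letters of the commutator, entry `[r][s]` -/
def cmgT : List (List (List ℕ)) := [
  [[], [], [], [], [], [], [], [], [], [], [], [], [], [], [], [], [], [], [], [], [], [], [], [], [1], [], [2], [], [], [3, 6], [], [4], [5], [], [], [], [7, 17], [], [8, 22], [9, 25], [11, 30], [], [15], [16], [18, 41], [21], [23], []],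
  [[], [], [], [], [], [], [], [], [], [], [], [], [], [], [], [], [], [], [], [], [], [], [], [0], [], [2], [], [], [3, 5], [], [4], [], [6], [], [], [7, 16], [], [8, 21], [], [10, 26], [12, 31], [15], [], [17], [19, 42], [22], [], [24]],
  [[], [], [], [], [], [], [], [], [], [], [], [], [], [], [], [], [], [], [], [], [], [0], [1], [], [], [], [], [3, 4], [], [], [5], [6], [], [], [7, 15], [], [], [9, 23], [10, 24], [], [13, 32], [16], [17], [], [20, 43], [], [25], [26]],
  [[], [], [], [], [], [], [], [], [], [], [], [], [], [], [], [], [], [], [], [], [], [], [], [], [], [], [], [], [], [], [], [], [], [7], [8], [9], [10], [11], [12], [13], [14], [18, 0], [19, 1], [20, 2], [], [27, 4], [28, 5], [29, 6]],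
  [[], [], [], [], [], [], [], [], [], [], [], [], [], [], [], [], [0], [1], [], [], [3, 2], [], [], [], [], [5], [6], [], [], [], [], [], [], [8, 15], [], [11, 23], [12, 24], [], [], [14, 32], [], [21], [22], [], [27, 45], [], [30], [31]],
  [[], [], [], [], [], [], [], [], [], [], [], [], [], [], [], [0], [], [2], [], [3, 1], [], [], [4], [], [6], [], [], [], [], [], [], [], [], [9, 16], [11, 21], [], [13, 26], [], [14, 31], [], [], [23], [], [25], [28, 46], [30], [], [32]],
  [[], [], [], [], [], [], [], [], [], [], [], [], [], [], [], [1], [2], [], [3, 0], [], [], [4], [], [5], [], [], [], [], [], [], [], [], [], [10, 17], [12, 22], [13, 25], [], [14, 30], [], [], [], [], [24], [26], [29, 47], [31], [32], []],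
  [[], [], [], [], [], [], [], [], [], [], [], [], [], [], [3], [], [], [], [], [], [], [], [], [], [], [], [], [8], [9], [10], [11, 0], [12, 1], [13, 2], [], [], [], [], [18], [19], [20], [], [], [], [], [33], [34, 15], [35, 16], [36, 17]],
  [[], [], [], [], [], [], [], [], [], [], [], [], [], [3], [], [], [], [], [], [], [7], [], [], [], [], [9, 0], [10, 1], [], [11], [12], [], [], [14, 4], [], [], [18], [19], [], [], [], [27], [], [], [33, 15], [34], [], [37, 21], [38, 22]],
  [[], [], [], [], [], [], [], [], [], [], [], [], [3], [], [], [], [], [], [], [7], [], [], [8, 0], [], [10, 2], [], [], [11], [], [13], [], [14, 5], [], [], [18], [], [20], [], [], [], [28], [], [33, 16], [], [35], [37, 23], [], [39, 25]],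
  [[], [], [], [], [], [], [], [], [], [], [], [3], [], [], [], [], [], [], [7], [], [], [8, 1], [], [9, 2], [], [], [], [12], [13], [], [14, 6], [], [], [], [19], [20], [], [], [], [], [29], [33, 17], [], [], [36], [38, 24], [39, 26], []],
  [[], [], [], [], [], [], [], [], [], [], [3], [], [], [], [], [], [], [7, 0], [], [8], [9], [], [], [], [12, 4], [], [13, 5], [], [], [14], [], [], [], [18], [], [], [], [], [27], [28], [], [], [34, 21], [35, 23], [37], [], [], [40, 30]],
  [[], [], [], [], [], [], [], [], [], [3], [], [], [], [], [], [], [7, 1], [], [8], [], [10], [], [], [11, 4], [], [13, 6], [], [], [14], [], [], [], [], [19], [], [], [], [27], [], [29], [], [34, 22], [], [36, 24], [38], [], [40, 31], []],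
  [[], [], [], [], [], [], [], [], [3], [], [], [], [], [], [], [7, 2], [], [], [9], [10], [], [11, 5], [12, 6], [], [], [], [], [14], [], [], [], [], [], [20], [], [], [], [28], [29], [], [], [35, 25], [36, 26], [], [39], [40, 32], [], []],
  [[], [], [], [], [], [], [], [3], [], [], [], [], [], [], [], [8, 4], [9, 5], [10, 6], [11], [12], [13], [], [], [], [], [], [], [], [], [], [], [], [], [], [27], [28], [29], [], [], [], [], [37, 30], [38, 31], [39, 32], [40], [], [], []],
  [[], [], [], [], [], [0], [1], [], [], [], [], [], [], [7, 2], [8, 4], [], [], [], [], [], [], [], [], [], [], [16], [17], [], [18, 23], [19, 24], [21], [22], [], [], [], [], [], [], [], [33, 43], [34, 45], [], [], [], [], [], [41], [42]],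
  [[], [], [], [], [0], [], [2], [], [], [], [], [], [7, 1], [], [9, 5], [], [], [], [], [], [], [], [15], [], [17], [], [], [18, 21], [], [20, 26], [23], [], [25], [], [], [], [], [], [33, 42], [], [35, 46], [], [], [], [], [41], [], [43]],
  [[], [], [], [], [1], [2], [], [], [], [], [], [7, 0], [], [], [10, 6], [], [], [], [], [], [], [15], [], [16], [], [], [], [19, 22], [20, 25], [], [], [24], [26], [], [], [], [], [33, 41], [], [], [36, 47], [], [], [], [], [42], [43], []],
  [[], [], [], [], [], [], [3, 0], [], [], [], [7], [], [8], [9], [11], [], [], [], [], [], [], [], [], [], [19, 15], [], [20, 16], [], [], [], [], [27, 21], [28, 23], [], [], [], [33], [], [34], [35], [37], [], [], [], [], [], [], [44, 41]],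
  [[], [], [], [], [], [3, 1], [], [], [], [7], [], [8], [], [10], [12], [], [], [], [], [], [], [], [], [18, 15], [], [20, 17], [], [], [], [], [27, 22], [], [29, 24], [], [], [33], [], [34], [], [36], [38], [], [], [], [], [], [44, 42], []],
  [[], [], [], [], [3, 2], [], [], [], [7], [], [], [9], [10], [], [13], [], [], [], [], [], [], [18, 16], [19, 17], [], [], [], [], [], [], [], [28, 25], [29, 26], [], [], [33], [], [], [35], [36], [], [39], [], [], [], [], [44, 43], [], []],
  [[], [], [0], [], [], [], [4], [], [], [], [8, 1], [], [], [11, 5], [], [], [], [15], [], [], [18, 16], [], [], [], [22], [23], [], [], [], [27, 31], [], [], [30], [], [], [], [34, 42], [], [], [37, 46], [], [], [], [41], [], [], [], [45]],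
  [[], [], [1], [], [], [4], [], [], [], [8, 0], [], [], [], [12, 6], [], [], [15], [], [], [], [19, 17], [], [], [21], [], [], [24], [], [27, 30], [], [], [], [31], [], [], [34, 41], [], [], [], [38, 47], [], [], [], [42], [], [], [45], []],
  [[], [0], [], [], [], [], [5], [], [], [], [9, 2], [], [11, 4], [], [], [], [], [16], [], [18, 15], [], [], [21], [], [], [], [25], [], [], [28, 32], [], [30], [], [], [], [], [35, 43], [], [37, 45], [], [], [], [41], [], [], [], [], [46]],
  [[1], [], [], [], [], [6], [], [], [], [10, 2], [], [12, 4], [], [], [], [], [17], [], [19, 15], [], [], [22], [], [], [], [26], [], [], [29, 32], [], [31], [], [], [], [], [36, 43], [], [38, 45], [], [], [], [42], [], [], [], [], [47], []],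
  [[], [2], [], [], [5], [], [], [], [9, 0], [], [], [], [13, 6], [], [], [16], [], [], [], [20, 17], [], [23], [], [], [26], [], [], [28, 30], [], [], [], [32], [], [], [35, 41], [], [], [], [39, 47], [], [], [], [43], [], [], [46], [], []],
  [[2], [], [], [], [6], [], [], [], [10, 1], [], [], [13, 5], [], [], [], [17], [], [], [20, 16], [], [], [], [24], [25], [], [], [], [29, 31], [], [], [32], [], [], [], [36, 42], [], [], [39, 46], [], [], [], [43], [], [], [], [47], [], []],
  [[], [], [3, 4], [], [], [], [], [8], [], [11], [12], [], [], [14], [], [], [18, 21], [19, 22], [], [], [], [], [], [], [], [28, 30], [29, 31], [], [], [], [], [], [], [34], [], [37], [38], [], [], [40], [], [], [], [44, 45], [], [], [], []],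
  [[], [3, 5], [], [], [], [], [], [9], [11], [], [13], [], [14], [], [], [18, 23], [], [20, 25], [], [], [], [], [27, 30], [], [29, 32], [], [], [], [], [], [], [], [], [35], [37], [], [39], [], [40], [], [], [], [44, 46], [], [], [], [], []],
  [[3, 6], [], [], [], [], [], [], [10], [12], [13], [], [14], [], [], [], [19, 24], [20, 26], [], [], [], [], [27, 31], [], [28, 32], [], [], [], [], [], [], [], [], [], [36], [38], [39], [], [40], [], [], [], [44, 47], [], [], [], [], [], []],
  [[], [4], [5], [], [], [], [], [11, 0], [], [], [14, 6], [], [], [], [], [21], [23], [], [], [27, 22], [28, 25], [], [], [], [31], [], [32], [], [], [], [], [], [], [37, 41], [], [], [40, 47], [], [], [], [], [], [45], [46], [], [], [], []],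
  [[4], [], [6], [], [], [], [], [12, 1], [], [14, 5], [], [], [], [], [], [22], [], [24], [27, 21], [], [29, 26], [], [], [30], [], [32], [], [], [], [], [], [], [], [38, 42], [], [40, 46], [], [], [], [], [], [45], [], [47], [], [], [], []],
  [[5], [6], [], [], [], [], [], [13, 2], [14, 4], [], [], [], [], [], [], [], [25], [26], [28, 23], [29, 24], [], [30], [31], [], [], [], [], [], [], [], [], [], [], [39, 43], [40, 45], [], [], [], [], [], [], [46], [47], [], [], [], [], []],
  [[], [], [], [7], [8, 15], [9, 16], [10, 17], [], [], [], [], [18], [19], [20], [], [], [], [], [], [], [], [], [], [], [], [], [], [34], [35], [36], [37, 41], [38, 42], [39, 43], [], [], [], [], [], [], [], [44], [], [], [], [], [], [], []],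
  [[], [], [7, 15], [8], [], [11, 21], [12, 22], [], [], [18], [19], [], [], [], [27], [], [], [], [], [], [33], [], [], [], [], [35, 41], [36, 42], [], [37], [38], [], [], [40, 45], [], [], [], [], [], [], [44], [], [], [], [], [], [], [], []],
  [[], [7, 16], [], [9], [11, 23], [], [13, 25], [], [18], [], [20], [], [], [], [28], [], [], [], [], [33], [], [], [34, 41], [], [36, 43], [], [], [37], [], [39], [], [40, 46], [], [], [], [], [], [], [44], [], [], [], [], [], [], [], [], []],
  [[7, 17], [], [], [10], [12, 24], [13, 26], [], [], [19], [20], [], [], [], [], [29], [], [], [], [33], [], [], [34, 42], [], [35, 43], [], [], [], [38], [39], [], [40, 47], [], [], [], [], [], [], [44], [], [], [], [], [], [], [], [], [], []],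
  [[], [8, 21], [9, 23], [11], [], [], [14, 30], [18], [], [], [], [], [27], [28], [], [], [], [33, 41], [], [34], [35], [], [], [], [38, 45], [], [39, 46], [], [], [40], [], [], [], [], [], [], [44], [], [], [], [], [], [], [], [], [], [], []],
  [[8, 22], [], [10, 24], [12], [], [14, 31], [], [19], [], [], [], [27], [], [29], [], [], [33, 42], [], [34], [], [36], [], [], [37, 45], [], [39, 47], [], [], [40], [], [], [], [], [], [], [44], [], [], [], [], [], [], [], [], [], [], [], []],
  [[9, 25], [10, 26], [], [13], [14, 32], [], [], [20], [], [], [], [28], [29], [], [], [33, 43], [], [], [35], [36], [], [37, 46], [38, 47], [], [], [], [], [40], [], [], [], [], [], [], [44], [], [], [], [], [], [], [], [], [], [], [], [], []],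
  [[11, 30], [12, 31], [13, 32], [14], [], [], [], [], [27], [28], [29], [], [], [], [], [34, 45], [35, 46], [36, 47], [37], [38], [39], [], [], [], [], [], [], [], [], [], [], [], [], [44], [], [], [], [], [], [], [], [], [], [], [], [], [], []],
  [[], [15], [16], [18, 0], [21], [23], [], [], [], [], [33, 17], [], [34, 22], [35, 25], [37, 30], [], [], [], [], [], [], [], [], [], [42], [], [43], [], [], [44, 47], [], [45], [46], [], [], [], [], [], [], [], [], [], [], [], [], [], [], []],
  [[15], [], [17], [19, 1], [22], [], [24], [], [], [33, 16], [], [34, 21], [], [36, 26], [38, 31], [], [], [], [], [], [], [], [], [41], [], [43], [], [], [44, 46], [], [45], [], [47], [], [], [], [], [], [], [], [], [], [], [], [], [], [], []],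
  [[16], [17], [], [20, 2], [], [25], [26], [], [33, 15], [], [], [35, 23], [36, 24], [], [39, 32], [], [], [], [], [], [], [41], [42], [], [], [], [], [44, 45], [], [], [46], [47], [], [], [], [], [], [], [], [], [], [], [], [], [], [], [], []],
  [[18, 41], [19, 42], [20, 43], [], [27, 45], [28, 46], [29, 47], [33], [34], [35], [36], [37], [38], [39], [40], [], [], [], [], [], [], [], [], [], [], [], [], [], [], [], [], [], [], [], [], [], [], [], [], [], [], [], [], [], [], [], [], []],
  [[21], [22], [], [27, 4], [], [30], [31], [34, 15], [], [37, 23], [38, 24], [], [], [40, 32], [], [], [41], [42], [], [], [44, 43], [], [], [], [], [46], [47], [], [], [], [], [], [], [], [], [], [], [], [], [], [], [], [], [], [], [], [], []],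
  [[23], [], [25], [28, 5], [30], [], [32], [35, 16], [37, 21], [], [39, 26], [], [40, 31], [], [], [41], [], [43], [], [44, 42], [], [], [45], [], [47], [], [], [], [], [], [], [], [], [], [], [], [], [], [], [], [], [], [], [], [], [], [], []],
  [[], [24], [26], [29, 6], [31], [32], [], [36, 17], [38, 22], [39, 25], [], [40, 30], [], [], [], [42], [43], [], [44, 41], [], [], [45], [], [46], [], [], [], [], [], [], [], [], [], [], [], [], [], [], [], [], [], [], [], [], [], [], [], []]]

/-- the letters of the commutator of `x r` and `x s`, `r ≠ ± s` -/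
def cmg (r s : ℕ) : List ℕ := nth (nth2 cmgT r) s

/-- the check for one pair -/
def chkG (r s : ℕ) : Bool := r == s || r + s == 47 || chk [r, s] (s :: (cmg r s ++ [r]))

/-- the check for a row -/
def chkR (r : ℕ) : Bool := (List.range 48).all (chkG r)

theorem chkR_0 : ((List.range 4).all fun r => chkR (0 + r)) = true := by decide +kernel
theorem chkR_1 : ((List.range 4).all fun r => chkR (4 + r)) = true := by decide +kernel
theorem chkR_2 : ((List.range 4).all fun r => chkR (8 + r)) = true := by decide +kernel
theorem chkR_3 : ((List.range 4).all fun r => chkR (12 + r)) = true := by decide +kernel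
theorem chkR_4 : ((List.range 4).all fun r => chkR (16 + r)) = true := by decide +kernel
theorem chkR_5 : ((List.range 4).all fun r => chkR (20 + r)) = true := by decide +kernel
theorem chkR_6 : ((List.range 4).all fun r => chkR (24 + r)) = true := by decide +kernel
theorem chkR_7 : ((List.range 4).all fun r => chkR (28 + r)) = true := by decide +kernel
theorem chkR_8 : ((List.range 4).all fun r => chkR (32 + r)) = true := by decide +kernel
theorem chkR_9 : ((List.range 4).all fun r => chkR (36 + r)) = true := by decide +kernel
theorem chkR_10 : ((List.range 4).all fun r => chkR (40 + r)) = true := by decide +kernel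
theorem chkR_11 : ((List.range 4).all fun r => chkR (44 + r)) = true := by decide +kernel

theorem chkR_all {r : ℕ} (hr : r < 48) : chkR r = true := by
  have key : ∀ a, ((List.range 4).all fun r => chkR (a + r)) = true → ∀ r, a ≤ r → r < a + 4 → chkR r = true := by
    intro a h r h1 h2
    rw [List.all_eq_true] at h
    have h3 := h (r - a) (List.mem_range.2 (by omega))
    rwa [Nat.add_sub_cancel' h1] at h3
  rcases (by omega : r < 4 ∨ 4 ≤ r) with h | h
  · exact key 0 chkR_0 r (by omega) (by omega)
  rcases (by omega : r < 8 ∨ 8 ≤ r) with h' | h'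
  · exact key 4 chkR_1 r (by omega) (by omega)
  clear h
  rename' h' => h
  rcases (by omega : r < 12 ∨ 12 ≤ r) with h' | h'
  · exact key 8 chkR_2 r (by omega) (by omega)
  clear h
  rename' h' => h
  rcases (by omega : r < 16 ∨ 16 ≤ r) with h' | h'
  · exact key 12 chkR_3 r (by omega) (by omega)
  clear h
  rename' h' => h
  rcases (by omega : r < 20 ∨ 20 ≤ r) with h' | h'
  · exact key 16 chkR_4 r (by omega) (by omega)
  clear h
  rename' h' => h
  rcases (by omega : r < 24 ∨ 24 ≤ r) with h' | h'
  · exact key 20 chkR_5 r (by omega) (by omega)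
  clear h
  rename' h' => h
  rcases (by omega : r < 28 ∨ 28 ≤ r) with h' | h'
  · exact key 24 chkR_6 r (by omega) (by omega)
  clear h
  rename' h' => h
  rcases (by omega : r < 32 ∨ 32 ≤ r) with h' | h'
  · exact key 28 chkR_7 r (by omega) (by omega)
  clear h
  rename' h' => h
  rcases (by omega : r < 36 ∨ 36 ≤ r) with h' | h'
  · exact key 32 chkR_8 r (by omega) (by omega)
  clear h
  rename' h' => h
  rcases (by omega : r < 40 ∨ 40 ≤ r) with h' | h'
  · exact key 36 chkR_9 r (by omega) (by omega)
  clear h
  rename' h' => h
  rcases (by omega : r < 44 ∨ 44 ≤ r) with h' | h'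
  · exact key 40 chkR_10 r (by omega) (by omega)
  clear h
  rename' h' => h
  exact key 44 chkR_11 r (by omega) (by omega)

/-- the commutator formula for all pairs of root elements `r ≠ ± s` -/
theorem comm_all {r s : ℕ} (hr : r < 48) (hs : s < 48) (h1 : r ≠ s) (h2 : r + s ≠ 47) :
    x r * x s = x s * wd (cmg r s) * x r := by
  have h := chkR_all hr
  unfold chkR at h
  rw [List.all_eq_true] at h
  have h3 := h s (List.mem_range.2 hs)
  unfold chkG at h3
  simp only [Bool.or_eq_true, beq_iff_eq, h1, h2, false_or] at h3
  have h4 := wd_eq _ _ h3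
  rw [wd_cons, wd_one, wd_cons, wd_append, wd_one, ← mul_assoc] at h4
  exact h4

theorem opp_tab : ((List.range 48).all fun r => chk [r, 47 - r, r] [47 - r, r, 47 - r]) = true := by decide +kernel

/-- the braid relation of opposite root elements -/
theorem opp_all {r : ℕ} (hr : r < 48) : x r * x (47 - r) * x r = x (47 - r) * x r * x (47 - r) := by
  have h := opp_tab
  rw [List.all_eq_true] at h
  have h4 := wd_eq _ _ (h r (List.mem_range.2 hr))
  rw [wd_cons, wd_cons, wd_one, wd_cons, wd_cons, wd_one, ← mul_assoc, ← mul_assoc] at h4
  exact h4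

/-- commuting root elements -/
theorem comm_one {r s : ℕ} (hr : r < 48) (hs : s < 48) (h2 : r + s ≠ 47) (h : cmg r s = []) :
    x r * x s = x s * x r := by
  by_cases h1 : r = s
  · rw [h1]
  · have h3 := comm_all hr hs h1 h2
    rwa [h, wd_nil, mul_one] at h3

/-- conjugation by a root element -/
theorem conj_x {r s : ℕ} (hr : r < 48) (hs : s < 48) (h1 : r ≠ s) (h2 : r + s ≠ 47) :
    x r * x s * (x r)⁻¹ = x s * wd (cmg r s) := by
  rw [comm_all hr hs h1 h2, mul_inv_cancel_right]

/-- the letters of a commutator of positive root elements, compared with the table of `Rel` -/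
theorem cmr_eq : ∀ r < 24, ∀ s < 24, cmr (24 + r) (24 + s) = cmg (24 + r) (24 + s) := by decide +kernel

end Cfsg.Agent.FourTwo.Comm
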