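import Cfsg.Agent.FourTwo.UMod

/-!
# Enumeration of codes by a binary tree

`enum good n` lists the codes `r < 2 ^ n` all of whose truncations `r % 2 ^ k` satisfy `good k`.
Application (`mem_enumC`): the elements `u` of `U` such that all `[c, u]`, `c` in a list of codes,
lie in a given list.
-/

set_option autoImplicit false

namespace Cfsg.Agent.FourTwo.Enum

open Cfsg.Agent.FourTwo.UCode Cfsg.Agent.FourTwo.UMod

/-- one level -/
def step (good : ℕ → Bool) (p : ℕ) (R : List ℕ) : List ℕ :=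
  List.rec [] (fun r _ ih => force r fun r => force (Nat.add r p) fun r' =>
    cond (good r) (r :: cond (good r') (r' :: ih) ih) (cond (good r') (r' :: ih) ih)) R

/-- the list of codes `r < 2 ^ n` whose truncations are good -/
def enum (good : ℕ → ℕ → Bool) (n : ℕ) : List ℕ :=
  Nat.rec [0] (fun k ih => step (good (k + 1)) (2 ^ k) ih) n

theorem step_cons (good : ℕ → Bool) (p r : ℕ) (R : List ℕ) : step good p (r :: R) =
    cond (good r) (r :: cond (good (r + p)) ((r + p) :: step good p R) (step good p R))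
      (cond (good (r + p)) ((r + p) :: step good p R) (step good p R)) := by
  show force r (fun r => force (Nat.add r p) fun r' =>
    cond (good r) (r :: cond (good r') (r' :: step good p R) (step good p R))
      (cond (good r') (r' :: step good p R) (step good p R))) = _
  rw [force_eq, force_eq]
  rfl

theorem mem_step {good : ℕ → Bool} {p : ℕ} : ∀ {R : List ℕ} {r : ℕ}, r ∈ R →
    (good r = true → r ∈ step good p R) ∧ (good (r + p) = true → r + p ∈ step good p R)
  | s :: R, r, h => by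
    rw [step_cons]
    rw [List.mem_cons] at h
    rcases h with rfl | h
    · constructor
      · intro h1
        rw [h1, cond_true]
        exact List.mem_cons_self
      · intro h1
        cases good r <;> simp [h1]
    · have ih := mem_step (good := good) (p := p) h
      constructor
      · intro h1
        have h2 := ih.1 h1
        cases good s <;> cases good (s + p) <;> simp [h2]
      · intro h1
        have h2 := ih.2 h1
        cases good s <;> cases good (s + p) <;> simp [h2]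

theorem mod_cases (u k : ℕ) : u % 2 ^ (k + 1) = u % 2 ^ k ∨ u % 2 ^ (k + 1) = u % 2 ^ k + 2 ^ k := by
  have hp : 2 ^ (k + 1) = 2 ^ k * 2 := pow_succ 2 k
  have hd : 2 ^ k ∣ 2 ^ (k + 1) := Dvd.intro _ hp.symm
  have h1 : u % 2 ^ (k + 1) % 2 ^ k = u % 2 ^ k := Nat.mod_mod_of_dvd _ hd
  have hpos : 0 < 2 ^ k := Nat.two_pow_pos k
  have h2 : u % 2 ^ (k + 1) < 2 ^ k * 2 := by rw [hp]; exact Nat.mod_lt _ (by omega)
  generalize u % 2 ^ (k + 1) = y at h1 h2 ⊢
  generalize u % 2 ^ k = w at h1 ⊢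
  generalize 2 ^ k = z at *
  have h3 := Nat.div_add_mod y z
  have h4 : y / z < 2 := Nat.div_lt_of_lt_mul h2
  have h5 : y / z = 0 ∨ y / z = 1 := by
    have h6 : ∀ w : ℕ, w < 2 → w = 0 ∨ w = 1 := by omega
    exact h6 _ h4
  rcases h5 with h5 | h5
  · left
    rw [h5] at h3
    omega
  · right
    rw [h5] at h3
    omega

theorem mem_enum {good : ℕ → ℕ → Bool} {u : ℕ} : ∀ {n : ℕ},
    (∀ k, k ≤ n → good k (u % 2 ^ k) = true) → u % 2 ^ n ∈ enum good n
  | 0, _ => by
    rw [pow_zero, Nat.mod_one]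
    exact List.mem_singleton.2 rfl
  | n + 1, h => by
    have ih := mem_enum (n := n) fun k hk => h k (by omega)
    have h1 := h (n + 1) le_rfl
    have h2 := mem_step (good := good (n + 1)) (p := 2 ^ n) ih
    show u % 2 ^ (n + 1) ∈ step (good (n + 1)) (2 ^ n) (enum good n)
    rcases mod_cases u n with h3 | h3
    · rw [h3] at h1 ⊢
      exact h2.1 h1
    · rw [h3] at h1 ⊢
      exact h2.2 h1

/-! ### commutators -/

theorem invU_mod {k : ℕ} (hk : k ≤ 24) {a a' : ℕ} (ha : a % 2 ^ k = a' % 2 ^ k) :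
    invU a % 2 ^ k = invU a' % 2 ^ k := by
  have ha' := ha.symm
  rw [← mod_iff (ZMod 2) hk] at ha ha' ⊢
  rw [el_invU, el_invU, inv_inv]
  have h : el (ZMod 2) a * (el (ZMod 2) a')⁻¹ =
      el (ZMod 2) a * ((el (ZMod 2) a')⁻¹ * el (ZMod 2) a) * (el (ZMod 2) a)⁻¹ := by group
  rw [h]
  exact conj_el _ ha' a

/-- code of `[c, a] = c a c⁻¹ a⁻¹` -/
def comU (c a : ℕ) : ℕ := force (conjU c a) fun b => mulU b (invU a)

theorem comU_eq (c a : ℕ) : comU c a = mulU (conjU c a) (invU a) := by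
  unfold comU
  rw [force_eq]

theorem el_comU (c a : ℕ) : el (ZMod 2) (comU c a) =
    el (ZMod 2) c * el (ZMod 2) a * (el (ZMod 2) c)⁻¹ * (el (ZMod 2) a)⁻¹ := by
  rw [comU_eq, el_mulU, el_conjU, el_invU]

theorem comU_mod {k : ℕ} (hk : k ≤ 24) (c : ℕ) {a a' : ℕ} (ha : a % 2 ^ k = a' % 2 ^ k) :
    comU c a % 2 ^ k = comU c a' % 2 ^ k := by
  rw [comU_eq, comU_eq]
  exact mulU_mod hk (conjU_mod hk c ha) (invU_mod hk ha)

/-- the truncated code `r` satisfies: `[c, r]` lies in `T` modulo `2 ^ k`, for all `(c, T)` in the list -/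
def goodC (cs : List (ℕ × List ℕ)) (k r : ℕ) : Bool :=
  cs.all fun c => force (Nat.mod (comU c.1 r) (2 ^ k)) fun y => c.2.any fun t => Nat.beq y (Nat.mod t (2 ^ k))

theorem mem_enumC {cs : List (ℕ × List ℕ)} {u n : ℕ} (hn : n ≤ 24)
    (h : ∀ c ∈ cs, ∃ t ∈ c.2, el (ZMod 2) c.1 * el (ZMod 2) u * (el (ZMod 2) c.1)⁻¹ * (el (ZMod 2) u)⁻¹ =
      el (ZMod 2) t) : u % 2 ^ n ∈ enum (goodC cs) n := by
  refine mem_enum fun k hk => ?_
  unfold goodC
  rw [List.all_eq_true]
  intro c hc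
  obtain ⟨t, ht, h1⟩ := h c hc
  rw [force_eq, List.any_eq_true]
  refine ⟨t, ht, ?_⟩
  have h2 : comU c.1 u % 2 ^ k = t % 2 ^ k := by
    rw [← el_comU, mod_24] at h1
    have h3 : 2 ^ k ∣ 2 ^ 24 := pow_dvd_pow 2 (by omega)
    rw [← Nat.mod_mod_of_dvd _ h3, h1, Nat.mod_mod_of_dvd _ h3]
  have h3 : comU c.1 (u % 2 ^ k) % 2 ^ k = comU c.1 u % 2 ^ k :=
    comU_mod (by omega) _ (Nat.mod_mod _ _)
  rw [Nat.beq_eq]
  show comU c.1 (u % 2 ^ k) % 2 ^ k = t % 2 ^ k
  rw [h3, h2]

end Cfsg.Agent.FourTwo.Enum
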