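import Cfsg.Agent.FourTwo.Enum
import Cfsg.Agent.FourTwo.Classes
import Cfsg.Agent.FourTwo.Cent

/-!
# Facts on `U`

* `cent_U`: an element of `U` commuting with the four fundamental root elements is in
  `{1, x 44, x 47, x 44 * x 47}`;
* `mod_short`, `mod_long`, `mod_mid`: the elements of `U` which are central modulo `⟨x 44⟩`, `⟨x 47⟩`,
  `⟨x 44 * x 47⟩`.
-/

set_option autoImplicit false

namespace Cfsg.Agent.FourTwo.Facts

open Cfsg.Lie Cfsg.Agent.ChevalleyStructure.TwF4.Rel Cfsg.Agent.ChevalleyStructure.TwF4.Tables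
open Cfsg.Agent.FourTwo.Base
open Cfsg.Agent.FourTwo.UCode hiding x
open Cfsg.Agent.FourTwo.UMod hiding V
open Cfsg.Agent.FourTwo.Enum Cfsg.Agent.FourTwo.Classes Cfsg.Agent.FourTwo.BN Cfsg.Agent.FourTwo.Par
open Cfsg.Agent.FourTwo.Cent

theorem UL_eq : UL = U := rfl

/-- elements of `U` and codes -/
theorem exists_ec {u : LL} (hu : u ∈ U) : ∃ e, e < 2 ^ 24 ∧ u = ec e := mem_UL_iff_ec.1 hu

/-- general enumeration: `u ∈ U` whose commutators with the listed elements are restricted -/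
theorem enum_U (cs : List (ℕ × List ℕ)) (L : List ℕ)
    (hL : ((enum (goodC cs) 24).all fun e => L.any fun f => Nat.beq e f) = true) {u : LL} (hu : u ∈ U)
    (h : ∀ c ∈ cs, ∃ t ∈ c.2, ec c.1 * u * (ec c.1)⁻¹ * u⁻¹ = ec t) : ∃ f ∈ L, u = ec f := by
  obtain ⟨e, he, rfl⟩ := exists_ec hu
  have h1 : e % 2 ^ 24 ∈ enum (goodC cs) 24 := by
    refine mem_enumC le_rfl fun c hc => ?_
    obtain ⟨t, ht, h2⟩ := h c hc
    refine ⟨t, ht, ?_⟩
    have h3 : ((ec c.1 * ec e * (ec c.1)⁻¹ * (ec e)⁻¹ : LL) : GL chevF4.Idx (ZMod 2)) = el (ZMod 2) t := by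
      rw [h2, coe_ec]
    exact h3
  rw [Nat.mod_eq_of_lt he] at h1
  rw [List.all_eq_true] at hL
  have h2 := hL e h1
  rw [List.any_eq_true] at h2
  obtain ⟨f, hf, h3⟩ := h2
  exact ⟨f, hf, by rw [Nat.eq_of_beq_eq_true h3]⟩

/-! ### codes of the root elements -/

theorem two_pow_0 : 2 ^ (24 - 24) = 1 := by norm_num
theorem two_pow_1 : 2 ^ (25 - 24) = 2 := by norm_num
theorem two_pow_3 : 2 ^ (27 - 24) = 8 := by norm_num
theorem two_pow_9 : 2 ^ (33 - 24) = 512 := by norm_num
theorem ec24 : x 24 = ec 1 := by rw [x_eq_ec (by omega) (by omega), two_pow_0]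
theorem ec25 : x 25 = ec 2 := by rw [x_eq_ec (by omega) (by omega), two_pow_1]
theorem ec27 : x 27 = ec 8 := by rw [x_eq_ec (by omega) (by omega), two_pow_3]
theorem ec33 : x 33 = ec 512 := by rw [x_eq_ec (by omega) (by omega), two_pow_9]

theorem two_pow_16 : 2 ^ (40 - 24) = 65536 := by norm_num
theorem two_pow_22 : 2 ^ (46 - 24) = 4194304 := by norm_num

theorem ec40 : x 40 = ec 65536 := by rw [x_eq_ec (by omega) (by omega), two_pow_16]
theorem ec46 : x 46 = ec 4194304 := by rw [x_eq_ec (by omega) (by omega), two_pow_22]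

theorem ec_9437184 : x 44 * x 47 = ec 9437184 := by rw [ec44, ec47, ← ec_mulU, mulU_a]

/-- the list of conditions -/
def cond4 (T : List ℕ) : List (ℕ × List ℕ) := [(1, T), (2, T), (8, T), (512, T)]

theorem enum_simple (T L : List ℕ)
    (hL : ((enum (goodC (cond4 T)) 24).all fun e => L.any fun f => Nat.beq e f) = true) {u : LL} (hu : u ∈ U)
    (h : ∀ r ∈ [24, 25, 27, 33], ∃ t ∈ T, x r * u * (x r)⁻¹ * u⁻¹ = ec t) : ∃ f ∈ L, u = ec f := by
  refine enum_U (cond4 T) L hL hu ?_
  intro c hc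
  unfold cond4 at hc
  simp only [List.mem_cons, List.not_mem_nil, or_false] at hc
  rcases hc with rfl | rfl | rfl | rfl
  · dsimp only
    rw [← ec24]
    exact h 24 (by simp)
  · dsimp only
    rw [← ec25]
    exact h 25 (by simp)
  · dsimp only
    rw [← ec27]
    exact h 27 (by simp)
  · dsimp only
    rw [← ec33]
    exact h 33 (by simp)

theorem cent_U {u : LL} (hu : u ∈ U) (h : ∀ r ∈ [24, 25, 27, 33], x r * u = u * x r) :
    u = 1 ∨ u = x 44 ∨ u = x 47 ∨ u = x 44 * x 47 := by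
  have h1 := enum_simple [0] [0, 1048576, 8388608, 9437184] (by decide +kernel) hu (fun r hr =>
    ⟨0, List.mem_singleton.2 rfl, by rw [h r hr, ec_zero]; group⟩)
  obtain ⟨f, hf, rfl⟩ := h1
  simp only [List.mem_cons, List.not_mem_nil, or_false] at hf
  rcases hf with rfl | rfl | rfl | rfl
  · exact Or.inl ec_zero
  · exact Or.inr (Or.inl ec44.symm)
  · exact Or.inr (Or.inr (Or.inl ec47.symm))
  · exact Or.inr (Or.inr (Or.inr ec_9437184.symm))

/-- elements of `U` central modulo `⟨x 44⟩` -/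
theorem mod_short {u : LL} (hu : u ∈ U)
    (h : ∀ r ∈ [24, 25, 27, 33], x r * u * (x r)⁻¹ * u⁻¹ = 1 ∨ x r * u * (x r)⁻¹ * u⁻¹ = x 44) :
    u ∈ Subgroup.closure ({x 40, x 44, x 47} : Set LL) := by
  have h1 := enum_simple [0, 1048576]
    [0, 65536, 1048576, 1114112, 8388608, 8454144, 9437184, 9502720] (by decide +kernel) hu (fun r hr => by
      rcases h r hr with h2 | h2
      · exact ⟨0, by simp, by rw [h2, ec_zero]⟩
      · exact ⟨1048576, by simp, by rw [h2, ec44]⟩)
  have m40 : ec 65536 ∈ Subgroup.closure ({x 40, x 44, x 47} : Set LL) := by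
    rw [← ec40]; exact Subgroup.subset_closure (by simp)
  have m44 : ec 1048576 ∈ Subgroup.closure ({x 40, x 44, x 47} : Set LL) := by
    rw [← ec44]; exact Subgroup.subset_closure (by simp)
  have m47 : ec 8388608 ∈ Subgroup.closure ({x 40, x 44, x 47} : Set LL) := by
    rw [← ec47]; exact Subgroup.subset_closure (by simp)
  have e1 : mulU 65536 1048576 = 1114112 := by decide +kernel
  have e2 : mulU 65536 8388608 = 8454144 := by decide +kernel
  have e3 : mulU 1048576 8388608 = 9437184 := by decide +kernel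
  have e4 : mulU 65536 9437184 = 9502720 := by decide +kernel
  obtain ⟨f, hf, rfl⟩ := h1
  simp only [List.mem_cons, List.not_mem_nil, or_false] at hf
  rcases hf with rfl | rfl | rfl | rfl | rfl | rfl | rfl | rfl
  · rw [ec_zero]; exact one_mem _
  · exact m40
  · exact m44
  · rw [← e1, ec_mulU]; exact mul_mem m40 m44
  · exact m47
  · rw [← e2, ec_mulU]; exact mul_mem m40 m47
  · rw [← e3, ec_mulU]; exact mul_mem m44 m47
  · rw [← e4, ec_mulU, ← e3, ec_mulU]; exact mul_mem m40 (mul_mem m44 m47)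

/-- elements of `U` central modulo `⟨x 47⟩` -/
theorem mod_long {u : LL} (hu : u ∈ U)
    (h : ∀ r ∈ [24, 25, 27, 33], x r * u * (x r)⁻¹ * u⁻¹ = 1 ∨ x r * u * (x r)⁻¹ * u⁻¹ = x 47) :
    u ∈ Subgroup.closure ({x 46, x 44, x 47} : Set LL) := by
  have h1 := enum_simple [0, 8388608]
    [0, 4194304, 1048576, 5242880, 8388608, 12582912, 9437184, 13631488] (by decide +kernel) hu (fun r hr => by
      rcases h r hr with h2 | h2
      · exact ⟨0, by simp, by rw [h2, ec_zero]⟩
      · exact ⟨8388608, by simp, by rw [h2, ec47]⟩)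
  have m46 : ec 4194304 ∈ Subgroup.closure ({x 46, x 44, x 47} : Set LL) := by
    rw [← ec46]; exact Subgroup.subset_closure (by simp)
  have m44 : ec 1048576 ∈ Subgroup.closure ({x 46, x 44, x 47} : Set LL) := by
    rw [← ec44]; exact Subgroup.subset_closure (by simp)
  have m47 : ec 8388608 ∈ Subgroup.closure ({x 46, x 44, x 47} : Set LL) := by
    rw [← ec47]; exact Subgroup.subset_closure (by simp)
  have e1 : mulU 4194304 1048576 = 5242880 := by decide +kernel
  have e2 : mulU 4194304 8388608 = 12582912 := by decide +kernel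
  have e3 : mulU 1048576 8388608 = 9437184 := by decide +kernel
  have e4 : mulU 4194304 9437184 = 13631488 := by decide +kernel
  obtain ⟨f, hf, rfl⟩ := h1
  simp only [List.mem_cons, List.not_mem_nil, or_false] at hf
  rcases hf with rfl | rfl | rfl | rfl | rfl | rfl | rfl | rfl
  · rw [ec_zero]; exact one_mem _
  · exact m46
  · exact m44
  · rw [← e1, ec_mulU]; exact mul_mem m46 m44
  · exact m47
  · rw [← e2, ec_mulU]; exact mul_mem m46 m47
  · rw [← e3, ec_mulU]; exact mul_mem m44 m47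
  · rw [← e4, ec_mulU, ← e3, ec_mulU]; exact mul_mem m46 (mul_mem m44 m47)

/-- elements of `U` central modulo `⟨x 44 * x 47⟩` -/
theorem mod_mid {u : LL} (hu : u ∈ U)
    (h : ∀ r ∈ [24, 25, 27, 33], x r * u * (x r)⁻¹ * u⁻¹ = 1 ∨ x r * u * (x r)⁻¹ * u⁻¹ = x 44 * x 47) :
    u = 1 ∨ u = x 44 ∨ u = x 47 ∨ u = x 44 * x 47 := by
  have h1 := enum_simple [0, 9437184] [0, 1048576, 8388608, 9437184] (by decide +kernel) hu (fun r hr => by
      rcases h r hr with h2 | h2
      · exact ⟨0, by simp, by rw [h2, ec_zero]⟩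
      · exact ⟨9437184, by simp, by rw [h2, ec_9437184]⟩)
  obtain ⟨f, hf, rfl⟩ := h1
  simp only [List.mem_cons, List.not_mem_nil, or_false] at hf
  rcases hf with rfl | rfl | rfl | rfl
  · exact Or.inl ec_zero
  · exact Or.inr (Or.inl ec44.symm)
  · exact Or.inr (Or.inr (Or.inl ec47.symm))
  · exact Or.inr (Or.inr (Or.inr ec_9437184.symm))

end Cfsg.Agent.FourTwo.Facts
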