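import Cfsg.Agent.FourTwo.Lift
import Cfsg.Agent.FourTwo.ClassSep

/-!
# Involutions in central 2-extensions of `F₄(2)`

* `cent_c`: `C(x 44 * x 47) ≤ C(x 44)`, `C(x 47)`;
* `eq_one_of_comm`: the centre of `F₄(2)` is trivial; `eq_one_of_45`: an element commuting with `x r * x (bar r)` for
  all long `r` at 45° to `bar r` is trivial;
* `Ext.exists_std`: the involutions of `L` up to conjugacy;
* `Ext.sq_one`, `Ext.p1`, `Ext.p2`: the inner parts of the properties (P1), (P2).
-/

set_option autoImplicit false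

namespace Cfsg.Agent.FourTwo.LiftInv

open Cfsg.Agent.ChevalleyStructure.TwF4.Torus (all_of)
open Cfsg.Agent.ChevalleyStructure.TwF4.Rel (refl refl_lt)
open Cfsg.Agent.ChevalleyStructure.F4NTab (ct)
open Cfsg.Agent.FourTwo.Base hiding bar_lt x_mul_self
open Cfsg.Agent.FourTwo.Comm Cfsg.Agent.FourTwo.BN Cfsg.Agent.FourTwo.Par Cfsg.Agent.FourTwo.Cent
open Cfsg.Agent.FourTwo.CentAll Cfsg.Agent.FourTwo.Perf Cfsg.Agent.FourTwo.PairW Cfsg.Agent.FourTwo.Lift
open Cfsg.Agent.FourTwo.CentP (cent45 cent90m')
open Cfsg.Agent.F42.RelTab (all2 all2_spec)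

/-! ### group theory -/

theorem g_cancel {G : Type*} [Group G] {g a b : G} (h : g * (a * b) = (a * b) * g) (h1 : g * a = a * g) :
    g * b = b * g := by
  have h2 : a * (g * b) = a * (b * g) := by
    rw [← mul_assoc, ← h1, mul_assoc, h, mul_assoc]
  exact mul_left_cancel h2

theorem g_comm {G : Type*} [Group G] {g r s w : G} (h5 : r * s = s * w * r) (h3 : Commute g r) (h4 : Commute g s) :
    Commute g w := by
  have h6 : w = s⁻¹ * (r * s) * r⁻¹ := by rw [h5]; group
  rw [h6]
  exact (h4.inv_right.mul_right (h3.mul_right h4)).mul_right h3.inv_right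

theorem g_left {G : Type*} [Group G] {g a b : G} (h : Commute g (a * b)) (h1 : Commute g b) : Commute g a := by
  have h3 := h.mul_right h1.inv_right
  rwa [mul_inv_cancel_right] at h3

theorem g_right {G : Type*} [Group G] {g a b : G} (h : Commute g (a * b)) (h1 : Commute g a) : Commute g b := by
  have h3 := h1.inv_right.mul_right h
  rwa [inv_mul_cancel_left] at h3

theorem g_braid {G : Type*} [Group G] {a b : G} (ha : a * a = 1) (hb : b * b = 1) (h : a * b = b * a)
    (h6 : a * b * a = b * a * b) : a = b := by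
  have h8 : a * b * a = b := by rw [h, mul_assoc, ha, mul_one]
  have h9 : b * a * b = a := by rw [← h, mul_assoc, hb, mul_one]
  rw [← h8, h6, h9]

theorem g_one {G : Type*} [Group G] {a b w : G} (h : a * b = b * a) (h6 : a * b = b * w * a) : w = 1 := by
  rw [h] at h6
  have h8 : b * w * a = b * 1 * a := by rw [← h6, mul_one]
  exact mul_left_cancel (mul_right_cancel h8)

theorem g_commute {G : Type*} [Group G] {a b : G} (h : a * b = b * a) : Commute a b := h

/-! ### facts on `F₄(2)` -/

/-- the centraliser of `x 44 * x 47` centralises `x 44` -/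
theorem cent_c {g : LL} (h : g * (x 44 * x 47) = (x 44 * x 47) * g) : g * x 44 = x 44 * g := by
  have h44 : ∀ r < 48, posP r = true → comB r 44 = true := by decide +kernel
  have h47 : ∀ r < 48, posP r = true → comB r 47 = true := by decide +kernel
  have hU : U ≤ Subgroup.centralizer {x 44 * x 47} := by
    rw [U_eq]
    refine RG_le fun r hr hp => ?_
    rw [Subgroup.mem_centralizer_singleton_iff]
    have h1 := comm_of_comB hr (by omega) (h44 r hr hp)
    have h2 := comm_of_comB hr (by omega) (h47 r hr hp)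
    rw [← mul_assoc, h1, mul_assoc, h2, mul_assoc]
  have hg : g ∈ Subgroup.centralizer {x 44 * x 47} := by
    rw [Subgroup.mem_centralizer_singleton_iff]
    exact h
  rw [parabolic_eq hU] at hg
  have key : U ⊔ Subgroup.closure {g | ∃ i < 4, n i ∈ Subgroup.centralizer {x 44 * x 47} ∧ g = n i} ≤
      Subgroup.centralizer {x 44} := by
    refine sup_le ?_ ?_
    · rw [U_eq]
      refine RG_le fun r hr hp => ?_
      rw [Subgroup.mem_centralizer_singleton_iff]
      exact comm_of_comB hr (by omega) (h44 r hr hp)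
    · rw [Subgroup.closure_le]
      rintro _ ⟨i, hi, hn, rfl⟩
      rw [Subgroup.mem_centralizer_singleton_iff] at hn
      have h1 := hn
      have h2 : n i * (x 44 * x 47) = (x (refl i 44) * x (refl i 47)) * n i := by
        rw [← mul_assoc, n_mul_x hi (by omega), mul_assoc, n_mul_x hi (by omega), mul_assoc]
      rw [h1] at h2
      have h3 := mul_right_cancel h2
      have tab : ∀ i < 4, refl i 44 = 44 ∨ refl i 47 = 47 := by decide
      have h4 : refl i 44 = 44 := by
        rcases tab i hi with h | h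
        · exact h
        · rw [h] at h3
          exact (x_inj (by omega) (refl_lt i 44 hi (by omega)) (mul_right_cancel h3)).symm
      have h5 : n i ∈ Subgroup.centralizer {x 44} := by
        rw [Subgroup.mem_centralizer_singleton_iff, n_mul_x hi (by omega), h4]
      exact h5
  have h6 := key hg
  rw [Subgroup.mem_centralizer_singleton_iff] at h6
  exact h6

/-- commuting with `a`, `b` gives commuting with the product -/
theorem cent_c' {g : LL} (h : g * (x 44 * x 47) = (x 44 * x 47) * g) : g * x 47 = x 47 * g := by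
  exact g_cancel (G := LL) h (cent_c h)

theorem comm_wd {g : LL} {r s : ℕ} (hr : r < 48) (hs : s < 48) (h1 : r ≠ s) (h2 : r + s ≠ 47) (h3 : Commute g (x r))
    (h4 : Commute g (x s)) : Commute g (wd (cmg r s)) := g_comm (G := LL) (comm_all hr hs h1 h2) h3 h4

/-- one round of the closure: a triple `(r, s, t)` with `cmg r s` in terms of `t` and known roots -/
def addB (l : List ℕ) (e : ℕ × ℕ × ℕ) : Bool :=
  Nat.blt e.1 48 && Nat.blt e.2.1 48 && !Nat.beq e.1 e.2.1 && !Nat.beq (e.1 + e.2.1) 47 && l.contains e.1 &&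
    l.contains e.2.1 && (match cmg e.1 e.2.1 with
      | [t] => Nat.beq t e.2.2
      | [t, u] => (Nat.beq t e.2.2 && l.contains u) || (Nat.beq u e.2.2 && l.contains t)
      | _ => false)

theorem addB_spec {g : LL} {l : List ℕ} {e : ℕ × ℕ × ℕ} (h : addB l e = true) (hl : ∀ r ∈ l, Commute g (x r)) :
    Commute g (x e.2.2) := by
  obtain ⟨r, s, v⟩ := e
  unfold addB at h
  simp only [Bool.and_eq_true, Nat.blt_eq, Bool.not_eq_true', List.contains_eq_mem, decide_eq_true_eq] at h
  obtain ⟨⟨⟨⟨⟨⟨a1, a2⟩, a3⟩, a4⟩, a5⟩, a6⟩, a7⟩ := h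
  have b3 : r ≠ s := fun h => by rw [h, Nat.beq_refl] at a3; exact absurd a3 (by decide)
  have b4 : r + s ≠ 47 := fun h => by rw [h] at a4; exact absurd a4 (by decide)
  have h1 := comm_wd a1 a2 b3 b4 (hl r a5) (hl s a6)
  rcases hc : cmg r s with _ | ⟨t, _ | ⟨u, _ | ⟨w, m⟩⟩⟩
  · rw [hc] at a7
    exact absurd a7 Bool.false_ne_true
  · rw [hc] at a7 h1
    rw [wd_one] at h1
    have : t = v := Nat.eq_of_beq_eq_true a7
    rw [← this]
    exact h1
  · rw [hc] at a7 h1
    rw [wd_cons, wd_one] at h1
    simp only [Bool.or_eq_true, Bool.and_eq_true, Nat.beq_eq, decide_eq_true_eq] at a7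
    rcases a7 with ⟨rfl, h2⟩ | ⟨rfl, h2⟩
    · exact g_left (G := LL) h1 (hl u h2)
    · exact g_right (G := LL) h1 (hl t h2)
  · rw [hc] at a7
    exact absurd a7 Bool.false_ne_true

/-- a list of steps -/
def addL (l : List ℕ) : List (ℕ × ℕ × ℕ) → Bool
  | [] => true
  | e :: m => addB l e && addL (e.2.2 :: l) m

theorem addL_spec {g : LL} : ∀ {m : List (ℕ × ℕ × ℕ)} {l : List ℕ}, addL l m = true → (∀ r ∈ l, Commute g (x r)) →
    ∀ r ∈ l ++ m.map (fun e => e.2.2), Commute g (x r)
  | [], l, _, hl => by simpa using hl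
  | e :: m, l, h, hl => by
    unfold addL at h
    rw [Bool.and_eq_true] at h
    have h1 := addB_spec h.1 hl
    have h2 := addL_spec (l := e.2.2 :: l) h.2 (by
      intro r hr
      rcases List.mem_cons.1 hr with rfl | hr
      · exact h1
      · exact hl r hr)
    intro r hr
    apply h2
    simp only [List.map_cons, List.mem_append, List.mem_cons] at hr ⊢
    tauto

/-- commuting root elements -/
theorem comB_of_comm {r s : ℕ} (hr : r < 48) (hs : s < 48) (h : x r * x s = x s * x r) : comB r s = true := by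
  by_contra h2
  unfold comB at h2
  rw [Bool.not_eq_true, Bool.or_eq_false_iff] at h2
  obtain ⟨h2, h3⟩ := h2
  have h4 : r ≠ s := fun h => by rw [h, Nat.beq_refl] at h2; exact absurd h2 (by decide)
  by_cases h5 : r + s = 47
  · -- opposite root elements do not commute
    have h6 := opp_all hr
    have e : 47 - r = s := by omega
    rw [e] at h6
    exact h4 (x_inj hr hs (g_braid (G := LL) (Base.x_mul_self r) (Base.x_mul_self s) h h6))
  · have h7 : wd (cmg r s) = 1 := g_one (G := LL) h (comm_all hr hs h4 h5)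
    rw [Bool.and_eq_false_iff] at h3
    rcases h3 with h3 | h3
    · rw [Bool.not_eq_false', Nat.beq_eq] at h3
      exact h5 h3
    · rcases hc : cmg r s with _ | ⟨t, _ | ⟨u, l⟩⟩
      · rw [hc] at h3; exact absurd h3 (by decide)
      · rw [hc, wd_one] at h7
        have o := one_of hr hs hc
        exact x_ne_one o.ht h7
      · have hlen := all2_spec len_tab hr hs
        rw [hc] at hlen h7
        rcases l with _ | ⟨v, l⟩
        · have o := two_of hr hs hc
          rw [wd_cons, wd_one, mul_eq_one_iff_eq_inv, Base.x_inv] at h7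
          have h8 := x_inj o.ht o.hu h7
          have h9 := o.s2
          rw [h8, o.s3] at h9
          exact absurd h9 (by decide)
        · simp at hlen

/-- the centre is trivial -/
theorem eq_one_of_comm {g : LL} (h : ∀ r < 48, Commute g (x r)) : g = 1 := by
  obtain ⟨a, b, ha, hb, rfl⟩ := cent45 (g := g) fun q hq => h q (by
    simp only [List.mem_cons, List.not_mem_nil, or_false] at hq; omega)
  rcases ha with rfl | rfl
  · rcases hb with rfl | rfl
    · rw [mul_one]
    · exfalso
      have h2 := (h 0 (by omega)).eq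
      rw [one_mul] at h2
      exact absurd (comB_of_comm (by omega) (by omega) h2 : comB 47 0 = true) (by decide)
  · rcases hb with rfl | rfl
    · exfalso
      have h2 := (h 3 (by omega)).eq
      rw [mul_one] at h2
      exact absurd (comB_of_comm (by omega) (by omega) h2 : comB 44 3 = true) (by decide)
    · exfalso
      have h2 := (h 23 (by omega)).eq
      have h4 : x 44 * x 23 = x 23 * x 44 := comm_of_comB (by omega) (by omega) (by decide)
      rw [eq_comm] at h2 h4
      have h3 := g_cancel (G := LL) h2 h4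
      rw [eq_comm] at h3
      exact absurd (comB_of_comm (by omega) (by omega) h3 : comB 47 23 = true) (by decide)

/-- the long roots `r` at 45° to `bar r` -/
def l45 : List ℕ := [0, 1, 5, 17, 30, 42, 46, 47]

theorem tab45 : (l45.all fun r => Nat.blt r 48 && Nat.blt (bar r) 48 && !Nat.beq r (bar r) &&
    !Nat.beq (r + bar r) 47 && m45 r (bar r) && comB r (bar r)) = true := by decide +kernel

theorem gen45 : addL (l45 ++ l45.map bar) [(0, 42, 15), (0, 46, 23), (1, 47, 24), (1, 30, 4), (3, 36, 10),
  (3, 40, 14), (36, 4, 12), (36, 14, 29), (36, 28, 39), (5, 17, 2), (5, 24, 6), (5, 47, 32), (7, 28, 9), (7, 32, 13),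
  (7, 39, 20), (7, 44, 33), (40, 1, 31), (40, 19, 38), (42, 4, 22), (42, 9, 16), (42, 13, 26), (42, 23, 41),
  (42, 30, 45), (11, 19, 8), (11, 33, 18), (11, 38, 27), (11, 44, 37), (44, 2, 43), (44, 8, 34), (44, 9, 35),
  (46, 2, 25), (46, 8, 21)] = true := by decide +kernel

theorem all45 : ((List.range 48).all fun r => ((l45 ++ l45.map bar) ++ [15, 23, 24, 4, 10, 14, 12, 29, 39, 2, 6, 32, 9, 13,
  20, 33, 31, 38, 22, 16, 26, 41, 45, 8, 18, 27, 37, 43, 34, 35, 25, 21]).contains r) = true := by decide +kernel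

theorem g_conj {G : Type*} [Group G] {w g a a' : G} (ha : w * a * w⁻¹ = a') (h : (w * g * w⁻¹) * a' = a' * (w * g * w⁻¹)) :
    g * a = a * g := by
  rw [← ha] at h
  have h1 : w * (g * a) * w⁻¹ = w * (a * g) * w⁻¹ := by
    calc w * (g * a) * w⁻¹ = (w * g * w⁻¹) * (w * a * w⁻¹) := by group
      _ = (w * a * w⁻¹) * (w * g * w⁻¹) := h
      _ = _ := by group
  exact mul_left_cancel (mul_right_cancel h1)

theorem g_conj' {G : Type*} [Group G] {w g a b a' b' : G} (ha : w * a * w⁻¹ = a') (hb : w * b * w⁻¹ = b')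
    (h : g * (a * b) = (a * b) * g) : (w * g * w⁻¹) * (b' * a') = (b' * a') * (w * g * w⁻¹) ∨ a * b ≠ b * a := by
  by_cases hc : a * b = b * a
  · left
    rw [← ha, ← hb]
    calc (w * g * w⁻¹) * ((w * b * w⁻¹) * (w * a * w⁻¹)) = w * (g * (b * a)) * w⁻¹ := by group
      _ = w * ((b * a) * g) * w⁻¹ := by rw [← hc, h]
      _ = _ := by group
  · exact Or.inr hc

theorem g_both {G : Type*} [Group G] {w a b a' b' : G} (ha' : w * a = a' * w) (hb' : w * b = b' * w)
    (hab : a * b = b * a) (c1 : ∀ g : G, g * (b' * a') = (b' * a') * g → g * b' = b' * g)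
    (c2 : ∀ g : G, g * (b' * a') = (b' * a') * g → g * a' = a' * g) (g : G) (h : g * (a * b) = (a * b) * g) :
    Commute g a ∧ Commute g b := by
  have ha : w * a * w⁻¹ = a' := by rw [ha', mul_inv_cancel_right]
  have hb : w * b * w⁻¹ = b' := by rw [hb', mul_inv_cancel_right]
  rcases g_conj' ha hb h with h4 | h4
  · exact ⟨g_conj ha (c2 _ h4), g_conj hb (c1 _ h4)⟩
  · exact absurd hab h4

/-- An element commuting with all `x r * x (bar r)`, `r` in `l45`, is trivial. -/
theorem eq_one_of_45 {g : LL} (h : ∀ r ∈ l45, g * (x r * x (bar r)) = (x r * x (bar r)) * g) : g = 1 := by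
  have key : ∀ r ∈ l45, Commute g (x r) ∧ Commute g (x (bar r)) := by
    intro r hr
    have h1 := tab45
    rw [List.all_eq_true] at h1
    have h2 := h1 r hr
    simp only [Bool.and_eq_true, Nat.blt_eq, Bool.not_eq_true'] at h2
    obtain ⟨⟨⟨⟨⟨a1, a2⟩, -⟩, -⟩, a5⟩, a6⟩ := h2
    obtain ⟨w1, w2⟩ := act_of act45 a1 a2 a5
    have hw := word_lt a1 a2
    have c1 := nw_conj hw a1
    have c2 := nw_conj hw a2
    rw [w1, mul_inv_eq_iff_eq_mul] at c1
    rw [w2, mul_inv_eq_iff_eq_mul] at c2
    have h3 := comm_of_comB a1 a2 a6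
    have k1 := g_both (G := LL) (w := nw (word r (bar r))) (a := x r) (b := x (bar r)) (a' := x 47) (b' := x 44)
    exact k1 c1 c2 h3 (fun g hg => cent_c hg) (fun g hg => cent_c' hg) g (h r hr)
  apply eq_one_of_comm
  have h1 : ∀ r ∈ l45 ++ l45.map bar, Commute g (x r) := by
    intro r hr
    rcases List.mem_append.1 hr with hr | hr
    · exact (key r hr).1
    · obtain ⟨s, hs, rfl⟩ := List.mem_map.1 hr
      exact (key s hs).2
  have h2 := addL_spec gen45 h1
  intro r hr
  apply h2
  have h3 := all_of all45 hr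
  simpa using h3

end Cfsg.Agent.FourTwo.LiftInv
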