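import Cfsg.Agent.TypeO8Plus.CTHom
import Cfsg.Agent.FourTwo.Comm

/-!
Steinberg's presentation of `F₄(2)` in terms of the root table:

* `exists_hom`: elements `f r` (`r < 48`) of a group with `f r * f r = 1` and the commutator relations
  `f r * f s = f s * ∏ (cmg r s) * f r` (`r ≠ ± s`) define a homomorphism `LL →* G`, `x r ↦ f r`;
* `split`: a central extension `π : K →* LL` with `K` perfect is an isomorphism as soon as the root elements have lifts
  satisfying these relations.
-/

set_option autoImplicit false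

namespace Cfsg.Agent.FourTwo.Pres

open Cfsg.Lie
open Cfsg.Agent.ChevalleyStructure.TwF4.Torus (all_of)
open scoped commutatorElement
open Cfsg.Agent.FourTwo.Base hiding bar bar_lt
open Cfsg.Agent.FourTwo.Comm

/-- the letters of the commutator word of the Chevalley datum modulo 2 -/
def ct (r s : ℕ) : List ℕ := ((chevF4.commTerms r s).filter fun c => c.2.1 % 2 != 0).map fun c => c.1

theorem ct_tab : ((List.range 48).all fun r => (List.range 48).all fun s => r == s || r + s == 47 || ct r s == cmg r s) =
    true := by decide +kernel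

theorem ct_eq {r s : ℕ} (hr : r < 48) (hs : s < 48) (h1 : r ≠ s) (h2 : r + s ≠ 47) : ct r s = cmg r s := by
  have h3 := all_of (all_of ct_tab hr) hs
  simp only [Bool.or_eq_true, beq_iff_eq, h1, h2, false_or] at h3
  exact h3

theorem neg_tab : ((List.range 48).all fun r => chevF4.neg r == 47 - r) = true := by decide +kernel

theorem exp_tab : ((List.range 48).all fun r => (List.range 48).all fun s => (chevF4.commTerms r s).all fun c =>
    c.2.2.1 != 0 && c.2.2.2 != 0) = true := by decide +kernel

section

variable {G : Type*} [Group G] {f : ℕ → G}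

/-- the generators over `F₂` -/
def yy (f : ℕ → G) (r : ℕ) (t : ZMod 2) : G := if t = 1 then f r else 1

theorem yy_zero (r : ℕ) : yy f r 0 = 1 := if_neg (by decide)

theorem yy_one (r : ℕ) : yy f r 1 = f r := if_pos rfl

theorem lift_stX {r : ℕ} (hr : r < 48) (t : ZMod 2) :
    FreeGroup.lift (fun p : Fin chevF4.nroots × ZMod 2 => yy f p.1 p.2) (chevF4.stX r t) = yy f r t := by
  have hr' : r < chevF4.nroots := hr
  rw [ChevalleyDatum.stX, dif_pos hr', FreeGroup.lift_apply_of]

theorem lift_stWord {w : List (ℕ × ZMod 2)} (hw : ∀ p ∈ w, p.1 < 48) :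
    FreeGroup.lift (fun p : Fin chevF4.nroots × ZMod 2 => yy f p.1 p.2) (chevF4.stWord w) =
      (w.map fun p => yy f p.1 p.2).prod := by
  rw [ChevalleyDatum.stWord, map_list_prod, List.map_map]
  congr 1
  exact List.map_congr_left fun p hp => lift_stX (hw p hp) p.2

theorem cast_odd {n : ℤ} : ((n : ZMod 2) = 1) ↔ (n % 2 != 0) = true := by
  rw [bne_iff_ne]
  constructor
  · intro h h2
    have h3 : ((n : ℤ) : ZMod 2) = 0 := (ZMod.intCast_zmod_eq_zero_iff_dvd n 2).2 (Int.dvd_of_emod_eq_zero h2)
    rw [h] at h3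
    exact absurd h3 (by decide)
  · intro h
    rcases zmod_cases (n : ZMod 2) with h1 | h1
    · exact absurd (Int.emod_eq_zero_of_dvd ((ZMod.intCast_zmod_eq_zero_iff_dvd n 2).1 h1)) h
    · exact h1

/-- **Steinberg's presentation of `F₄(2)`.** -/
theorem exists_hom (hsq : ∀ r < 48, f r * f r = 1)
    (hcomm : ∀ r < 48, ∀ s < 48, r ≠ s → r + s ≠ 47 → f r * f s = f s * ((cmg r s).map f).prod * f r) :
    ∃ φ : LL →* G, ∀ r < 48, φ (x r) = f r := by
  obtain ⟨θ, hθ⟩ := Cfsg.Agent.TypeO8Plus.CTHom.exists_theta (D := chevF4) (by simp)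
  have hlt : ∀ r < 48, ∀ s < 48, ∀ c ∈ chevF4.commTerms r s, c.1 < 48 := by
    have : ((List.range 48).all fun r => (List.range 48).all fun s => (chevF4.commTerms r s).all fun c =>
        decide (c.1 < 48)) = true := by decide +kernel
    intro r hr s hs c hc
    have h := all_of (all_of this hr) hs
    rw [List.all_eq_true] at h
    simpa using h c hc
  have hrel : ∀ g ∈ chevF4.steinbergRels (ZMod 2),
      FreeGroup.lift (fun p : Fin chevF4.nroots × ZMod 2 => yy f p.1 p.2) g = 1 := by
    rintro g ((⟨r, t, u, hr, rfl⟩ | ⟨r, s, t, u, hr, hs, h1, h2, rfl⟩) | ⟨r, t, u, hr, ht, hu, rfl⟩)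
    · rw [map_mul, map_mul, map_inv, lift_stX hr, lift_stX hr, lift_stX hr]
      rcases zmod_cases t with rfl | rfl <;> rcases zmod_cases u with rfl | rfl
      · rw [add_zero, yy_zero]; simp
      · rw [zero_add, yy_zero, one_mul, mul_inv_cancel]
      · rw [add_zero, yy_zero, mul_one, mul_inv_cancel]
      · have e3 : (1 : ZMod 2) + 1 = 0 := by decide
        rw [e3, yy_zero, yy_one, hsq r hr]; simp
    · have hr' : r < 48 := hr
      have hs' : s < 48 := hs
      have h2' : r + s ≠ 47 := by
        have h3 := all_of neg_tab hr'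
        rw [beq_iff_eq] at h3
        rw [h3] at h2
        omega
      have hc : ∀ p ∈ chevF4.commWord (ZMod 2) r s t u, p.1 < 48 := by
        intro p hp
        unfold ChevalleyDatum.commWord at hp
        obtain ⟨c, hc, rfl⟩ := List.mem_map.1 hp
        exact hlt r hr' s hs' c hc
      rw [map_mul, map_mul, map_mul, map_mul, map_inv, map_inv, map_inv, lift_stX hr', lift_stX hs', lift_stWord hc]
      have hw : ((chevF4.commWord (ZMod 2) r s t u).map fun p => yy f p.1 p.2).prod =
          ((chevF4.commTerms r s).map fun c => yy f c.1 ((c.2.1 : ZMod 2) * (-t) ^ c.2.2.1 * u ^ c.2.2.2)).prod := by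
        unfold ChevalleyDatum.commWord
        rw [List.map_map]; rfl
      have hexp : ∀ c ∈ chevF4.commTerms r s, c.2.2.1 ≠ 0 ∧ c.2.2.2 ≠ 0 := by
        intro c hc
        have h := all_of (all_of exp_tab hr') hs'
        rw [List.all_eq_true] at h
        simpa using h c hc
      rw [hw]
      rcases zmod_cases t with rfl | rfl
      · have : (chevF4.commTerms r s).map (fun c => yy f c.1 ((c.2.1 : ZMod 2) * (-0) ^ c.2.2.1 * u ^ c.2.2.2)) =
            (chevF4.commTerms r s).map fun _ => (1 : G) := by
          refine List.map_congr_left fun c hc => ?_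
          rw [neg_zero, zero_pow (hexp c hc).1, mul_zero, zero_mul, yy_zero]
        rw [this, yy_zero]
        simp
      · rcases zmod_cases u with rfl | rfl
        · have : (chevF4.commTerms r s).map (fun c => yy f c.1 ((c.2.1 : ZMod 2) * (-1) ^ c.2.2.1 * 0 ^ c.2.2.2)) =
              (chevF4.commTerms r s).map fun _ => (1 : G) := by
            refine List.map_congr_left fun c hc => ?_
            rw [zero_pow (hexp c hc).2, mul_zero, yy_zero]
          rw [this, yy_zero]
          simp
        · have e4 : ∀ l : List (ℕ × ℤ × ℕ × ℕ),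
              (l.map (fun c => yy f c.1 ((c.2.1 : ZMod 2) * (-1) ^ c.2.2.1 * 1 ^ c.2.2.2))).prod =
              (((l.filter fun c => c.2.1 % 2 != 0).map fun c => c.1).map f).prod := by
            intro l
            induction l with
            | nil => rfl
            | cons c l ih =>
              rw [List.map_cons, List.prod_cons, ih]
              have e1 : (-1 : ZMod 2) = 1 := by decide
              rw [e1, one_pow, one_pow, mul_one, mul_one]
              by_cases h3 : (c.2.1 % 2 != 0) = true
              · rw [List.filter_cons, if_pos h3, cast_odd.2 h3, yy_one, List.map_cons, List.map_cons, List.prod_cons]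
              · rw [List.filter_cons, if_neg h3]
                have h4 : ((c.2.1 : ℤ) : ZMod 2) = 0 := by
                  rcases zmod_cases ((c.2.1 : ℤ) : ZMod 2) with h5 | h5
                  · exact h5
                  · exact absurd (cast_odd.1 h5) h3
                rw [h4, yy_zero, one_mul]
          have h5 : ((chevF4.commTerms r s).filter fun c => c.2.1 % 2 != 0).map (fun c => c.1) = cmg r s :=
            ct_eq hr' hs' (Ne.symm h1) h2'
          rw [e4, h5, yy_one, yy_one, mul_inv_eq_one]
          have h6 := hcomm r hr' s hs' (Ne.symm h1) h2'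
          have h7 : f r = (f r)⁻¹ := eq_inv_of_mul_eq_one_left (hsq r hr')
          calc (f s)⁻¹ * (f r)⁻¹ * f s * f r = (f s)⁻¹ * (f r * f s) * f r := by rw [← h7]; group
            _ = ((cmg r s).map f).prod * (f r * f r) := by rw [h6]; group
            _ = _ := by rw [hsq r hr', mul_one]
    · have ht1 : t = 1 := by rcases zmod_cases t with h | h; exacts [absurd h ht, h]
      have hu1 : u = 1 := by rcases zmod_cases u with h | h; exacts [absurd h hu, h]
      subst ht1; subst hu1
      have hr' : r < 48 := hr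
      have hn : chevF4.neg r = 47 - r := by
        have h3 := all_of neg_tab hr'
        rwa [beq_iff_eq] at h3
      have e : FreeGroup.lift (fun p : Fin chevF4.nroots × ZMod 2 => yy f p.1 p.2) (chevF4.stH r 1) = 1 := by
        unfold ChevalleyDatum.stH
        rw [lift_stWord]
        · have e0 : (-(1 : ZMod 2)) = 1 := by decide
          have e1 : (-(1 : ZMod 2)⁻¹) = 1 := by rw [inv_one]; decide
          simp only [ChevalleyDatum.hWord, ChevalleyDatum.nWord, List.map_append, List.map_cons, List.map_nil,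
            List.prod_append, List.prod_cons, List.prod_nil, mul_one, hn]
          rw [e0, e1, yy_one, yy_one]
          have h8 := hsq r hr'
          have h9 := hsq (47 - r) (by omega)
          calc f r * (f (47 - r) * f r) * (f r * (f (47 - r) * f r))
              = f r * (f (47 - r) * (f r * f r) * f (47 - r)) * f r := by group
            _ = 1 := by rw [h8, mul_one, h9, mul_one, h8]
        · intro p hp
          simp only [ChevalleyDatum.hWord, ChevalleyDatum.nWord, List.cons_append, List.nil_append, List.mem_cons,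
            List.not_mem_nil, or_false, hn] at hp
          rcases hp with rfl | rfl | rfl | rfl | rfl | rfl <;> dsimp only <;> omega
      rw [map_mul, map_mul, map_inv, mul_one, e, mul_one, inv_one, mul_one]
  let ψ : chevF4.SteinbergGroup (ZMod 2) →* G := PresentedGroup.toGroup hrel
  refine ⟨ψ.comp θ.symm.toMonoidHom, fun r hr => ?_⟩
  have h1 : θ.symm (x r) = chevF4.stGen (ZMod 2) r 1 := by
    rw [MulEquiv.symm_apply_eq]
    apply Subtype.ext
    apply Units.ext
    rw [hθ r 1 hr]
    have hr' : r < chevF4.nroots := hr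
    show _ = chevF4.x (ZMod 2) r 1
    rfl
  show ψ (θ.symm (x r)) = f r
  rw [h1]
  show FreeGroup.lift (fun p : Fin chevF4.nroots × ZMod 2 => yy f p.1 p.2) (chevF4.stX r 1) = f r
  rw [lift_stX hr, yy_one]

end

/-! ### split extensions -/

section

variable {K : Type*} [Group K] {π : K →* LL} {f : ℕ → K}

/-- A perfect central extension of `F₄(2)` with exact lifts of the root elements is an isomorphism. -/
theorem split (hk : π.ker ≤ Subgroup.center K) (hp : commutator K = ⊤)
    (hf : ∀ r < 48, π (f r) = x r) (hsq : ∀ r < 48, f r * f r = 1)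
    (hcomm : ∀ r < 48, ∀ s < 48, r ≠ s → r + s ≠ 47 → f r * f s = f s * ((cmg r s).map f).prod * f r) :
    π.ker = ⊥ := by
  obtain ⟨φ, hφ⟩ := exists_hom hsq hcomm
  have h1 : π.comp φ = MonoidHom.id LL := by
    refine MonoidHom.eq_of_eqOn_dense closure_x ?_
    rintro _ ⟨r, hr, rfl⟩
    show π (φ (x r)) = x r
    rw [hφ r hr, hf r hr]
  have h2 : ∀ g, π (φ g) = g := fun g => DFunLike.congr_fun h1 g
  -- `K = φ(LL) * ker π`
  have h3 : ∀ k : K, ∃ z ∈ π.ker, k = φ (π k) * z := by
    intro k
    refine ⟨(φ (π k))⁻¹ * k, ?_, by rw [mul_inv_cancel_left]⟩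
    rw [MonoidHom.mem_ker, map_mul, map_inv, h2, inv_mul_cancel]
  have h4 : ∀ a b : K, ⁅a, b⁆ ∈ φ.range := by
    intro a b
    obtain ⟨z, hz, ha⟩ := h3 a
    obtain ⟨w, hw, hb⟩ := h3 b
    have hz' := Subgroup.mem_center_iff.1 (hk hz)
    have hw' := Subgroup.mem_center_iff.1 (hk hw)
    refine ⟨⁅π a, π b⁆, ?_⟩
    rw [map_commutatorElement]
    nth_rw 2 [ha, hb]
    rw [commutatorElement_def, commutatorElement_def]
    generalize φ (π a) = A
    generalize φ (π b) = B
    have e1 : (A * z)⁻¹ = A⁻¹ * z⁻¹ := by rw [hz' A, mul_inv_rev]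
    have e2 : (B * w)⁻¹ = B⁻¹ * w⁻¹ := by rw [hw' B, mul_inv_rev]
    rw [e1, e2]
    calc A * B * A⁻¹ * B⁻¹ = A * (B * A⁻¹ * (z * z⁻¹)) * (B⁻¹ * (w * w⁻¹)) := by group
      _ = A * (B * (A⁻¹ * z) * z⁻¹) * (B⁻¹ * w * w⁻¹) := by group
      _ = A * (B * (z * A⁻¹) * z⁻¹) * (w * B⁻¹ * w⁻¹) := by rw [hz' A⁻¹, hw' B⁻¹]
      _ = A * ((B * z) * A⁻¹ * z⁻¹ * w) * B⁻¹ * w⁻¹ := by group
      _ = A * ((z * B) * (A⁻¹ * z⁻¹ * w)) * B⁻¹ * w⁻¹ := by rw [hz' B]; group
      _ = A * ((z * B) * (w * (A⁻¹ * z⁻¹))) * B⁻¹ * w⁻¹ := by rw [hw' (A⁻¹ * z⁻¹)]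
      _ = _ := by group
  have h5 : φ.range = ⊤ := by
    rw [eq_top_iff, ← hp, commutator_def, Subgroup.commutator_le]
    exact fun a _ b _ => h4 a b
  rw [eq_bot_iff]
  intro z hz
  have h6 : z ∈ φ.range := h5 ▸ Subgroup.mem_top z
  obtain ⟨g, rfl⟩ := h6
  rw [MonoidHom.mem_ker, h2] at hz
  rw [hz, map_one]
  exact Subgroup.mem_bot.2 rfl

end

end Cfsg.Agent.FourTwo.Pres
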