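import Cfsg.Agent.FourTwo.Lift
import Cfsg.Agent.FourTwo.Pres
import Cfsg.Agent.ChevalleyStructure.FieldIso

/-!
# The multiplier of `F₄(2)`

* `Ext.ker_two`: the kernel of a perfect central extension of `F₄(2)` is `{1, m₀}` (`m₀` the sign of the mixed relations);
* `card_center`: `|Z(K)| ∣ 2` for `K` perfect with `K / Z(K) ≃ F₄(2)`;
* `ext_center`: the extension `K → K / Z(K) ≃ LL`.
-/

set_option autoImplicit false

namespace Cfsg.Agent.FourTwo.Mult

open Cfsg.Lie
open Cfsg.Agent.FourTwo.Base hiding bar_lt x_mul_self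
open Cfsg.Agent.FourTwo.Comm Cfsg.Agent.FourTwo.Lift
open scoped commutatorElement

variable {L : Type*} [Group L] {π : L →* LL}

/-- The kernel of a perfect central extension of `F₄(2)`. -/
theorem ker_two (E : Ext π) (hp : commutator L = ⊤) {k : L} (hk : π k = 1) : k = 1 ∨ k = E.m₀ := by
  have S := E.sys
  let N : Subgroup L := Subgroup.zpowers E.m₀
  have hN : ∀ g ∈ N, ∀ h : L, g * h = h * g := by
    intro g hg h
    obtain ⟨n, rfl⟩ := Subgroup.mem_zpowers_iff.1 hg
    have h1 : Commute E.m₀ h := E.m₀_cen h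
    exact (h1.zpow_left n).eq
  have : N.Normal := ⟨fun g hg h => by rw [← hN g hg h, mul_inv_cancel_right]; exact hg⟩
  have hle : N ≤ π.ker := by
    rw [Subgroup.zpowers_le, MonoidHom.mem_ker]
    exact E.map_m₀
  let π' : L ⧸ N →* LL := QuotientGroup.lift N π fun g hg => MonoidHom.mem_ker.1 (hle hg)
  have hπ' : ∀ g : L, π' (g : L ⧸ N) = π g := fun g => rfl
  have hm : ((E.m₀ : L) : L ⧸ N) = 1 := (QuotientGroup.eq_one_iff _).2 (Subgroup.mem_zpowers _)
  have h1 : π'.ker = ⊥ := by
    refine Pres.split (f := fun r => ((E.A r : L) : L ⧸ N)) ?_ ?_ ?_ ?_ ?_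
    · intro q hq
      obtain ⟨g, rfl⟩ := QuotientGroup.mk_surjective q
      have h2 := E.cen g hq
      rw [Subgroup.mem_center_iff]
      intro y
      obtain ⟨y, rfl⟩ := QuotientGroup.mk_surjective y
      rw [← QuotientGroup.mk_mul, ← QuotientGroup.mk_mul, h2]
    · have h2 := Subgroup.map_commutator (⊤ : Subgroup L) ⊤ (QuotientGroup.mk' N)
      rw [← commutator_def, hp, ← MonoidHom.range_eq_map,
        MonoidHom.range_eq_top.2 (QuotientGroup.mk'_surjective N)] at h2
      rw [commutator_def, ← h2]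
    · intro r hr
      show π (E.A r) = x r
      exact E.map_A hr
    · intro r hr
      show ((E.A r : L) : L ⧸ N) * ((E.A r : L) : L ⧸ N) = 1
      rw [← QuotientGroup.mk_mul, E.A_sq hr, QuotientGroup.mk_one]
    · intro r hr s hs h1 h2
      show ((E.A r : L) : L ⧸ N) * ((E.A s : L) : L ⧸ N) = ((E.A s : L) : L ⧸ N) *
        ((cmg r s).map fun r => ((E.A r : L) : L ⧸ N)).prod * ((E.A r : L) : L ⧸ N)
      have e : ((cmg r s).map fun r => ((E.A r : L) : L ⧸ N)).prod = ((wA E.A (cmg r s) : L) : L ⧸ N) := by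
        unfold wA
        generalize cmg r s = w
        induction w with
        | nil => rfl
        | cons a w ih => rw [List.map_cons, List.prod_cons, ih, List.map_cons, List.prod_cons, QuotientGroup.mk_mul]
      rw [e, ← QuotientGroup.mk_mul, ← QuotientGroup.mk_mul, ← QuotientGroup.mk_mul]
      have hlen := Cfsg.Agent.F42.RelTab.all2_spec len_tab hr hs
      rw [Nat.ble_eq] at hlen
      rcases Nat.lt_or_ge (cmg r s).length 2 with h3 | h3
      · rw [S.cm1 hr hs h1 h2 (by omega)]
      · rw [S.cm2 hr hs (by omega), QuotientGroup.mk_mul, hm, one_mul]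
  have h2 : (k : L ⧸ N) ∈ π'.ker := hk
  rw [h1, Subgroup.mem_bot, QuotientGroup.eq_one_iff] at h2
  obtain ⟨n, rfl⟩ := Subgroup.mem_zpowers_iff.1 h2
  rcases Int.even_or_odd' n with ⟨m, rfl | rfl⟩
  · left
    have h3 : E.m₀ ^ (2 : ℤ) = 1 := by rw [zpow_two, E.m₀_sq]
    rw [zpow_mul, h3, one_zpow]
  · right
    have h3 : E.m₀ ^ (2 : ℤ) = 1 := by rw [zpow_two, E.m₀_sq]
    rw [zpow_add, zpow_mul, h3, one_zpow, one_mul, zpow_one]

/-- the extension `K → K / Z(K) ≃ F₄(2)` -/
theorem ext_center (e : L ⧸ Subgroup.center L ≃* LL) :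
    Ext (e.toMonoidHom.comp (QuotientGroup.mk' (Subgroup.center L))) where
  surj := e.surjective.comp (QuotientGroup.mk'_surjective _)
  cen := by
    intro m hm g
    have h1 : e (m : L ⧸ Subgroup.center L) = e 1 := by rw [map_one]; exact hm
    have h2 := (QuotientGroup.eq_one_iff m).1 (e.injective h1)
    exact (Subgroup.mem_center_iff.1 h2 g).symm

theorem mem_center_iff_map (e : L ⧸ Subgroup.center L ≃* LL) {m : L} :
    (e.toMonoidHom.comp (QuotientGroup.mk' (Subgroup.center L))) m = 1 ↔ m ∈ Subgroup.center L := by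
  constructor
  · intro hm
    have h1 : e (m : L ⧸ Subgroup.center L) = e 1 := by rw [map_one]; exact hm
    exact (QuotientGroup.eq_one_iff m).1 (e.injective h1)
  · intro hm
    show e (m : L ⧸ Subgroup.center L) = 1
    rw [(QuotientGroup.eq_one_iff m).2 hm, map_one]

/-- `|Z(K)| ∣ 2` -/
theorem card_center (hp : commutator L = ⊤) (e : L ⧸ Subgroup.center L ≃* LL) :
    Nat.card ↥(Subgroup.center L) ∣ 2 := by
  have E := ext_center e
  have h1 : Subgroup.center L = Subgroup.zpowers E.m₀ := by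
    apply le_antisymm
    · intro m hm
      rcases ker_two E hp ((mem_center_iff_map e).2 hm) with rfl | rfl
      · exact one_mem _
      · exact Subgroup.mem_zpowers _
    · rw [Subgroup.zpowers_le]
      exact (mem_center_iff_map e).1 E.map_m₀
  rw [h1, Nat.card_zpowers]
  exact orderOf_dvd_of_pow_eq_one (by rw [pow_two, E.m₀_sq])

/-- The field with two elements. -/
theorem exists_equiv (F : Type*) [Field F] [Fintype F] (h : Fintype.card F = 2) :
    Nonempty (↥(chevF4.group F) ≃* LL) := by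
  have : Fact (Nat.Prime 2) := ⟨Nat.prime_two⟩
  have h0 : ringChar F = 2 := by
    have h1 : (2 : F) = 0 := by
      have h1 : (Fintype.card F : F) = 0 := Nat.cast_card_eq_zero F
      rw [h] at h1
      exact_mod_cast h1
    have h2 : ringChar F ∣ 2 := ringChar.dvd (by exact_mod_cast h1)
    exact ((Nat.dvd_prime Nat.prime_two).1 h2).resolve_left (CharP.ringChar_ne_one (R := F))
  have : CharP F 2 := h0 ▸ ringChar.charP F
  exact ⟨Cfsg.Agent.ChevalleyStructure.FieldIso.groupEquiv chevF4 (ZMod.ringEquiv F h).symm⟩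

end Cfsg.Agent.FourTwo.Mult
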