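import Cfsg.Agent.FourTwo.Comm
import Cfsg.Agent.FourTwo.BN

/-!
Root subgroups of `F₄(2)`:

* `RG P`: the subgroup generated by the `x r`, `P r`;
* `nf_RG`, `mem_RG_iff`, `card_RG`: normal forms when `P` is a closed set of positive roots;
* `normB`: a check that `RG P` normalises `RG Q`;
* `chain`, `mem_U_of_chain`: elements centralising a chain of positive root elements;
* `cent_short`, `cent_long`: the centralisers of `x 44` and of `x 47`.
-/

set_option autoImplicit false

namespace Cfsg.Agent.FourTwo.Par

open Cfsg.Lie Cfsg.Agent.ChevalleyStructure.TwF4.Rel Cfsg.Agent.ChevalleyStructure.TwF4.Tables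
open Cfsg.Agent.ChevalleyStructure.TwF4.Torus (all_of)
open Cfsg.Agent.ChevalleyStructure.F4TwU
open Cfsg.Agent.FourTwo.Base hiding bar bar_lt
open Cfsg.Agent.FourTwo.Comm Cfsg.Agent.FourTwo.BN

/-- the subgroup generated by the root elements `x r`, `P r` -/
def RG (P : ℕ → Bool) : Subgroup LL := Subgroup.closure {g | ∃ r < 48, P r = true ∧ g = x r}

theorem x_mem_RG {P : ℕ → Bool} {r : ℕ} (hr : r < 48) (h : P r = true) : x r ∈ RG P :=
  Subgroup.subset_closure ⟨r, hr, h, rfl⟩

theorem RG_le {P : ℕ → Bool} {H : Subgroup LL} (h : ∀ r < 48, P r = true → x r ∈ H) : RG P ≤ H := by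
  unfold RG
  rw [Subgroup.closure_le]
  rintro _ ⟨r, hr, hp, rfl⟩
  exact h r hr hp

theorem RG_mono {P Q : ℕ → Bool} (h : ∀ r < 48, P r = true → Q r = true) : RG P ≤ RG Q :=
  RG_le fun r hr hp => x_mem_RG hr (h r hr hp)

theorem RG_congr {P Q : ℕ → Bool} (h : ∀ r < 48, P r = Q r) : RG P = RG Q :=
  le_antisymm (RG_mono fun r hr hp => by rw [← h r hr]; exact hp) (RG_mono fun r hr hp => by rw [h r hr]; exact hp)

theorem wd_mem_RG {P : ℕ → Bool} {w : List ℕ} (h : ∀ r ∈ w, r < 48 ∧ P r = true) : wd w ∈ RG P :=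
  wd_mem fun r hr => x_mem_RG (h r hr).1 (h r hr).2

theorem U_eq_RG : U = RG (fun r => decide (24 ≤ r)) := by
  rw [U_eq_closure]
  apply le_antisymm
  · rw [Subgroup.closure_le]
    rintro _ ⟨r, h, h', rfl⟩
    exact x_mem_RG h' (by simpa using h)
  · refine RG_le fun r hr h => Subgroup.subset_closure ⟨r, by simpa using h, hr, rfl⟩

theorem RG_top : RG (fun _ => true) = ⊤ := by
  rw [eq_top_iff, ← closure_x, Subgroup.closure_le]
  rintro _ ⟨r, hr, rfl⟩
  exact x_mem_RG hr rfl

/-! ### closed sets of positive roots -/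

/-- all letters of commutators satisfy `P` -/
def cmAll (P : ℕ → Bool) (r s : ℕ) : Bool := (cmg r s).all P

/-- `P` is a closed set of positive roots -/
def closedB (P : ℕ → Bool) : Bool :=
  ((List.range 24).all fun r => !P r) &&
    (List.range 48).all fun r => !P r || (List.range 48).all fun s => !(P s && decide (r < s)) || cmAll P r s

theorem closedB_pos {P : ℕ → Bool} (h : closedB P = true) {r : ℕ} (hp : P r = true) : 24 ≤ r := by
  unfold closedB at h
  rw [Bool.and_eq_true] at h
  by_contra h'
  have h1 := all_of h.1 (show r < 24 by omega)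
  rw [hp] at h1
  exact absurd h1 (by decide)

theorem closedB_cm {P : ℕ → Bool} (h : closedB P = true) {r s : ℕ} (hs : s < 48) (hrs : r < s) (hp : P r = true)
    (hq : P s = true) : ∀ p ∈ cmg r s, P p = true := by
  unfold closedB at h
  rw [Bool.and_eq_true] at h
  have h1 := all_of h.2 (show r < 48 by omega)
  rw [hp, Bool.not_true, Bool.false_or] at h1
  have h2 := all_of h1 hs
  rw [hq, decide_eq_true hrs, Bool.true_and, Bool.not_true, Bool.false_or] at h2
  unfold cmAll at h2
  rw [List.all_eq_true] at h2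
  exact h2

/-- commutator letters of positive roots are larger than both -/
theorem cmg_gt_tab : ((List.range 24).all fun r => (List.range 24).all fun s =>
    (cmg (24 + r) (24 + s)).all fun p => decide (24 + r < p) && decide (24 + s < p) && decide (p < 48)) = true := by
  decide +kernel

theorem cmg_gt {r s : ℕ} (hr : 24 ≤ r) (hr' : r < 48) (hs : 24 ≤ s) (hs' : s < 48) :
    ∀ p ∈ cmg r s, r < p ∧ s < p ∧ p < 48 := by
  have h1 := all_of (all_of cmg_gt_tab (show r - 24 < 24 by omega)) (show s - 24 < 24 by omega)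
  rw [Nat.add_sub_cancel' hr, Nat.add_sub_cancel' hs, List.all_eq_true] at h1
  intro p hp
  have h2 := h1 p hp
  simp only [Bool.and_eq_true, decide_eq_true_eq] at h2
  exact ⟨h2.1.1, h2.1.2, h2.2⟩

/-- the part of `P` with indices at least `k` -/
def geP (P : ℕ → Bool) (k : ℕ) (r : ℕ) : Bool := P r && decide (k ≤ r)

theorem geP_iff {P : ℕ → Bool} {k r : ℕ} : geP P k r = true ↔ P r = true ∧ k ≤ r := by
  unfold geP
  rw [Bool.and_eq_true, decide_eq_true_eq]

theorem conj_geP {P : ℕ → Bool} (h : closedB P = true) {k s : ℕ} (hk : 24 ≤ k) (hP : P k = true)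
    (hs : s < 48) (hks : k < s) (hPs : P s = true) : x k * x s * x k ∈ RG (geP P (k + 1)) := by
  have h1 : x k * x s * x k = x s * wd (cmg k s) := by
    rw [comm_all (by omega) hs (by omega) (by omega), mul_assoc, Base.x_mul_self, mul_one]
  rw [h1]
  refine mul_mem (x_mem_RG hs (geP_iff.2 ⟨hPs, hks⟩)) (wd_mem_RG fun p hp => ?_)
  have h2 := cmg_gt hk (by omega) (show 24 ≤ s by omega) hs p hp
  exact ⟨h2.2.2, geP_iff.2 ⟨closedB_cm h hs hks hP hPs p hp, h2.1⟩⟩

theorem split_geP {P : ℕ → Bool} (h : closedB P = true) {k : ℕ} (hk : 24 ≤ k) (hk' : k < 48) (hP : P k = true)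
    {g : LL} (hg : g ∈ RG (geP P k)) : ∃ e : Bool, ∃ h ∈ RG (geP P (k + 1)), g = (if e then x k else 1) * h := by
  unfold RG at hg
  have step : ∀ a : LL, (∃ r < 48, geP P k r = true ∧ a = x r) → ∀ y : LL,
      (∃ e : Bool, ∃ h ∈ RG (geP P (k + 1)), y = (if e then x k else 1) * h) →
        ∃ e : Bool, ∃ h ∈ RG (geP P (k + 1)), a * y = (if e then x k else 1) * h := by
    rintro _ ⟨r, hr, hr', rfl⟩ y ⟨e, h', hh, rfl⟩
    rw [geP_iff] at hr'
    by_cases e1 : r = k
    · subst e1
      refine ⟨!e, h', hh, ?_⟩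
      cases e
      · simp
      · simp [← mul_assoc, Base.x_mul_self]
    · have hkr : k < r := by omega
      cases e
      · refine ⟨false, x r * h', mul_mem (x_mem_RG hr (geP_iff.2 ⟨hr'.1, hkr⟩)) hh, by simp⟩
      · refine ⟨true, x k * x r * x k * h', mul_mem (conj_geP h hk hP hr hkr hr'.1) hh, ?_⟩
        simp only [if_true]
        have e2 : x k * (x k * x r * x k * h') = (x k * x k) * (x r * (x k * h')) := by simp only [mul_assoc]
        rw [e2, Base.x_mul_self, one_mul]
  refine Subgroup.closure_induction_left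
    (p := fun (g : LL) _ => ∃ e : Bool, ∃ h ∈ RG (geP P (k + 1)), g = (if e then x k else 1) * h) ?_ ?_ ?_ hg
  · exact ⟨false, 1, one_mem _, by simp⟩
  · intro a ha y _ hy
    exact step a ha y hy
  · intro a ha y _ hy
    apply step _ _ y hy
    obtain ⟨r, hr, hr', rfl⟩ := ha
    exact ⟨r, hr, hr', x_inv r⟩

theorem nf_geP {P : ℕ → Bool} (h : closedB P = true) : ∀ (n k : ℕ), 24 ≤ k → k + n = 48 → ∀ g ∈ RG (geP P k),
    ∃ S : ℕ → Bool, g = wd ((posList k).filter fun r => P r && S r)
  | 0, k, _, hk, g, hg => by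
    have : k = 48 := by omega
    subst this
    have h0 : RG (geP P 48) = ⊥ := by
      rw [eq_bot_iff]
      exact RG_le fun r hr hp => absurd (geP_iff.1 hp).2 (by omega)
    rw [h0, Subgroup.mem_bot] at hg
    exact ⟨fun _ => false, by rw [hg]; rfl⟩
  | n + 1, k, hk24, hk, g, hg => by
    by_cases hP : P k = true
    · obtain ⟨e, g', hg', rfl⟩ := split_geP h hk24 (by omega) hP hg
      obtain ⟨S, rfl⟩ := nf_geP h n (k + 1) (by omega) (by omega) g' hg'
      refine ⟨fun r => if r = k then e else S r, ?_⟩
      have e1 : (posList (k + 1)).filter (fun r => P r && S r) =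
          (posList (k + 1)).filter (fun r => P r && if r = k then e else S r) := by
        apply List.filter_congr
        intro r hr
        rw [mem_posList] at hr
        rw [if_neg (by omega)]
      rw [posList_cons (k := k) (by omega), e1]
      cases e
      · rw [List.filter_cons_of_neg (by simp)]
        simp
      · rw [List.filter_cons_of_pos (by simp [hP]), wd_cons]
        simp
    · have e0 : RG (geP P k) = RG (geP P (k + 1)) := by
        apply RG_congr
        intro r _
        unfold geP
        by_cases hr : r = k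
        · subst hr
          simp [hP]
        · have : (decide (k ≤ r)) = decide (k + 1 ≤ r) := by
            rw [Bool.eq_iff_iff, decide_eq_true_eq, decide_eq_true_eq]
            omega
          rw [this]
      rw [e0] at hg
      obtain ⟨S, rfl⟩ := nf_geP h n (k + 1) (by omega) (by omega) g hg
      refine ⟨S, ?_⟩
      rw [posList_cons (k := k) (by omega), List.filter_cons_of_neg (by simp [hP])]

/-- normal forms in the subgroup of a closed set of positive roots -/
theorem nf_RG {P : ℕ → Bool} (h : closedB P = true) {g : LL} (hg : g ∈ RG P) :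
    ∃ S : ℕ → Bool, g = wd ((posList 24).filter fun r => P r && S r) := by
  apply nf_geP h 24 24 le_rfl rfl
  rw [RG_congr (Q := P)]
  · exact hg
  · intro r _
    unfold geP
    by_cases hp : P r = true
    · rw [decide_eq_true (closedB_pos h hp), Bool.and_true]
    · simp [hp]

theorem mem_RG_iff {P : ℕ → Bool} (h : closedB P = true) (S : ℕ → Bool) :
    wd ((posList 24).filter S) ∈ RG P ↔ ∀ r, 24 ≤ r → r < 48 → S r = true → P r = true := by
  constructor
  · intro hg r h1 h2 hS
    obtain ⟨S', hS'⟩ := nf_RG h hg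
    have h3 := nf_unique' hS' r h1 h2
    rw [hS] at h3
    simp only [Bool.true_eq, Bool.and_eq_true] at h3
    exact h3.1
  · intro hS
    refine wd_mem_RG fun r hr => ?_
    rw [List.mem_filter, mem_posList] at hr
    exact ⟨hr.1.2, hS r hr.1.1 hr.1.2 hr.2⟩

theorem x_eq_nf {r : ℕ} (h : 24 ≤ r) (h' : r < 48) : x r = wd ((posList 24).filter fun s => s == r) := by
  have e : ∀ q < 24, (posList 24).filter (fun s => s == q + 24) = [q + 24] := by decide
  have := e (r - 24) (by omega)
  rw [Nat.sub_add_cancel h] at this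
  rw [this, wd_one]

theorem x_mem_RG_iff {P : ℕ → Bool} (h : closedB P = true) {r : ℕ} (hr : r < 48) : x r ∈ RG P ↔ P r = true := by
  constructor
  · intro hx
    have hU : RG P ≤ U := RG_le fun s hs hp => x_mem_U (closedB_pos h hp) hs
    have h1 := pos_of_mem_U hr (hU hx)
    rw [x_eq_nf h1 hr, mem_RG_iff h] at hx
    exact hx r h1 hr (by simp)
  · exact fun hp => x_mem_RG hr hp

/-- a product of two distinct root elements outside `RG P` with at least one outside -/
theorem mul_not_mem_RG {P : ℕ → Bool} (h : closedB P = true) {a b : ℕ} (ha : 24 ≤ a) (hb : b < 48) (hab : a < b)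
    (hm : x a * x b ∈ RG P) : P a = true ∧ P b = true := by
  have e : x a * x b = wd ((posList 24).filter fun s => s == a || s == b) := by
    have key : ∀ p < 24, ∀ q < 24, p < q →
        (posList 24).filter (fun s => s == p + 24 || s == q + 24) = [p + 24, q + 24] := by decide
    have := key (a - 24) (by omega) (b - 24) (by omega) (by omega)
    rw [Nat.sub_add_cancel ha, Nat.sub_add_cancel (by omega : 24 ≤ b)] at this
    rw [this, wd_cons, wd_one]
  rw [e, mem_RG_iff h] at hm
  exact ⟨hm a ha (by omega) (by simp), hm b (by omega) hb (by simp)⟩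

theorem RG_le_U {P : ℕ → Bool} (h : closedB P = true) : RG P ≤ U :=
  RG_le fun _ hs hp => x_mem_U (closedB_pos h hp) hs

/-! ### normalising -/

/-- the check that every `x r`, `P r`, normalises `RG Q` -/
def normB (P Q : ℕ → Bool) : Bool :=
  (List.range 48).all fun r => !P r || (List.range 48).all fun s => !Q s || r == s || (r + s != 47 && cmAll Q r s)

theorem conj_mem_of_normB {P Q : ℕ → Bool} (h : normB P Q = true) {r s : ℕ} (hr : r < 48) (hs : s < 48)
    (hP : P r = true) (hQ : Q s = true) : x r * x s * (x r)⁻¹ ∈ RG Q := by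
  have h1 := all_of h hr
  rw [hP, Bool.not_true, Bool.false_or] at h1
  have h2 := all_of h1 hs
  rw [hQ, Bool.not_true, Bool.false_or, Bool.or_eq_true, beq_iff_eq] at h2
  rcases h2 with rfl | h2
  · rw [mul_inv_cancel_right]
    exact x_mem_RG hr hQ
  · by_cases e : r = s
    · rw [e, mul_inv_cancel_right]
      exact x_mem_RG hs hQ
    · simp only [Bool.and_eq_true, bne_iff_ne, ne_eq] at h2
      rw [conj_x hr hs e h2.1]
      refine mul_mem (x_mem_RG hs hQ) (wd_mem_RG fun p hp => ?_)
      have h3 := h2.2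
      unfold cmAll at h3
      rw [List.all_eq_true] at h3
      refine ⟨?_, h3 p hp⟩
      have tab : ((List.range 48).all fun r => (List.range 48).all fun s => (cmg r s).all fun p => decide (p < 48)) =
          true := by decide +kernel
      have h4 := all_of (all_of tab hr) hs
      rw [List.all_eq_true] at h4
      simpa using h4 p hp

theorem le_normalizer {P Q : ℕ → Bool} (h : normB P Q = true) : RG P ≤ Subgroup.normalizer (RG Q : Set LL) := by
  have key : ∀ r < 48, P r = true → ∀ g ∈ RG Q, x r * g * (x r)⁻¹ ∈ RG Q := by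
    intro r hr hP g hg
    have h1 : RG Q ≤ (RG Q).comap (MulAut.conj (x r)).toMonoidHom := RG_le fun s hs hQ => by
      rw [Subgroup.mem_comap]
      show x r * x s * (x r)⁻¹ ∈ RG Q
      exact conj_mem_of_normB h hr hs hP hQ
    have h2 := h1 hg
    rw [Subgroup.mem_comap] at h2
    exact h2
  refine RG_le fun r hr hP => ?_
  rw [Subgroup.mem_normalizer_iff]
  intro g
  refine ⟨fun hg => key r hr hP g hg, fun hg => ?_⟩
  have h1 := key r hr hP _ hg
  rw [x_inv] at h1
  have e : x r * (x r * g * x r) * x r = (x r * x r) * g * (x r * x r) := by simp only [mul_assoc]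
  rw [e, Base.x_mul_self, one_mul, mul_one] at h1
  exact h1

/-- conjugation by elements of `RG P` -/
theorem conj_mem {P Q : ℕ → Bool} (h : normB P Q = true) {u g : LL} (hu : u ∈ RG P) (hg : g ∈ RG Q) :
    u * g * u⁻¹ ∈ RG Q := (Subgroup.mem_normalizer_iff.1 (le_normalizer h hu) g).1 hg

end Cfsg.Agent.FourTwo.Par
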