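import Cfsg.Agent.ChevalleyStructure.F4TwU

/-!
# Codes for the unipotent group of `F₄(2)`

`K` is a field of characteristic 2.  The number `e` (bits `0, …, 23`) codes the element
`el K e = ∏ x_{24 + j}(1) ^ (bit j of e)` (increasing `j`) of `GL`.  `mg 24 e j` is the code of
`el K e * x_{24 + j}(1)`; `colW` collects a word.  Everything is fast in the kernel.
-/

set_option autoImplicit false
set_option linter.unusedSectionVars false

namespace Cfsg.Agent.FourTwo.UCode

open Cfsg.Lie Cfsg.Agent.ChevalleyStructure.TwF4.Rel Cfsg.Agent.ChevalleyStructure.TwF4.Tables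
open Cfsg.Agent.ChevalleyStructure.F4TwU

/-! ### The collection process on codes -/

/-- `force n f = f n`, but the kernel evaluates `n` first. -/
@[reducible] def force {α : Type} (n : ℕ) (f : ℕ → α) : α :=
  Nat.rec (f 0) (fun k _ => f (Nat.succ k)) n

theorem force_eq {α : Type} (n : ℕ) (f : ℕ → α) : force n f = f n := by
  cases n <;> rfl

/-- one letter of a row of the table: `2 ^ k`, `k`, letters of the commutator -/
abbrev Ent := ℕ × ℕ × List ℕ

/-- a row: `2 ^ j`, mask of the letters above `j` which do not commute with `j`, `2 ^ (j + 1)`, entries -/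
abbrev Row := ℕ × ℕ × ℕ × List Ent

def rows : List Row := [
  (1, 4335698, 2, [(2, 1, [2]), (4, 2, []), (8, 3, []), (16, 4, [5, 8]), (32, 5, []), (64, 6, [7]), (128, 7, []), (256, 8, []), (512, 9, []), (1024, 10, []), (2048, 11, [12, 19]), (4096, 12, []), (8192, 13, [14, 21]), (16384, 14, []), (32768, 15, []), (65536, 16, []), (131072, 17, [18]), (262144, 18, []), (524288, 19, []), (1048576, 20, []), (2097152, 21, []), (4194304, 22, [23]), (8388608, 23, [])]),
  (2, 2376840, 4, [(4, 2, []), (8, 3, [4, 6]), (16, 4, []), (32, 5, []), (64, 6, []), (128, 7, [8]), (256, 8, []), (512, 9, []), (1024, 10, [11, 17]), (2048, 11, []), (4096, 12, []), (8192, 13, []), (16384, 14, [15, 23]), (32768, 15, []), (65536, 16, []), (131072, 17, []), (262144, 18, [19]), (524288, 19, []), (1048576, 20, []), (2097152, 21, [22]), (4194304, 22, []), (8388608, 23, [])]),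
  (4, 2237512, 8, [(8, 3, [5, 7]), (16, 4, []), (32, 5, []), (64, 6, [8]), (128, 7, []), (256, 8, []), (512, 9, []), (1024, 10, [12, 18]), (2048, 11, []), (4096, 12, []), (8192, 13, [15, 22]), (16384, 14, []), (32768, 15, []), (65536, 16, []), (131072, 17, [19]), (262144, 18, []), (524288, 19, []), (1048576, 20, []), (2097152, 21, [23]), (4194304, 22, []), (8388608, 23, [])]),
  (8, 563712, 16, [(16, 4, []), (32, 5, []), (64, 6, []), (128, 7, []), (256, 8, []), (512, 9, [10]), (1024, 10, []), (2048, 11, [13]), (4096, 12, [14]), (8192, 13, []), (16384, 14, []), (32768, 15, [16]), (65536, 16, []), (131072, 17, []), (262144, 18, []), (524288, 19, [20, 21]), (1048576, 20, []), (2097152, 21, []), (4194304, 22, []), (8388608, 23, [])]),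
  (16, 284160, 32, [(32, 5, []), (64, 6, []), (128, 7, []), (256, 8, []), (512, 9, [11]), (1024, 10, [13]), (2048, 11, []), (4096, 12, [15]), (8192, 13, []), (16384, 14, [16]), (32768, 15, []), (65536, 16, []), (131072, 17, []), (262144, 18, [20, 22]), (524288, 19, []), (1048576, 20, []), (2097152, 21, []), (4194304, 22, []), (8388608, 23, [])]),
  (32, 142848, 64, [(64, 6, []), (128, 7, []), (256, 8, []), (512, 9, [12]), (1024, 10, [14]), (2048, 11, [15]), (4096, 12, []), (8192, 13, [16]), (16384, 14, []), (32768, 15, []), (65536, 16, []), (131072, 17, [20, 23]), (262144, 18, []), (524288, 19, []), (1048576, 20, []), (2097152, 21, []), (4194304, 22, []), (8388608, 23, [])]),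
  (64, 791040, 128, [(128, 7, []), (256, 8, []), (512, 9, [13, 17]), (1024, 10, []), (2048, 11, []), (4096, 12, [16, 23]), (8192, 13, []), (16384, 14, []), (32768, 15, []), (65536, 16, []), (131072, 17, []), (262144, 18, [21]), (524288, 19, [22]), (1048576, 20, []), (2097152, 21, []), (4194304, 22, []), (8388608, 23, [])]),
  (128, 657920, 256, [(256, 8, []), (512, 9, [14, 18]), (1024, 10, []), (2048, 11, [16, 22]), (4096, 12, []), (8192, 13, []), (16384, 14, []), (32768, 15, []), (65536, 16, []), (131072, 17, [21]), (262144, 18, []), (524288, 19, [23]), (1048576, 20, []), (2097152, 21, []), (4194304, 22, []), (8388608, 23, [])]),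
  (256, 394752, 512, [(512, 9, [15, 19]), (1024, 10, [16, 21]), (2048, 11, []), (4096, 12, []), (8192, 13, []), (16384, 14, []), (32768, 15, []), (65536, 16, []), (131072, 17, [22]), (262144, 18, [23]), (524288, 19, []), (1048576, 20, []), (2097152, 21, []), (4194304, 22, []), (8388608, 23, [])]),
  (512, 65536, 1024, [(1024, 10, []), (2048, 11, []), (4096, 12, []), (8192, 13, []), (16384, 14, []), (32768, 15, []), (65536, 16, [20]), (131072, 17, []), (262144, 18, []), (524288, 19, []), (1048576, 20, []), (2097152, 21, []), (4194304, 22, []), (8388608, 23, [])]),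
  (1024, 32768, 2048, [(2048, 11, []), (4096, 12, []), (8192, 13, []), (16384, 14, []), (32768, 15, [20]), (65536, 16, []), (131072, 17, []), (262144, 18, []), (524288, 19, []), (1048576, 20, []), (2097152, 21, []), (4194304, 22, []), (8388608, 23, [])]),
  (2048, 16384, 4096, [(4096, 12, []), (8192, 13, []), (16384, 14, [20]), (32768, 15, []), (65536, 16, []), (131072, 17, []), (262144, 18, []), (524288, 19, []), (1048576, 20, []), (2097152, 21, []), (4194304, 22, []), (8388608, 23, [])]),
  (4096, 8192, 8192, [(8192, 13, [20]), (16384, 14, []), (32768, 15, []), (65536, 16, []), (131072, 17, []), (262144, 18, []), (524288, 19, []), (1048576, 20, []), (2097152, 21, []), (4194304, 22, []), (8388608, 23, [])]),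
  (8192, 0, 16384, [(16384, 14, []), (32768, 15, []), (65536, 16, []), (131072, 17, []), (262144, 18, []), (524288, 19, []), (1048576, 20, []), (2097152, 21, []), (4194304, 22, []), (8388608, 23, [])]),
  (16384, 0, 32768, [(32768, 15, []), (65536, 16, []), (131072, 17, []), (262144, 18, []), (524288, 19, []), (1048576, 20, []), (2097152, 21, []), (4194304, 22, []), (8388608, 23, [])]),
  (32768, 0, 65536, [(65536, 16, []), (131072, 17, []), (262144, 18, []), (524288, 19, []), (1048576, 20, []), (2097152, 21, []), (4194304, 22, []), (8388608, 23, [])]),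
  (65536, 0, 131072, [(131072, 17, []), (262144, 18, []), (524288, 19, []), (1048576, 20, []), (2097152, 21, []), (4194304, 22, []), (8388608, 23, [])]),
  (131072, 0, 262144, [(262144, 18, []), (524288, 19, []), (1048576, 20, []), (2097152, 21, []), (4194304, 22, []), (8388608, 23, [])]),
  (262144, 0, 524288, [(524288, 19, []), (1048576, 20, []), (2097152, 21, []), (4194304, 22, []), (8388608, 23, [])]),
  (524288, 0, 1048576, [(1048576, 20, []), (2097152, 21, []), (4194304, 22, []), (8388608, 23, [])]),
  (1048576, 0, 2097152, [(2097152, 21, []), (4194304, 22, []), (8388608, 23, [])]),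
  (2097152, 0, 4194304, [(4194304, 22, []), (8388608, 23, [])]),
  (4194304, 0, 8388608, [(8388608, 23, [])]),
  (8388608, 0, 16777216, [])]

/-- lookup by structural recursion -/
def row (j : ℕ) : Row :=
  Nat.rec (motive := fun _ => List Row → Row) (fun l => List.rec (0, 0, 0, []) (fun a _ _ => a) l)
    (fun _ ih l => List.rec (0, 0, 0, []) (fun _ t _ => ih t) l) j rows

/-- insert the letters of the list `l` (bits of `e`), with commutator letters in front of each -/
def insAll (f : ℕ → ℕ → ℕ) (e : ℕ) (l : List Ent) (acc : ℕ) : ℕ :=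
  List.rec (motive := fun _ => ℕ → ℕ) (fun acc => acc)
    (fun a _ ih acc => cond (Nat.beq (Nat.land e a.1) 0) (ih acc)
      (force (f (List.rec (motive := fun _ => ℕ → ℕ) (fun acc => acc)
        (fun c _ ih' acc => force (f acc c) ih') a.2.2 acc) a.2.1) ih)) l acc

/-- the code of `el e * x_j` (fuel `n ≥ 24 - j`) -/
def mg (n : ℕ) : ℕ → ℕ → ℕ :=
  Nat.rec (motive := fun _ => ℕ → ℕ → ℕ) (fun e _ => e)
    (fun _ ih e j => force e fun e => (fun r : Row =>
      cond (Nat.beq (Nat.land e r.2.1) 0) (Nat.xor e r.1)
        (insAll ih e r.2.2.2 (Nat.xor (Nat.mod e r.2.2.1) r.1))) (row j)) n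

/-- collect a word, starting from the code `e` -/
def colF (w : List ℕ) (e : ℕ) : ℕ :=
  List.rec (motive := fun _ => ℕ → ℕ) (fun e => e) (fun c _ ih e => force (mg 24 e c) ih) w e

/-- collect a word -/
def colW (w : List ℕ) : ℕ := colF w 0

/-! ### Checks on the table -/

/-- the letters of the commutator of `x_k` and `x_j` -/
def cs (k j : ℕ) : List ℕ := (cm (24 + k) (24 + j)).map fun a => a.1 - 24

/-- the row that we want -/
def want (j : ℕ) : List Ent := (List.range' (j + 1) (23 - j)).map fun k => (2 ^ k, k, cs k j)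

def chkRow (j : ℕ) : Bool :=
  decide ((row j).1 = 2 ^ j) && decide ((row j).2.2.1 = 2 ^ (j + 1)) &&
  decide ((row j).2.2.2 = want j) &&
  ((List.range' (j + 1) (23 - j)).all fun k => decide (cs k j = []) || (row j).2.1.testBit k)

theorem chkRow_all : ((List.range 24).all chkRow) = true := by decide +kernel

theorem chkRow_of {j : ℕ} (hj : j < 24) : chkRow j = true := by
  have h := chkRow_all
  rw [List.all_eq_true] at h
  exact h j (List.mem_range.2 hj)

def chkCs : Bool := (List.range 24).all fun j => (List.range' (j + 1) (23 - j)).all fun k =>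
  ((cs k j).all fun c => decide (k < c ∧ c < 24)) &&
    ((cm (24 + k) (24 + j)).all fun a => decide (24 ≤ a.1))

theorem chkCs_true : chkCs = true := by decide +kernel

theorem cs_facts {j k : ℕ} (hjk : j < k) (hk : k < 24) :
    (∀ c ∈ cs k j, k < c ∧ c < 24) ∧ ∀ a ∈ cm (24 + k) (24 + j), 24 ≤ a.1 := by
  have h := chkCs_true
  unfold chkCs at h
  rw [List.all_eq_true] at h
  have h1 := h j (List.mem_range.2 (by omega))
  rw [List.all_eq_true] at h1
  have h2 := h1 k (List.mem_range'_1.2 (by omega))
  rw [Bool.and_eq_true, List.all_eq_true, List.all_eq_true] at h2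
  exact ⟨fun c hc => of_decide_eq_true (h2.1 c hc), fun a ha => of_decide_eq_true (h2.2 a ha)⟩

/-! ### The group elements -/

section Group

variable (K : Type*) [Field K] [CharP K 2]

/-- the positive root element with number `j < 24` (root `24 + j`) -/
def x (j : ℕ) : GL chevF4.Idx K := X (24 + j) 1

theorem x_mul_self' (j : ℕ) : x K j * x K j = 1 := X_mul_self _ _

/-- product of a word -/
def wel (w : List ℕ) : GL chevF4.Idx K := (w.map (x K)).prod

theorem wel_nil : wel K [] = 1 := rfl

theorem wel_cons (j : ℕ) (w : List ℕ) : wel K (j :: w) = x K j * wel K w := by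
  simp [wel]

theorem wel_append (w w' : List ℕ) : wel K (w ++ w') = wel K w * wel K w' := by
  simp [wel]

theorem wel_singleton (j : ℕ) : wel K [j] = x K j := by simp [wel]

theorem wel_reverse (w : List ℕ) : wel K w.reverse = (wel K w)⁻¹ := by
  induction w with
  | nil => simp [wel_nil]
  | cons j w ih =>
    rw [List.reverse_cons, wel_append, ih, wel_singleton, wel_cons, mul_inv_rev,
      inv_eq_of_mul_eq_one_left (x_mul_self' K j)]

theorem comm_x {j k : ℕ} (hjk : j < k) (hk : k < 24) :
    x K k * x K j = x K j * wel K (cs k j) * x K k := by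
  have h := comm_rel (K := K) (24 + k) (24 + j) (by omega) (by omega) (by omega) (by omega)
    (by omega) 1 1
  have hf := cs_facts hjk hk
  have e : W (wordK (1 : K) 1 (cm (24 + k) (24 + j))) = wel K (cs k j) := by
    unfold W wel cs wordK
    rw [List.map_map, List.map_map]
    congr 1
    apply List.map_congr_left
    intro a ha
    have h1 : 24 + (a.1 - 24) = a.1 := by have := hf.2 a ha; omega
    simp only [Function.comp, x, h1, one_pow, mul_one]
  rw [e] at h
  exact h

/-- the factor at the bit `j` -/
def bt (e j : ℕ) : GL chevF4.Idx K := if e.testBit j then x K j else 1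

/-- the product over the bits `a, …, a + n - 1` -/
def elR (e : ℕ) : ℕ → ℕ → GL chevF4.Idx K
  | _, 0 => 1
  | a, n + 1 => bt K e a * elR e (a + 1) n

/-- the element coded by `e` -/
def el (e : ℕ) : GL chevF4.Idx K := elR K e 0 24

theorem elR_add (e a m n : ℕ) : elR K e a (m + n) = elR K e a m * elR K e (a + m) n := by
  induction m generalizing a with
  | zero => simp [elR]
  | succ m ih =>
    have h1 : m + 1 + n = (m + n) + 1 := by omega
    have h2 : a + (m + 1) = (a + 1) + m := by omega
    rw [h1, h2, elR, elR, ih, mul_assoc]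

theorem elR_congr {e e' a n : ℕ} (h : ∀ i, a ≤ i → i < a + n → e.testBit i = e'.testBit i) :
    elR K e a n = elR K e' a n := by
  induction n generalizing a with
  | zero => rfl
  | succ n ih =>
    rw [elR, elR, ih fun i hi hi' => h i (by omega) (by omega)]
    congr 1
    unfold bt
    rw [h a le_rfl (by omega)]

theorem elR_zero {e a n : ℕ} (h : ∀ i, a ≤ i → i < a + n → e.testBit i = false) :
    elR K e a n = 1 := by
  induction n generalizing a with
  | zero => rfl
  | succ n ih =>
    rw [elR, ih fun i hi hi' => h i (by omega) (by omega)]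
    unfold bt
    rw [h a le_rfl (by omega)]
    simp

theorem el_split (e j : ℕ) (hj : j < 24) :
    el K e = elR K e 0 j * (bt K e j * elR K e (j + 1) (23 - j)) := by
  have h : el K e = elR K e 0 (j + ((23 - j) + 1)) := by
    unfold el
    congr 1
    omega
  rw [h, elR_add, zero_add, elR]

theorem el_zero : el K 0 = 1 := elR_zero K fun i _ _ => Nat.zero_testBit i

theorem testBit_xor_pow (e j i : ℕ) :
    (Nat.xor e (2 ^ j)).testBit i = (e.testBit i ^^ decide (j = i)) := by
  show (e ^^^ 2 ^ j).testBit i = _
  rw [Nat.testBit_xor, Nat.testBit_two_pow]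

theorem bt_xor (e j : ℕ) : bt K (Nat.xor e (2 ^ j)) j = bt K e j * x K j := by
  unfold bt
  rw [testBit_xor_pow]
  cases e.testBit j
  · simp
  · simp [x_mul_self']

theorem land_pow_eq_zero (e k : ℕ) : Nat.beq (Nat.land e (2 ^ k)) 0 = !e.testBit k := by
  have h : Nat.land e (2 ^ k) = e &&& 2 ^ k := rfl
  rw [h, Nat.and_two_pow]
  cases e.testBit k
  · simp
  · have h2 : (true.toNat * 2 ^ k) ≠ 0 := by
      have := Nat.two_pow_pos k
      simp
    rw [Bool.not_true]
    cases h3 : (true.toNat * 2 ^ k).beq 0
    · rfl
    · exact absurd (Nat.eq_of_beq_eq_true h3) h2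

/-- the conjugate by `x_j` of the part above `j` -/
theorem upper_conj {j : ℕ} (e : ℕ) : ∀ (n a : ℕ), j < a → a + n ≤ 24 →
    elR K e a n * x K j = x K j *
      ((List.range' a n).map fun k => if e.testBit k then wel K (cs k j) * x K k else 1).prod
  | 0, a, _, _ => by simp [elR]
  | n + 1, a, ha, hn => by
    rw [elR, mul_assoc, upper_conj e n (a + 1) (by omega) (by omega), List.range'_succ,
      List.map_cons, List.prod_cons, ← mul_assoc, ← mul_assoc]
    congr 1
    unfold bt
    by_cases h : e.testBit a = true
    · rw [if_pos h, if_pos h, comm_x K ha (by omega), mul_assoc]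
    · rw [if_neg h, if_neg h, one_mul, mul_one]

theorem fold_spec {f : ℕ → ℕ → ℕ} {j : ℕ}
    (hf : ∀ e k, j < k → k < 24 → el K (f e k) = el K e * x K k) :
    ∀ (l : List ℕ) (acc : ℕ), (∀ c ∈ l, j < c ∧ c < 24) →
      el K (List.rec (motive := fun _ => ℕ → ℕ) (fun acc => acc)
        (fun c _ ih' acc => force (f acc c) ih') l acc) = el K acc * wel K l
  | [], acc, _ => by simp [wel_nil]
  | c :: l, acc, h => by
    have h1 := h c List.mem_cons_self
    have ih := fold_spec hf l (f acc c) fun d hd => h d (List.mem_cons_of_mem _ hd)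
    show el K (force (f acc c) (fun acc => List.rec (motive := fun _ => ℕ → ℕ) (fun acc => acc)
        (fun c _ ih' acc => force (f acc c) ih') l acc)) = _
    rw [force_eq, ih, hf _ _ h1.1 h1.2, wel_cons, mul_assoc]

theorem insAll_spec {f : ℕ → ℕ → ℕ} {j : ℕ}
    (hf : ∀ e k, j < k → k < 24 → el K (f e k) = el K e * x K k) (e : ℕ) :
    ∀ (n a acc : ℕ), j < a → a + n ≤ 24 →
      el K (insAll f e ((List.range' a n).map fun k => (2 ^ k, k, cs k j)) acc) = el K acc *
        ((List.range' a n).map fun k => if e.testBit k then wel K (cs k j) * x K k else 1).prod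
  | 0, a, acc, _, _ => by simp [insAll]
  | n + 1, a, acc, ha, hn => by
    have ih := insAll_spec hf e n (a + 1)
    have hcs := (cs_facts ha (show a < 24 by omega)).1
    rw [List.range'_succ, List.map_cons, List.map_cons, List.prod_cons]
    show el K (cond (Nat.beq (Nat.land e (2 ^ a)) 0)
      (insAll f e ((List.range' (a + 1) n).map fun k => (2 ^ k, k, cs k j)) acc)
      (force (f (List.rec (motive := fun _ => ℕ → ℕ) (fun acc => acc)
        (fun c _ ih' acc => force (f acc c) ih') (cs a j) acc) a)
        (insAll f e ((List.range' (a + 1) n).map fun k => (2 ^ k, k, cs k j))))) = _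
    rw [land_pow_eq_zero]
    cases h : e.testBit a
    · rw [Bool.not_false, cond_true, ih acc (by omega) (by omega)]
      simp
    · rw [Bool.not_true, cond_false, force_eq, ih _ (by omega) (by omega), hf _ _ ha (by omega),
        fold_spec K hf (cs a j) acc fun c hc => ⟨lt_trans ha (hcs c hc).1, (hcs c hc).2⟩]
      simp [mul_assoc]

theorem mg_succ (n e j : ℕ) : mg (n + 1) e j =
    cond (Nat.beq (Nat.land e (row j).2.1) 0) (Nat.xor e (row j).1)
        (insAll (mg n) e (row j).2.2.2 (Nat.xor (Nat.mod e (row j).2.2.1) (row j).1)) := by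
  show force e (fun e => cond (Nat.beq (Nat.land e (row j).2.1) 0) (Nat.xor e (row j).1)
        (insAll (mg n) e (row j).2.2.2 (Nat.xor (Nat.mod e (row j).2.2.1) (row j).1))) = _
  rw [force_eq]

/-- **Correctness of the collection process.** -/
theorem mg_spec : ∀ (n e j : ℕ), j < 24 → 24 ≤ n + j → el K (mg n e j) = el K e * x K j
  | 0, e, j, h1, h2 => by omega
  | n + 1, e, j, hj, hn => by
    have hrow := chkRow_of hj
    unfold chkRow at hrow
    rw [Bool.and_eq_true, Bool.and_eq_true, Bool.and_eq_true, List.all_eq_true] at hrow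
    obtain ⟨⟨⟨h1, h2⟩, h3⟩, h4⟩ := hrow
    have h1 := of_decide_eq_true h1
    have h2 := of_decide_eq_true h2
    have h3 := of_decide_eq_true h3
    rw [mg_succ, h1, h2, h3]
    cases hb : Nat.beq (Nat.land e (row j).2.1) 0
    · rw [cond_false]
      unfold want
      rw [insAll_spec K (j := j) (fun e k hk hk' => mg_spec n e k hk' (by omega)) e (23 - j) (j + 1) _
        (by omega) (by omega), el_split K e j hj, mul_assoc, mul_assoc,
        upper_conj K e (23 - j) (j + 1) (by omega) (by omega)]
      have h5 : el K (Nat.xor (Nat.mod e (2 ^ (j + 1))) (2 ^ j)) =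
          elR K e 0 j * (bt K e j * x K j) := by
        rw [el_split K _ j hj]
        congr 1
        · apply elR_congr
          intro i _ hi
          rw [testBit_xor_pow]
          show ((e % 2 ^ (j + 1)).testBit i ^^ decide (j = i)) = _
          rw [Nat.testBit_mod_two_pow]
          have h6 : i < j + 1 := by omega
          have h7 : ¬ j = i := by omega
          simp [h6, h7]
        · rw [bt_xor, elR_zero, mul_one]
          · congr 1
            unfold bt
            show (if (e % 2 ^ (j + 1)).testBit j = true then x K j else 1) = _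
            rw [Nat.testBit_mod_two_pow]
            have h6 : j < j + 1 := by omega
            simp [h6]
          · intro i hi hi'
            rw [testBit_xor_pow]
            show ((e % 2 ^ (j + 1)).testBit i ^^ decide (j = i)) = _
            rw [Nat.testBit_mod_two_pow]
            have h6 : ¬ i < j + 1 := by omega
            have h7 : ¬ j = i := by omega
            simp [h6, h7]
      rw [h5]
      simp only [mul_assoc]
    · rw [cond_true, el_split K e j hj, el_split K _ j hj, bt_xor]
      have h5 : elR K (Nat.xor e (2 ^ j)) 0 j = elR K e 0 j := by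
        apply elR_congr
        intro i _ hi
        rw [testBit_xor_pow]
        have h7 : ¬ j = i := by omega
        simp [h7]
      have h6 : elR K (Nat.xor e (2 ^ j)) (j + 1) (23 - j) = elR K e (j + 1) (23 - j) := by
        apply elR_congr
        intro i hi _
        rw [testBit_xor_pow]
        have h7 : ¬ j = i := by omega
        simp [h7]
      have h7 := upper_conj K e (23 - j) (j + 1) (j := j) (by omega) (by omega)
      have h8 : ((List.range' (j + 1) (23 - j)).map fun k =>
          if e.testBit k then wel K (cs k j) * x K k else 1) =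
          (List.range' (j + 1) (23 - j)).map fun k => if e.testBit k then x K k else 1 := by
        apply List.map_congr_left
        intro k hk
        by_cases h9 : e.testBit k = true
        · rw [if_pos h9, if_pos h9]
          have h10 := h4 k hk
          rw [Bool.or_eq_true] at h10
          rcases h10 with h10 | h10
          · rw [of_decide_eq_true h10, wel_nil, one_mul]
          · exfalso
            have h11 : Nat.land e (row j).2.1 = 0 := Nat.eq_of_beq_eq_true hb
            have h12 : (e &&& (row j).2.1).testBit k = true := by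
              rw [Nat.testBit_and, h9, h10]
              rfl
            have h13 : e &&& (row j).2.1 = 0 := h11
            rw [h13, Nat.zero_testBit] at h12
            exact Bool.noConfusion h12
        · rw [if_neg h9, if_neg h9]
      have h9 : ∀ (n a : ℕ), elR K e a n =
          ((List.range' a n).map fun k => if e.testBit k then x K k else 1).prod := by
        intro n
        induction n with
        | zero => intro a; simp [elR]
        | succ n ih =>
          intro a
          rw [elR, ih, List.range'_succ, List.map_cons, List.prod_cons]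
          rfl
      rw [h8, ← h9] at h7
      rw [h5, h6, mul_assoc, mul_assoc, mul_assoc, h7]

theorem colF_spec : ∀ (w : List ℕ) (e : ℕ), (∀ c ∈ w, c < 24) →
    el K (colF w e) = el K e * wel K w
  | [], e, _ => by simp [colF, wel_nil]
  | c :: w, e, h => by
    have ih := colF_spec w (mg 24 e c) fun d hd => h d (List.mem_cons_of_mem _ hd)
    show el K (force (mg 24 e c) (colF w)) = _
    rw [force_eq, ih, mg_spec K 24 e c (h c List.mem_cons_self) (by omega), wel_cons, mul_assoc]

theorem colW_spec (w : List ℕ) (h : ∀ c ∈ w, c < 24) : el K (colW w) = wel K w := by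
  unfold colW
  rw [colF_spec K w 0 h, el_zero, one_mul]

end Group

/-! ### Letters, multiplication, inversion of codes -/

/-- letters of `e` among the entries of `l` -/
def letsL (e : ℕ) (l : List (ℕ × ℕ)) : List ℕ :=
  List.rec [] (fun a _ ih => cond (Nat.beq (Nat.land e a.1) 0) ih (a.2 :: ih)) l

def pw : List (ℕ × ℕ) := [(1, 0), (2, 1), (4, 2), (8, 3), (16, 4), (32, 5), (64, 6), (128, 7),
  (256, 8), (512, 9), (1024, 10), (2048, 11), (4096, 12), (8192, 13), (16384, 14), (32768, 15),
  (65536, 16), (131072, 17), (262144, 18), (524288, 19), (1048576, 20), (2097152, 21),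
  (4194304, 22), (8388608, 23)]

/-- the letters of the code `e` (increasing) -/
def lets (e : ℕ) : List ℕ := force e fun e => letsL e pw

/-- code of the product -/
def mulU (a b : ℕ) : ℕ := colF (lets b) a

/-- code of the inverse -/
def invU (a : ℕ) : ℕ := colF (lets a).reverse 0

/-- code of `c * a * c⁻¹` -/
def conjU (c a : ℕ) : ℕ := force (mulU c a) fun d => colF (lets c).reverse d

/-- code of the conjugate by `n_i` (if the bit of the fundamental root `sp i` is `0`) -/
def reflU (i a : ℕ) : ℕ := colF ((lets a).map fun j => refl i (24 + j) - 24) 0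

theorem letsL_cons (e : ℕ) (a : ℕ × ℕ) (l : List (ℕ × ℕ)) : letsL e (a :: l) =
    cond (Nat.beq (Nat.land e a.1) 0) (letsL e l) (a.2 :: letsL e l) := rfl

theorem pw_eq : pw = (List.range' 0 24).map fun k => (2 ^ k, k) := by decide +kernel

theorem lets_eq (e : ℕ) : lets e = letsL e ((List.range' 0 24).map fun k => (2 ^ k, k)) := by
  unfold lets
  rw [force_eq, pw_eq]

theorem mem_letsL (e : ℕ) (c : ℕ) : ∀ (n a : ℕ),
    c ∈ letsL e ((List.range' a n).map fun k => (2 ^ k, k)) ↔
      (a ≤ c ∧ c < a + n) ∧ e.testBit c = true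
  | 0, a => by
    constructor
    · intro h
      exact absurd h (by simp [letsL])
    · rintro ⟨h, _⟩
      omega
  | n + 1, a => by
    rw [List.range'_succ, List.map_cons, letsL_cons, land_pow_eq_zero]
    have ih := mem_letsL e c n (a + 1)
    cases h : e.testBit a
    · rw [Bool.not_false, cond_true, ih]
      constructor
      · rintro ⟨h1, h2⟩
        exact ⟨by omega, h2⟩
      · rintro ⟨h1, h2⟩
        refine ⟨⟨?_, by omega⟩, h2⟩
        have : c ≠ a := by rintro rfl; rw [h] at h2; exact Bool.noConfusion h2
        omega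
    · rw [Bool.not_true, cond_false, List.mem_cons, ih]
      constructor
      · rintro (rfl | ⟨h1, h2⟩)
        · exact ⟨by omega, h⟩
        · exact ⟨by omega, h2⟩
      · rintro ⟨h1, h2⟩
        by_cases h3 : c = a
        · exact Or.inl h3
        · exact Or.inr ⟨by omega, h2⟩

theorem mem_lets {e c : ℕ} : c ∈ lets e ↔ c < 24 ∧ e.testBit c = true := by
  rw [lets_eq, mem_letsL]
  constructor
  · rintro ⟨h1, h2⟩
    exact ⟨by omega, h2⟩
  · rintro ⟨h1, h2⟩
    exact ⟨by omega, h2⟩

section Group2

variable (K : Type*) [Field K] [CharP K 2]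

theorem wel_letsL (e : ℕ) : ∀ (n a : ℕ),
    wel K (letsL e ((List.range' a n).map fun k => (2 ^ k, k))) = elR K e a n
  | 0, a => by simp [letsL, wel_nil, elR]
  | n + 1, a => by
    rw [List.range'_succ, List.map_cons, letsL_cons, elR, ← wel_letsL e n (a + 1),
      land_pow_eq_zero]
    unfold bt
    cases h : e.testBit a
    · simp
    · simp [wel_cons]

theorem wel_lets (e : ℕ) : wel K (lets e) = el K e := by
  rw [lets_eq, wel_letsL]
  rfl

theorem el_mulU (a b : ℕ) : el K (mulU a b) = el K a * el K b := by
  unfold mulU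
  rw [colF_spec K _ _ fun c hc => (mem_lets.1 hc).1, wel_lets]

theorem el_invU (a : ℕ) : el K (invU a) = (el K a)⁻¹ := by
  unfold invU
  rw [colF_spec K _ _ fun c hc => (mem_lets.1 (List.mem_reverse.1 hc)).1, wel_reverse, wel_lets,
    el_zero, one_mul]

theorem el_conjU (c a : ℕ) : el K (conjU c a) = el K c * el K a * (el K c)⁻¹ := by
  unfold conjU
  rw [force_eq, colF_spec K _ _ fun c hc => (mem_lets.1 (List.mem_reverse.1 hc)).1, wel_reverse,
    wel_lets, el_mulU]

theorem refl_facts {i j : ℕ} (hi : i < 4) (hj : j < 24) (h : 24 + j ≠ sp i) :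
    24 ≤ refl i (24 + j) ∧ refl i (24 + j) < 48 := by
  have h0 : ((List.range 4).all fun i => (List.range 24).all fun j =>
    decide (24 + j = sp i) || decide (24 ≤ refl i (24 + j) ∧ refl i (24 + j) < 48)) = true := by
    decide +kernel
  rw [List.all_eq_true] at h0
  have h1 := h0 i (List.mem_range.2 hi)
  rw [List.all_eq_true] at h1
  have h2 := h1 j (List.mem_range.2 hj)
  rw [Bool.or_eq_true] at h2
  rcases h2 with h2 | h2
  · exact absurd (of_decide_eq_true h2) h
  · exact of_decide_eq_true h2

theorem wel_refl {i : ℕ} (hi : i < 4) : ∀ (w : List ℕ), (∀ c ∈ w, c < 24 ∧ 24 + c ≠ sp i) →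
    wel K (w.map fun j => refl i (24 + j) - 24) = nG K (sp i) * wel K w * (nG K (sp i))⁻¹
  | [], _ => by simp [wel_nil]
  | c :: w, h => by
    have h1 := h c List.mem_cons_self
    have ih := wel_refl hi w fun d hd => h d (List.mem_cons_of_mem _ hd)
    have h2 := refl_facts hi h1.1 h1.2
    have h3 : x K (refl i (24 + c) - 24) = nG K (sp i) * x K c * (nG K (sp i))⁻¹ := by
      unfold x
      rw [nG_conj i (24 + c) hi (by omega)]
      congr 1
      omega
    rw [List.map_cons, wel_cons, wel_cons, ih, h3]
    group

theorem el_reflU {i a : ℕ} (hi : i < 4) (h : a.testBit (sp i - 24) = false) :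
    el K (reflU i a) = nG K (sp i) * el K a * (nG K (sp i))⁻¹ := by
  have h1 : ∀ c ∈ lets a, c < 24 ∧ 24 + c ≠ sp i := by
    intro c hc
    rw [mem_lets] at hc
    refine ⟨hc.1, fun h2 => ?_⟩
    have h3 : sp i - 24 = c := by omega
    rw [h3, hc.2] at h
    exact Bool.noConfusion h
  unfold reflU
  rw [colF_spec K, el_zero, one_mul, wel_refl K hi _ h1, wel_lets]
  intro c hc
  obtain ⟨d, hd, rfl⟩ := List.mem_map.1 hc
  have h2 := refl_facts hi (h1 d hd).1 (h1 d hd).2
  omega

/-! ### Bijection between codes and elements of `U` -/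

/-- coefficients of a code -/
def cf (e : ℕ) (r : ℕ) : K := if e.testBit (r - 24) then 1 else 0

theorem elR_eq_wrd (e : ℕ) : ∀ (n a : ℕ),
    elR K e a n = wrd (List.range' (24 + a) n) (cf K e)
  | 0, a => by simp [elR, wrd_nil]
  | n + 1, a => by
    rw [elR, List.range'_succ, wrd_cons, elR_eq_wrd e n (a + 1)]
    congr 1
    unfold bt cf
    have h : 24 + a - 24 = a := by omega
    rw [h]
    cases e.testBit a
    · simp [X_zero]
    · simp [x]

theorem el_eq_wrd (e : ℕ) : el K e = wrd (posList 24) (cf K e) := elR_eq_wrd K e 24 0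

theorem testBit_of_el {e e' : ℕ} (h : el K e = el K e') {j : ℕ} (hj : j < 24) :
    e.testBit j = e'.testBit j := by
  rw [el_eq_wrd, el_eq_wrd] at h
  have h1 := word_unique _ _ _ (fun r hr => (by
    rw [mem_posList] at hr
    exact hr)) (pairwise_posList 24) h (24 + j) (by
      rw [mem_posList]
      omega)
  unfold cf at h1
  have h2 : 24 + j - 24 = j := by omega
  rw [h2] at h1
  cases h3 : e.testBit j <;> cases h4 : e'.testBit j
  · rfl
  · rw [h3, h4] at h1
    exact absurd h1 (by simp)
  · rw [h3, h4] at h1
    exact absurd h1 (by simp)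
  · rfl

theorem el_inj {e e' : ℕ} (he : e < 2 ^ 24) (he' : e' < 2 ^ 24) (h : el K e = el K e') :
    e = e' := by
  refine Nat.eq_of_testBit_eq fun j => ?_
  by_cases hj : j < 24
  · exact testBit_of_el K h hj
  · have h1 : 2 ^ 24 ≤ 2 ^ j := Nat.pow_le_pow_right (by norm_num) (by omega)
    rw [Nat.testBit_lt_two_pow (lt_of_lt_of_le he h1), Nat.testBit_lt_two_pow (lt_of_lt_of_le he' h1)]

theorem el_mod (e : ℕ) : el K (e % 2 ^ 24) = el K e := by
  refine elR_congr K fun i _ hi => ?_
  rw [Nat.testBit_mod_two_pow]
  have : i < 24 := by omega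
  simp [this]

theorem x_mem_pos {j : ℕ} (hj : j < 24) : x K j ∈ chevF4.posUnipotent K := X_mem_pos (by omega) _

theorem wel_mem {w : List ℕ} (h : ∀ c ∈ w, c < 24) : wel K w ∈ chevF4.posUnipotent K := by
  induction w with
  | nil => exact Subgroup.one_mem _
  | cons c w ih =>
    rw [wel_cons]
    exact Subgroup.mul_mem _ (x_mem_pos K (h c List.mem_cons_self))
      (ih fun d hd => h d (List.mem_cons_of_mem _ hd))

theorem el_mem (e : ℕ) : el K e ∈ chevF4.posUnipotent K := by
  rw [← wel_lets]
  exact wel_mem K fun c hc => (mem_lets.1 hc).1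

end Group2

/-- Every element of `U(2)` has a code. -/
theorem exists_code {g : GL chevF4.Idx (ZMod 2)} (hg : g ∈ chevF4.posUnipotent (ZMod 2)) :
    ∃ e, e < 2 ^ 24 ∧ g = el (ZMod 2) e := by
  obtain ⟨t, rfl⟩ := exists_word hg
  refine ⟨Nat.ofBits fun i : Fin 24 => decide (t (24 + i.val) = 1), Nat.ofBits_lt_two_pow _, ?_⟩
  rw [el_eq_wrd]
  unfold wrd
  congr 1
  apply List.map_congr_left
  intro r hr
  rw [mem_posList] at hr
  congr 1
  unfold cf
  rw [Nat.testBit_ofBits_lt _ _ (show r - 24 < 24 by omega)]
  have h1 : 24 + (r - 24) = r := by omega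
  rw [h1]
  have h2 : ∀ z : ZMod 2, z = if decide (z = 1) = true then 1 else 0 := by decide
  exact h2 (t r)

theorem card_pos_aux (n : ℕ) (hn : n = 2 ^ 24) (f : Fin n → chevF4.posUnipotent (ZMod 2))
    (hf : ∀ e, (f e).val = el (ZMod 2) e.val) : Function.Bijective f := by
  constructor
  · intro e e' h
    have h1 := congrArg Subtype.val h
    rw [hf, hf] at h1
    have h2 : e.val < 2 ^ 24 := by
      rw [← hn]
      exact e.isLt
    have h3 : e'.val < 2 ^ 24 := by
      rw [← hn]
      exact e'.isLt
    exact Fin.ext (el_inj (ZMod 2) h2 h3 h1)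
  · rintro ⟨g, hg⟩
    obtain ⟨e, he, rfl⟩ := exists_code hg
    rw [← hn] at he
    exact ⟨⟨e, he⟩, Subtype.ext (hf _)⟩

theorem card_pos : Nat.card (chevF4.posUnipotent (ZMod 2)) = 2 ^ 24 := by
  obtain ⟨n, hn⟩ : ∃ n, n = 2 ^ 24 := ⟨_, rfl⟩
  rw [← hn, ← Nat.card_congr (Equiv.ofBijective _ (card_pos_aux n hn
    (fun e => ⟨el (ZMod 2) e.val, el_mem (ZMod 2) e.val⟩) fun _ => rfl)), Nat.card_fin]

end Cfsg.Agent.FourTwo.UCode
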