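import Cfsg.Agent.FourTwo.UCode

/-!
# Congruences of codes

`V K k` is the normal subgroup of `U` generated by the `x_j` with `j ≥ k`; the elements `el K a` and
`el K b` are congruent modulo `V K k` iff `a` and `b` have the same low `k` bits (`mod_iff`).
So multiplication, inversion and conjugation of codes respect congruence modulo `2 ^ k`.
-/

set_option autoImplicit false

namespace Cfsg.Agent.FourTwo.UMod

open Cfsg.Lie Cfsg.Agent.ChevalleyStructure.TwF4.Rel Cfsg.Agent.ChevalleyStructure.TwF4.Tables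
open Cfsg.Agent.ChevalleyStructure.F4TwU Cfsg.Agent.FourTwo.UCode

section Group

variable (K : Type*) [Field K] [CharP K 2]

/-- the subgroup generated by the `x_j` with `k ≤ j < 24` -/
def V (k : ℕ) : Subgroup (GL chevF4.Idx K) := Subgroup.closure {g | ∃ j, k ≤ j ∧ j < 24 ∧ g = x K j}

theorem x_mem_V {k j : ℕ} (h : k ≤ j) (h' : j < 24) : x K j ∈ V K k :=
  Subgroup.subset_closure ⟨j, h, h', rfl⟩

theorem V_anti {k l : ℕ} (h : k ≤ l) : V K l ≤ V K k := by
  refine (Subgroup.closure_le _).2 ?_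
  rintro g ⟨j, hj, hj', rfl⟩
  exact x_mem_V K (h.trans hj) hj'

theorem wel_mem_V {k : ℕ} {w : List ℕ} (h : ∀ c ∈ w, k ≤ c ∧ c < 24) : wel K w ∈ V K k := by
  induction w with
  | nil => exact Subgroup.one_mem _
  | cons c w ih =>
    rw [wel_cons]
    exact Subgroup.mul_mem _ (x_mem_V K (h c List.mem_cons_self).1 (h c List.mem_cons_self).2)
      (ih fun d hd => h d (List.mem_cons_of_mem _ hd))

theorem V_24 : V K 24 = ⊥ := by
  unfold V
  have : {g : GL chevF4.Idx K | ∃ j, 24 ≤ j ∧ j < 24 ∧ g = x K j} = ∅ := by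
    ext g
    simp only [Set.mem_ofPred_eq, Set.mem_empty_iff_false, iff_false]
    rintro ⟨r, h1, h2, _⟩
    omega
  rw [this, Subgroup.closure_empty]

theorem conj_gen {i j : ℕ} (hi : i < 24) (hj : j < 24) : x K j * x K i * x K j ∈ V K i := by
  rcases lt_trichotomy i j with h | rfl | h
  · have h1 := comm_x K h hj
    have h2 : x K j * x K i * x K j = x K i * wel K (cs j i) := by
      rw [h1, mul_assoc, x_mul_self', mul_one]
    rw [h2]
    refine Subgroup.mul_mem _ (x_mem_V K le_rfl hi) (wel_mem_V K fun c hc => ?_)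
    have := (cs_facts h hj).1 c hc
    omega
  · rw [x_mul_self', one_mul]
    exact x_mem_V K le_rfl hi
  · have h1 := comm_x K h hi
    have h2 : x K j * x K i * x K j = wel K (cs i j) * x K i := by
      rw [mul_assoc, h1, ← mul_assoc, ← mul_assoc, x_mul_self', one_mul]
    rw [h2]
    refine Subgroup.mul_mem _ (wel_mem_V K fun c hc => ?_) (x_mem_V K le_rfl hi)
    have := (cs_facts h hi).1 c hc
    omega

theorem x_inv' (j : ℕ) : (x K j)⁻¹ = x K j := inv_eq_of_mul_eq_one_left (x_mul_self' K j)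

theorem conj_x {k j : ℕ} (hj : j < 24) {v : GL chevF4.Idx K} (hv : v ∈ V K k) :
    x K j * v * x K j ∈ V K k := by
  refine Subgroup.closure_induction (p := fun (g : GL chevF4.Idx K) _ => x K j * g * x K j ∈ V K k)
    ?_ ?_ ?_ ?_ hv
  · rintro g ⟨i, hi, hi', rfl⟩
    exact V_anti K hi (conj_gen K hi' hj)
  · rw [mul_one, x_mul_self']
    exact Subgroup.one_mem _
  · intro a b _ _ ha hb
    have : x K j * (a * b) * x K j = (x K j * a * x K j) * (x K j * b * x K j) := by
      have e : x K j * a * x K j * (x K j * b * x K j) =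
          x K j * a * (x K j * x K j) * b * x K j := by
        simp only [mul_assoc]
      rw [e, x_mul_self', mul_one]
      simp only [mul_assoc]
    rw [this]
    exact Subgroup.mul_mem _ ha hb
  · intro a _ ha
    have : x K j * a⁻¹ * x K j = (x K j * a * x K j)⁻¹ := by
      rw [mul_inv_rev, mul_inv_rev, x_inv', mul_assoc]
    rw [this]
    exact Subgroup.inv_mem _ ha

theorem conj_wel {k : ℕ} {v : GL chevF4.Idx K} (hv : v ∈ V K k) : ∀ (w : List ℕ),
    (∀ c ∈ w, c < 24) → wel K w * v * (wel K w)⁻¹ ∈ V K k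
  | [], _ => by simpa [wel_nil] using hv
  | c :: w, h => by
    have ih := conj_wel hv w fun d hd => h d (List.mem_cons_of_mem _ hd)
    have h1 := conj_x K (h c List.mem_cons_self) ih
    rw [wel_cons, mul_inv_rev, x_inv']
    simpa only [mul_assoc] using h1

theorem conj_el {k : ℕ} {v : GL chevF4.Idx K} (hv : v ∈ V K k) (c : ℕ) :
    el K c * v * (el K c)⁻¹ ∈ V K k := by
  rw [← wel_lets]
  exact conj_wel K hv _ fun c hc => (mem_lets.1 hc).1

theorem conj_el' {k : ℕ} {v : GL chevF4.Idx K} (hv : v ∈ V K k) (c : ℕ) :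
    (el K c)⁻¹ * v * el K c ∈ V K k := by
  have h := conj_el K hv (invU c)
  rwa [el_invU, inv_inv] at h

theorem elR_mem_V (e k : ℕ) : ∀ (n a : ℕ), k ≤ a → a + n ≤ 24 → elR K e a n ∈ V K k
  | 0, a, _, _ => Subgroup.one_mem _
  | n + 1, a, h, h' => by
    rw [elR]
    refine Subgroup.mul_mem _ ?_ (elR_mem_V e k n (a + 1) (by omega) (by omega))
    unfold bt
    split
    · exact x_mem_V K h (by omega)
    · exact Subgroup.one_mem _

theorem el_split_at {k : ℕ} (hk : k ≤ 24) (e : ℕ) :
    el K e = elR K e 0 k * elR K e k (24 - k) := by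
  have h : el K e = elR K e 0 (k + (24 - k)) := by
    unfold el
    congr 1
    omega
  rw [h, elR_add, zero_add]

theorem V_le_Uk (k : ℕ) : V K k ≤ Uk K (24 + k) := by
  refine (Subgroup.closure_le _).2 ?_
  rintro g ⟨j, hj, hj', rfl⟩
  exact X_mem_Uk (by omega) (by omega) _

theorem posList_split {k : ℕ} (hk : k ≤ 24) :
    posList 24 = List.range' 24 k ++ posList (24 + k) := by
  unfold posList
  have h1 : 48 - 24 = k + (48 - (24 + k)) := by omega
  have h2 : List.range' 24 k ++ List.range' (24 + k) (48 - (24 + k)) =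
      List.range' 24 (k + (48 - (24 + k))) := by
    have := List.range'_append_1 (s := 24) (m := k) (n := 48 - (24 + k))
    simpa using this
  rw [h2, h1]

theorem wrd_append' (l l' : List ℕ) (t : ℕ → K) : wrd (l ++ l') t = wrd l t * wrd l' t := by
  unfold wrd
  rw [List.map_append, W_append]

theorem wrd_congr' {l : List ℕ} {t t' : ℕ → K} (h : ∀ r ∈ l, t r = t' r) : wrd l t = wrd l t' := by
  unfold wrd
  congr 1
  apply List.map_congr_left
  intro r hr
  rw [h r hr]

theorem mod_iff {k : ℕ} (hk : k ≤ 24) (a b : ℕ) :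
    (el K a)⁻¹ * el K b ∈ V K k ↔ a % 2 ^ k = b % 2 ^ k := by
  constructor
  · intro h
    have h1 : elR K a k (24 - k) * ((el K a)⁻¹ * el K b) ∈ V K k :=
      Subgroup.mul_mem _ (elR_mem_V K a k (24 - k) k le_rfl (by omega)) h
    obtain ⟨t, ht⟩ := exists_word_k (24 - k) (24 + k) (by omega) (by omega) _ (V_le_Uk K k h1)
    have h2 : el K b = elR K a 0 k * wrd (posList (24 + k)) t := by
      rw [← ht, ← mul_assoc, ← el_split_at K hk a, mul_inv_cancel_left]
    rw [elR_eq_wrd, el_eq_wrd] at h2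
    have h3 : wrd (posList 24) (cf K b) =
        wrd (posList 24) (fun r => if r < 24 + k then cf K a r else t r) := by
      rw [h2, posList_split hk, wrd_append']
      congr 1
      · apply wrd_congr'
        intro r hr
        rw [List.mem_range'_1] at hr
        rw [if_pos (by omega)]
      · apply wrd_congr'
        intro r hr
        rw [mem_posList] at hr
        rw [if_neg (by omega)]
    have h4 := word_unique _ _ _ (fun r hr => (by
      rw [mem_posList] at hr
      exact hr)) (pairwise_posList 24) h3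
    apply Nat.eq_of_testBit_eq
    intro i
    rw [Nat.testBit_mod_two_pow, Nat.testBit_mod_two_pow]
    by_cases hi : i < k
    · have h5 := h4 (24 + i) (by rw [mem_posList]; omega)
      rw [if_pos (by omega)] at h5
      unfold cf at h5
      have h6 : 24 + i - 24 = i := by omega
      rw [h6] at h5
      cases h7 : a.testBit i <;> cases h8 : b.testBit i
      · rfl
      · rw [h7, h8] at h5
        exact absurd h5 (by simp)
      · rw [h7, h8] at h5
        exact absurd h5 (by simp)
      · rfl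
    · simp [hi]
  · intro h
    have h1 : elR K a 0 k = elR K b 0 k := by
      apply elR_congr
      intro i _ hi
      have h2 : (a % 2 ^ k).testBit i = (b % 2 ^ k).testBit i := by rw [h]
      rw [Nat.testBit_mod_two_pow, Nat.testBit_mod_two_pow] at h2
      have h3 : i < k := by omega
      simpa [h3] using h2
    rw [el_split_at K hk a, el_split_at K hk b, h1, mul_inv_rev, mul_assoc, inv_mul_cancel_left]
    exact Subgroup.mul_mem _ (Subgroup.inv_mem _ (elR_mem_V K a k (24 - k) k le_rfl (by omega)))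
      (elR_mem_V K b k (24 - k) k le_rfl (by omega))

end Group

/-! ### Consequences for codes -/

theorem mulU_mod {k : ℕ} (hk : k ≤ 24) {a a' b b' : ℕ} (ha : a % 2 ^ k = a' % 2 ^ k)
    (hb : b % 2 ^ k = b' % 2 ^ k) : mulU a b % 2 ^ k = mulU a' b' % 2 ^ k := by
  rw [← mod_iff (ZMod 2) hk] at ha hb ⊢
  rw [el_mulU, el_mulU]
  have h : (el (ZMod 2) a * el (ZMod 2) b)⁻¹ * (el (ZMod 2) a' * el (ZMod 2) b') =
      ((el (ZMod 2) b)⁻¹ * ((el (ZMod 2) a)⁻¹ * el (ZMod 2) a') * el (ZMod 2) b) *
        ((el (ZMod 2) b)⁻¹ * el (ZMod 2) b') := by group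
  rw [h]
  exact Subgroup.mul_mem _ (conj_el' _ ha b) hb

theorem conjU_mod {k : ℕ} (hk : k ≤ 24) {a a' : ℕ} (c : ℕ) (ha : a % 2 ^ k = a' % 2 ^ k) :
    conjU c a % 2 ^ k = conjU c a' % 2 ^ k := by
  rw [← mod_iff (ZMod 2) hk] at ha ⊢
  rw [el_conjU, el_conjU]
  have h : (el (ZMod 2) c * el (ZMod 2) a * (el (ZMod 2) c)⁻¹)⁻¹ *
      (el (ZMod 2) c * el (ZMod 2) a' * (el (ZMod 2) c)⁻¹) =
      el (ZMod 2) c * ((el (ZMod 2) a)⁻¹ * el (ZMod 2) a') * (el (ZMod 2) c)⁻¹ := by group
  rw [h]
  exact conj_el _ ha c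

/-- codes with the same element -/
theorem mod_24 {a b : ℕ} : el (ZMod 2) a = el (ZMod 2) b ↔ a % 2 ^ 24 = b % 2 ^ 24 := by
  rw [← mod_iff (ZMod 2) le_rfl, V_24, Subgroup.mem_bot, inv_mul_eq_one]

end Cfsg.Agent.FourTwo.UMod
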