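import Cfsg.Agent.FourTwo.ClassSep
import Cfsg.Agent.FourTwo.Facts2
import Cfsg.Agent.FourTwo.Perf

/-!
# Elements of `W_s` and `W_l`

Every nontrivial element of `W_s = ⟨x 41, …, x 47⟩` and of `W_l` is conjugate to `x 44`, `x 47` or `x 44 * x 47`, so
it commutes with a Sylow `2`-subgroup of `L`.
-/

set_option autoImplicit false

namespace Cfsg.Agent.FourTwo.WClass

open Cfsg.Lie Cfsg.Agent.ChevalleyStructure.F4TwU
open Cfsg.Agent.FourTwo.Base hiding bar bar_lt
open Cfsg.Agent.FourTwo.ClassSep Cfsg.Agent.FourTwo.BN Cfsg.Agent.FourTwo.Par Cfsg.Agent.FourTwo.Cent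
open Cfsg.Agent.FourTwo.Facts2

/-- the roots of `W_s` -/
def wsP (r : ℕ) : Bool := decide (41 ≤ r)

/-- the roots of `W_l` -/
def wlP (r : ℕ) : Bool := [29, 36, 38, 39, 40, 44, 47].contains r

theorem closed_ws : closedB wsP = true := by decide +kernel

theorem closed_wl : closedB wlP = true := by decide +kernel

/-- words with the invariants of the classes of `x 44`, `x 47`, `x 44 * x 47` -/
def okW (w : List ℕ) : Bool := w == [] ||
  ((w.all fun r => decide (r < 48)) && [((6, 10) : ℕ × ℕ), (10, 6), (10, 10)].contains (iv w))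

theorem chk_ws : (([41, 42, 43, 44, 45, 46, 47] : List ℕ).sublists.all okW) = true := by decide +kernel

theorem chk_wl : (([29, 36, 38, 39, 40, 44, 47] : List ℕ).sublists.all okW) = true := by decide +kernel

theorem filter_and (P S : ℕ → Bool) (l : List ℕ) :
    l.filter (fun r => P r && S r) = (l.filter P).filter S := by
  rw [List.filter_filter]
  apply List.filter_congr
  intro r _
  rw [Bool.and_comm]

/-- the three classes -/
def Cls3 (g : LL) : Prop := ∃ y : LL, y * g * y⁻¹ = x 44 ∨ y * g * y⁻¹ = x 47 ∨ y * g * y⁻¹ = x 44 * x 47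

theorem cls3_of_ok {w : List ℕ} (h : okW w = true) (h1 : wd w ≠ 1) (h2 : wd w * wd w = 1) : Cls3 (wd w) := by
  unfold okW at h
  rw [Bool.or_eq_true, Bool.and_eq_true, beq_iff_eq] at h
  rcases h with h | ⟨h3, h4⟩
  · exact absurd (by rw [h, wd_nil]) h1
  · have h5 := conj_of_rk2 h2 h1
    rw [rk2_wd w h3] at h5
    rw [List.contains_iff_mem] at h4
    simp only [List.mem_cons, List.not_mem_nil, or_false] at h4
    rcases h4 with h4 | h4 | h4
    · obtain ⟨y, hy⟩ := h5.1 h4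
      exact ⟨y, Or.inl hy⟩
    · obtain ⟨y, hy⟩ := h5.2.1 h4
      exact ⟨y, Or.inr (Or.inl hy)⟩
    · obtain ⟨y, hy⟩ := h5.2.2.1 h4
      exact ⟨y, Or.inr (Or.inr hy)⟩

/-- pairwise commuting root elements -/
def abB (l : List ℕ) : Bool := l.all fun r => l.all fun s => r == s || (decide (r < 48) && decide (s < 48) &&
  decide (r + s ≠ 47) && Cfsg.Agent.FourTwo.Comm.cmg r s == [])

theorem abB_comm {l : List ℕ} (h : abB l = true) {r s : ℕ} (hr : r ∈ l) (hs : s ∈ l) : x r * x s = x s * x r := by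
  unfold abB at h
  rw [List.all_eq_true] at h
  have h1 := h r hr
  rw [List.all_eq_true] at h1
  have h2 := h1 s hs
  rw [Bool.or_eq_true, beq_iff_eq, Bool.and_eq_true, Bool.and_eq_true, Bool.and_eq_true, beq_iff_eq] at h2
  rcases h2 with rfl | ⟨⟨⟨h3, h4⟩, h5⟩, h6⟩
  · rfl
  · exact Cfsg.Agent.FourTwo.Comm.comm_one (of_decide_eq_true h3) (of_decide_eq_true h4) (of_decide_eq_true h5) h6

theorem wd_comm {l : List ℕ} (h : abB l = true) {r : ℕ} (hr : r ∈ l) :
    ∀ w : List ℕ, (∀ s ∈ w, s ∈ l) → wd w * x r = x r * wd w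
  | [], _ => by rw [wd_nil, one_mul, mul_one]
  | s :: w, hw => by
    have ih := wd_comm h hr w fun q hq => hw q (List.mem_cons_of_mem _ hq)
    rw [wd_cons, mul_assoc, ih, ← mul_assoc, ← mul_assoc, abB_comm h (hw s List.mem_cons_self) hr]

theorem wd_sq {l : List ℕ} (h : abB l = true) : ∀ w : List ℕ, (∀ s ∈ w, s ∈ l) → wd w * wd w = 1
  | [], _ => by rw [wd_nil, mul_one]
  | s :: w, hw => by
    have ih := wd_sq h w fun q hq => hw q (List.mem_cons_of_mem _ hq)
    have h1 := wd_comm h (hw s List.mem_cons_self) w fun q hq => hw q (List.mem_cons_of_mem _ hq)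
    rw [wd_cons, mul_assoc, ← mul_assoc (wd w), h1, mul_assoc (x s) (wd w), ih, mul_one, x_mul_self]

theorem ab_ws : abB [41, 42, 43, 44, 45, 46, 47] = true := by decide +kernel
theorem ab_wl : abB [29, 36, 38, 39, 40, 44, 47] = true := by decide +kernel

theorem aux {P : ℕ → Bool} {l : List ℕ} (hc : closedB P = true) (hl : (posList 24).filter P = l)
    (hk : (l.sublists.all okW) = true) (ha : abB l = true) {g : LL} (hg : g ∈ RG P) (h1 : g ≠ 1) :
    g * g = 1 ∧ Cls3 g := by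
  obtain ⟨S, rfl⟩ := nf_RG hc hg
  rw [filter_and, hl] at h1 ⊢
  have h2 : l.filter S ∈ l.sublists := List.mem_sublists.2 List.filter_sublist
  rw [List.all_eq_true] at hk
  have h3 := wd_sq ha (l.filter S) fun s hs => List.mem_of_mem_filter hs
  exact ⟨h3, cls3_of_ok (hk _ h2) h1 h3⟩

/-- elements of `W_s` -/
theorem class_ws {g : LL} (hg : g ∈ RG wsP) (h1 : g ≠ 1) : g * g = 1 ∧ Cls3 g :=
  aux closed_ws (by decide) chk_ws ab_ws hg h1

/-- elements of `W_l` -/
theorem class_wl {g : LL} (hg : g ∈ RG wlP) (h1 : g ≠ 1) : g * g = 1 ∧ Cls3 g :=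
  aux closed_wl (by decide) chk_wl ab_wl hg h1

/-- an element of one of the three classes commutes with a Sylow `2`-subgroup -/
theorem Cls3.sylow {g : LL} (h : Cls3 g) : ∃ T : Sylow 2 LL, ∀ u ∈ T, u * g = g * u := by
  obtain ⟨y, hy⟩ := h
  have hc : ∀ u ∈ U, u * (y * g * y⁻¹) = (y * g * y⁻¹) * u := by
    intro u hu
    rcases hy with hy | hy | hy
    · rw [hy, central44 hu]
    · rw [hy, central47 hu]
    · rw [hy, ← mul_assoc, central44 hu, mul_assoc, central47 hu, mul_assoc]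
  refine ⟨y⁻¹ • Cfsg.Agent.FourTwo.Perf.sylU, fun u hu => ?_⟩
  have h1 : u ∈ ((y⁻¹ • Cfsg.Agent.FourTwo.Perf.sylU : Sylow 2 LL) : Subgroup LL) := hu
  rw [Sylow.coe_subgroup_smul, Cfsg.Agent.FourTwo.Perf.coe_sylU] at h1
  obtain ⟨v, hv, hv'⟩ := h1
  have h2 := hc v hv
  have h3 : y⁻¹ * v * y = u := by
    rw [← hv']
    show y⁻¹ * v * y = y⁻¹ * v * y⁻¹⁻¹
    rw [inv_inv]
  rw [← h3]
  calc y⁻¹ * v * y * g = y⁻¹ * (v * (y * g * y⁻¹)) * y := by group
    _ = y⁻¹ * ((y * g * y⁻¹) * v) * y := by rw [h2]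
    _ = g * (y⁻¹ * v * y) := by group

theorem sylow_ws {g : LL} (hg : g ∈ RG wsP) : ∃ T : Sylow 2 LL, ∀ u ∈ T, u * g = g * u := by
  by_cases h1 : g = 1
  · exact ⟨Cfsg.Agent.FourTwo.Perf.sylU, fun u _ => by rw [h1, mul_one, one_mul]⟩
  · exact (class_ws hg h1).2.sylow

theorem sylow_wl {g : LL} (hg : g ∈ RG wlP) : ∃ T : Sylow 2 LL, ∀ u ∈ T, u * g = g * u := by
  by_cases h1 : g = 1
  · exact ⟨Cfsg.Agent.FourTwo.Perf.sylU, fun u _ => by rw [h1, mul_one, one_mul]⟩
  · exact (class_wl hg h1).2.sylow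

end Cfsg.Agent.FourTwo.WClass
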