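import Cfsg.Agent.FourTwo.Classes
import Cfsg.Agent.FourTwo.Cent

/-!
Small commutator subgroups in `U` (`z_l = x 47`, `z_s = x 44`, `z_c = x 47 * x 44`):

* `surv`: search tree for the codes `e` with `c e c⁻¹ ∈ e · C` for the four simple generators `c`;
* `cen_U`: `u ∈ U`, `[u, U] ≤ ⟨z_c⟩` implies `u ∈ Z(U) = ⟨z_l, z_s⟩`;
* `cen_l`, `cen_s`: the `u ∈ U` with `[u, U] ≤ ⟨z_l⟩` (`⟨z_s⟩`) are `⟨z_l, z_s, x 46⟩` (`⟨z_l, z_s, x 40⟩`);
* `no_l`, `no_s`: if `[u, U] ≤ ⟨z_l, x 46 z_s⟩` then `[u, U] ≤ ⟨z_l⟩`; if `[u, U] ≤ ⟨z_s, x 40 z_l⟩` then `[u, U] ≤ ⟨z_s⟩`.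
-/

set_option autoImplicit false

namespace Cfsg.Agent.FourTwo.ZTwo

open Cfsg.Lie Cfsg.Agent.ChevalleyStructure.TwF4.Rel Cfsg.Agent.ChevalleyStructure.TwF4.Tables
open Cfsg.Agent.FourTwo.Base hiding bar bar_lt x_mul_self
open Cfsg.Agent.FourTwo.UCode (mulU conjU invU el)
open Cfsg.Agent.FourTwo.UMod Cfsg.Agent.FourTwo.Classes

/-- codes of the simple root elements -/
def gens : List ℕ := [1, 2, 8, 512]

/-- the test modulo `2 ^ k` -/
def tst (C : List ℕ) (k e : ℕ) : Bool :=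
  gens.all fun c => C.any fun s => Nat.beq (conjU c e % 2 ^ k) (mulU e s % 2 ^ k)

/-- the survivors modulo `2 ^ k` -/
def surv (C : List ℕ) : ℕ → List ℕ
  | 0 => [0]
  | k + 1 => ((surv C k).flatMap fun e => [e, e + 2 ^ k]).filter (tst C (k + 1))

theorem mod_succ (e k : ℕ) : e % 2 ^ (k + 1) = e % 2 ^ k ∨ e % 2 ^ (k + 1) = e % 2 ^ k + 2 ^ k := by
  have h := Nat.mod_pow_succ (b := 2) (k := k) (x := e)
  rw [h]
  rcases Nat.mod_two_eq_zero_or_one (e / 2 ^ k) with h1 | h1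
  · left; rw [h1, mul_zero, add_zero]
  · right; rw [h1, mul_one]

theorem ec_el {a b : ℕ} (h : ec a = ec b) : el (ZMod 2) a = el (ZMod 2) b := by
  rw [← coe_ec, ← coe_ec, h]

theorem surv_spec {C : List ℕ} {e : ℕ} (h : ∀ c ∈ gens, ∃ s ∈ C, ec c * ec e * (ec c)⁻¹ = ec e * ec s) :
    ∀ k, k ≤ 24 → e % 2 ^ k ∈ surv C k
  | 0, _ => by rw [pow_zero, Nat.mod_one]; exact List.mem_singleton.2 rfl
  | k + 1, hk => by
    have ih := surv_spec h k (by omega)
    unfold surv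
    rw [List.mem_filter]
    refine ⟨List.mem_flatMap.2 ⟨_, ih, ?_⟩, ?_⟩
    · rcases mod_succ e k with h1 | h1
      · rw [h1]; exact List.mem_cons_self
      · rw [h1]; exact List.mem_cons_of_mem _ (List.mem_singleton.2 rfl)
    · unfold tst
      rw [List.all_eq_true]
      intro c hc
      obtain ⟨s, hs, he⟩ := h c hc
      rw [List.any_eq_true]
      refine ⟨s, hs, ?_⟩
      have h0 : ec (conjU c e) = ec (mulU e s) := by rw [ec_conjU, ec_mulU, he]
      have h0' : el (ZMod 2) (conjU c e) = el (ZMod 2) (mulU e s) := ec_el h0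
      have h2 : conjU c e % 2 ^ 24 = mulU e s % 2 ^ 24 := mod_24.1 h0'
      have hdvd : (2 : ℕ) ^ (k + 1) ∣ 2 ^ 24 := pow_dvd_pow 2 hk
      have h3 : conjU c e % 2 ^ (k + 1) = mulU e s % 2 ^ (k + 1) := by
        rw [← Nat.mod_mod_of_dvd _ hdvd, h2, Nat.mod_mod_of_dvd _ hdvd]
      have h4 : conjU c (e % 2 ^ (k + 1)) % 2 ^ (k + 1) = conjU c e % 2 ^ (k + 1) :=
        conjU_mod hk c (Nat.mod_mod _ _)
      have h5 : mulU (e % 2 ^ (k + 1)) s % 2 ^ (k + 1) = mulU e s % 2 ^ (k + 1) :=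
        mulU_mod hk (Nat.mod_mod _ _) rfl
      have h6 : conjU c (e % 2 ^ (k + 1)) % 2 ^ (k + 1) = mulU (e % 2 ^ (k + 1)) s % 2 ^ (k + 1) := by
        rw [h4, h5, h3]
      rw [h6]
      exact Nat.beq_refl _

/-- every element of `U` with `[u, U] ≤ C` has a code among the survivors -/
theorem mem_surv {C : List ℕ} {u : LL} (hu : u ∈ BN.U)
    (h : ∀ g ∈ BN.U, ∃ s ∈ C, g * u * g⁻¹ = u * ec s) : ∃ e ∈ surv C 24, u = ec e := by
  obtain ⟨e, he, rfl⟩ := mem_UL_iff_ec.1 hu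
  refine ⟨e, ?_, rfl⟩
  have h1 := surv_spec (C := C) (e := e) (fun c _ => h (ec c) (ec_mem_UL c)) 24 le_rfl
  rwa [Nat.mod_eq_of_lt he] at h1

theorem surv_c : ((surv [0, 9437184] 24).all fun e => [0, 1048576, 8388608, 9437184].contains e) = true := by
  decide +kernel

theorem surv_l : ((surv [0, 8388608] 24).all fun e =>
    [0, 1048576, 4194304, 5242880, 8388608, 9437184, 12582912, 13631488].contains e) = true := by decide +kernel

theorem surv_l' : ((surv [0, 8388608, 5242880, 13631488] 24).all fun e =>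
    [0, 1048576, 4194304, 5242880, 8388608, 9437184, 12582912, 13631488].contains e) = true := by decide +kernel

theorem surv_s : ((surv [0, 1048576] 24).all fun e =>
    [0, 65536, 1048576, 1114112, 8388608, 8454144, 9437184, 9502720].contains e) = true := by decide +kernel

theorem surv_s' : ((surv [0, 1048576, 8454144, 9502720] 24).all fun e =>
    [0, 65536, 1048576, 1114112, 8388608, 8454144, 9437184, 9502720].contains e) = true := by decide +kernel

/-! ### group form -/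

theorem ec_40 : x 40 = ec 65536 := by
  rw [x_eq_ec (by omega) (by omega), show 2 ^ (40 - 24) = 65536 by norm_num]

theorem ec_46 : x 46 = ec 4194304 := by
  rw [x_eq_ec (by omega) (by omega), show 2 ^ (46 - 24) = 4194304 by norm_num]

/-- the four elements of the centre of `U` -/
def ZU (u : LL) : Prop := u = 1 ∨ u = x 44 ∨ u = x 47 ∨ u = x 47 * x 44

theorem ec_zc : ec 9437184 = x 47 * x 44 := by
  rw [ec47, ec44, ← ec_mulU]
  congr 1
theorem ec_4 (a b : ℕ) (c : ℕ) (h : mulU a b = c) : ec c = ec a * ec b := by rw [← h, ec_mulU]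

theorem cen_c {u : LL} (hu : u ∈ BN.U) (h : ∀ g ∈ BN.U, g * u * g⁻¹ = u ∨ g * u * g⁻¹ = u * (x 47 * x 44)) : ZU u := by
  obtain ⟨e, he, rfl⟩ := mem_surv (C := [0, 9437184]) hu fun g hg => by
    rcases h g hg with h1 | h1
    · exact ⟨0, by simp, by rw [ec_zero, mul_one]; exact h1⟩
    · exact ⟨9437184, by simp, by rw [ec_zc]; exact h1⟩
  have h1 := surv_c
  rw [List.all_eq_true] at h1
  have h2 := h1 e he
  simp only [List.contains_eq_mem, List.mem_cons, List.not_mem_nil, or_false, decide_eq_true_eq] at h2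
  rcases h2 with rfl | rfl | rfl | rfl
  · exact Or.inl ec_zero
  · exact Or.inr (Or.inl ec44.symm)
  · exact Or.inr (Or.inr (Or.inl ec47.symm))
  · exact Or.inr (Or.inr (Or.inr ec_zc))

/-- `u ∈ Z(U)` or `u ∈ x 46 Z(U)` -/
def Zl (u : LL) : Prop := ZU u ∨ u = x 46 ∨ u = x 46 * x 44 ∨ u = x 46 * x 47 ∨ u = x 46 * (x 47 * x 44)

/-- `u ∈ Z(U)` or `u ∈ x 40 Z(U)` -/
def Zs (u : LL) : Prop := ZU u ∨ u = x 40 ∨ u = x 40 * x 44 ∨ u = x 40 * x 47 ∨ u = x 40 * (x 47 * x 44)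

theorem l_codes {e : ℕ}
    (h : [0, 1048576, 4194304, 5242880, 8388608, 9437184, 12582912, 13631488].contains e = true) : Zl (ec e) := by
  simp only [List.contains_eq_mem, List.mem_cons, List.not_mem_nil, or_false, decide_eq_true_eq] at h
  rcases h with rfl | rfl | rfl | rfl | rfl | rfl | rfl | rfl
  · exact Or.inl (Or.inl ec_zero)
  · exact Or.inl (Or.inr (Or.inl ec44.symm))
  · exact Or.inr (Or.inl ec_46.symm)
  · refine Or.inr (Or.inr (Or.inl ?_))
    rw [ec_46, ec44]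
    exact ec_4 _ _ _ (by decide +kernel)
  · exact Or.inl (Or.inr (Or.inr (Or.inl ec47.symm)))
  · exact Or.inl (Or.inr (Or.inr (Or.inr ec_zc)))
  · refine Or.inr (Or.inr (Or.inr (Or.inl ?_)))
    rw [ec_46, ec47]
    exact ec_4 _ _ _ (by decide +kernel)
  · refine Or.inr (Or.inr (Or.inr (Or.inr ?_)))
    rw [← ec_zc, ec_46]
    exact ec_4 _ _ _ (by decide +kernel)

theorem s_codes {e : ℕ}
    (h : [0, 65536, 1048576, 1114112, 8388608, 8454144, 9437184, 9502720].contains e = true) : Zs (ec e) := by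
  simp only [List.contains_eq_mem, List.mem_cons, List.not_mem_nil, or_false, decide_eq_true_eq] at h
  rcases h with rfl | rfl | rfl | rfl | rfl | rfl | rfl | rfl
  · exact Or.inl (Or.inl ec_zero)
  · exact Or.inr (Or.inl ec_40.symm)
  · exact Or.inl (Or.inr (Or.inl ec44.symm))
  · refine Or.inr (Or.inr (Or.inl ?_))
    rw [ec_40, ec44]
    exact ec_4 _ _ _ (by decide +kernel)
  · exact Or.inl (Or.inr (Or.inr (Or.inl ec47.symm)))
  · refine Or.inr (Or.inr (Or.inr (Or.inl ?_)))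
    rw [ec_40, ec47]
    exact ec_4 _ _ _ (by decide +kernel)
  · exact Or.inl (Or.inr (Or.inr (Or.inr ec_zc)))
  · refine Or.inr (Or.inr (Or.inr (Or.inr ?_)))
    rw [← ec_zc, ec_40]
    exact ec_4 _ _ _ (by decide +kernel)

/-- `[u, U] ≤ ⟨z_l⟩` -/
theorem cen_l {u : LL} (hu : u ∈ BN.U) (h : ∀ g ∈ BN.U, g * u * g⁻¹ = u ∨ g * u * g⁻¹ = u * x 47) : Zl u := by
  obtain ⟨e, he, rfl⟩ := mem_surv (C := [0, 8388608]) hu fun g hg => by
    rcases h g hg with h1 | h1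
    · exact ⟨0, by simp, by rw [ec_zero, mul_one]; exact h1⟩
    · exact ⟨8388608, by simp, by rw [← ec47]; exact h1⟩
  have h1 := surv_l
  rw [List.all_eq_true] at h1
  exact l_codes (h1 e he)

/-- `[u, U] ≤ ⟨z_s⟩` -/
theorem cen_s {u : LL} (hu : u ∈ BN.U) (h : ∀ g ∈ BN.U, g * u * g⁻¹ = u ∨ g * u * g⁻¹ = u * x 44) : Zs u := by
  obtain ⟨e, he, rfl⟩ := mem_surv (C := [0, 1048576]) hu fun g hg => by
    rcases h g hg with h1 | h1
    · exact ⟨0, by simp, by rw [ec_zero, mul_one]; exact h1⟩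
    · exact ⟨1048576, by simp, by rw [← ec44]; exact h1⟩
  have h1 := surv_s
  rw [List.all_eq_true] at h1
  exact s_codes (h1 e he)

/-- `[u, U] ≤ ⟨z_l, x 46 z_s⟩` -/
theorem cen_l' {u : LL} (hu : u ∈ BN.U) (h : ∀ g ∈ BN.U, g * u * g⁻¹ = u ∨ g * u * g⁻¹ = u * x 47 ∨
    g * u * g⁻¹ = u * (x 46 * x 44) ∨ g * u * g⁻¹ = u * (x 46 * (x 47 * x 44))) : Zl u := by
  obtain ⟨e, he, rfl⟩ := mem_surv (C := [0, 8388608, 5242880, 13631488]) hu fun g hg => by
    rcases h g hg with h1 | h1 | h1 | h1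
    · exact ⟨0, by simp, by rw [ec_zero, mul_one]; exact h1⟩
    · exact ⟨8388608, by simp, by rw [← ec47]; exact h1⟩
    · refine ⟨5242880, by simp, ?_⟩
      rw [h1, ec_46, ec44, ← ec_4 4194304 1048576 5242880 (by decide +kernel)]
    · refine ⟨13631488, by simp, ?_⟩
      rw [h1, ← ec_zc, ec_46, ← ec_4 4194304 9437184 13631488 (by decide +kernel)]
  have h1 := surv_l'
  rw [List.all_eq_true] at h1
  exact l_codes (h1 e he)

/-- `[u, U] ≤ ⟨z_s, x 40 z_l⟩` -/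
theorem cen_s' {u : LL} (hu : u ∈ BN.U) (h : ∀ g ∈ BN.U, g * u * g⁻¹ = u ∨ g * u * g⁻¹ = u * x 44 ∨
    g * u * g⁻¹ = u * (x 40 * x 47) ∨ g * u * g⁻¹ = u * (x 40 * (x 47 * x 44))) : Zs u := by
  obtain ⟨e, he, rfl⟩ := mem_surv (C := [0, 1048576, 8454144, 9502720]) hu fun g hg => by
    rcases h g hg with h1 | h1 | h1 | h1
    · exact ⟨0, by simp, by rw [ec_zero, mul_one]; exact h1⟩
    · exact ⟨1048576, by simp, by rw [← ec44]; exact h1⟩
    · refine ⟨8454144, by simp, ?_⟩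
      rw [h1, ec_40, ec47, ← ec_4 65536 8388608 8454144 (by decide +kernel)]
    · refine ⟨9502720, by simp, ?_⟩
      rw [h1, ← ec_zc, ec_40, ← ec_4 65536 9437184 9502720 (by decide +kernel)]
  have h1 := surv_s'
  rw [List.all_eq_true] at h1
  exact s_codes (h1 e he)

end Cfsg.Agent.FourTwo.ZTwo
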